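import Cfsg.Agent.EqLemmas
import Cfsg.Agent.Lib.Schur.Basic
import Cfsg.Agent.Lib.SLTwoMult.Basic

/-!
# Trivial Schur multipliers from local data

* `hasCyclicSchurMultiplier_one_of_prime`: it suffices to exclude stem extensions with kernel of
  prime order.
* `not_stem_of_not_sq_dvd`: no such extension at a prime dividing the order at most once.
* `not_stem_three_abelian`, `not_stem_three`: Sylow 3-subgroups of order 9 or 27 with an element
  acting suitably.
-/

set_option autoImplicit false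

open scoped commutatorElement

namespace Cfsg.Agent.Multiplier

universe u v

/-- Only kernels of prime order need to be excluded. -/
theorem hasCyclicSchurMultiplier_one_of_prime {G : Type u} [Group G] [Finite G]
    (h : ∀ (Γ : Type u) [Group Γ] [Finite Γ] (σ : Γ →* G), Cfsg.IsStemExtension σ →
      ∀ p : ℕ, p.Prime → Nat.card σ.ker ≠ p) :
    Cfsg.HasCyclicSchurMultiplier G 1 := by
  refine SLTwoMult.hasCyclicSchurMultiplier_one fun Γ _ _ σ hσ r hr z hz _ => ?_
  by_contra hne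
  have hnb : (⊥ : Subgroup σ.ker) ≠ ⊤ := by
    intro hb
    have : (⟨z, hz⟩ : σ.ker) ∈ (⊥ : Subgroup σ.ker) := hb ▸ Subgroup.mem_top _
    exact hne (congrArg Subtype.val (Subgroup.mem_bot.1 this))
  obtain ⟨M, hM, -⟩ := (eq_top_or_exists_le_coatom (⊥ : Subgroup σ.ker)).resolve_left hnb
  have hcomm : ∀ x y : σ.ker, x * y = y * x := fun x y =>
    Subtype.ext (Subgroup.mem_center_iff.1 (hσ.2.1 y.2) x.1)
  have : M.Normal := ⟨fun n hn g => by rwa [hcomm g n, mul_inv_cancel_right]⟩
  -- the index of `M` is prime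
  have hprime : (M.index).Prime := by
    have hne1 : M.index ≠ 1 := fun h1 => hM.1 (Subgroup.index_eq_one.1 h1)
    obtain ⟨p, hp, hpd⟩ := Nat.exists_prime_and_dvd hne1
    have := Fact.mk hp
    obtain ⟨q, hq⟩ := exists_prime_orderOf_dvd_card' (G := σ.ker ⧸ M) p hpd
    obtain ⟨x, rfl⟩ := QuotientGroup.mk'_surjective M q
    have hx : x ∉ M := fun hx => by
      rw [QuotientGroup.mk'_apply, (QuotientGroup.eq_one_iff x).2 hx, orderOf_one] at hq
      exact hp.ne_one hq.symm
    have htop : (Subgroup.zpowers (QuotientGroup.mk' M x)) = ⊤ := by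
      have hlt : M < (Subgroup.zpowers (QuotientGroup.mk' M x)).comap (QuotientGroup.mk' M) := by
        refine lt_of_le_of_ne (fun m hm => ?_) fun he => hx ?_
        · rw [Subgroup.mem_comap, show QuotientGroup.mk' M m = 1 from (QuotientGroup.eq_one_iff m).2 hm]
          exact one_mem _
        · rw [he, Subgroup.mem_comap]; exact Subgroup.mem_zpowers _
      have := hM.2 _ hlt
      rw [← Subgroup.map_comap_eq_self_of_surjective (QuotientGroup.mk'_surjective M)
        (Subgroup.zpowers (QuotientGroup.mk' M x)), this,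
        Subgroup.map_top_of_surjective _ (QuotientGroup.mk'_surjective M)]
    have : M.index = p := by
      change Nat.card (σ.ker ⧸ M) = p
      rw [← Subgroup.card_top, ← htop, Nat.card_zpowers, hq]
    rw [this]; exact hp
  let N : Subgroup Γ := M.map σ.ker.subtype
  have hNle : N ≤ σ.ker := Subgroup.map_subtype_le M
  have hNn : N.Normal := ⟨fun n hn g => by
    rw [Subgroup.mem_center_iff.1 (hσ.2.1 (hNle hn)) g, mul_inv_cancel_right]; exact hn⟩
  let τ : Γ ⧸ N →* G := QuotientGroup.lift N σ hNle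
  have hker : τ.ker = σ.ker.map (QuotientGroup.mk' N) := QuotientGroup.ker_lift N σ hNle
  have hstem : Cfsg.IsStemExtension τ := by
    refine ⟨fun g => ?_, ?_, ?_⟩
    · obtain ⟨x, hx⟩ := hσ.1 g
      exact ⟨QuotientGroup.mk' N x, hx⟩
    · rw [hker]
      rintro _ ⟨x, hx, rfl⟩
      rw [Subgroup.mem_center_iff]
      intro g
      obtain ⟨y, rfl⟩ := QuotientGroup.mk'_surjective N g
      rw [← map_mul, ← map_mul, Subgroup.mem_center_iff.1 (hσ.2.1 hx) y]
    · rw [hker]
      refine (Subgroup.map_mono hσ.2.2).trans ?_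
      rw [commutator_def, Subgroup.map_commutator]
      exact Subgroup.commutator_mono le_top le_top
  refine h (Γ ⧸ N) τ hstem M.index hprime ?_
  let f : σ.ker →* Γ ⧸ N := (QuotientGroup.mk' N).comp σ.ker.subtype
  have hfr : f.range = τ.ker := by
    rw [hker, MonoidHom.range_comp, Subgroup.range_subtype]
  have hfk : f.ker = M := by
    ext x
    rw [MonoidHom.mem_ker, MonoidHom.comp_apply, QuotientGroup.mk'_apply, QuotientGroup.eq_one_iff]
    exact ⟨fun ⟨m, hm, he⟩ => Subtype.ext he ▸ hm, fun hx => ⟨x, hx, rfl⟩⟩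
  rw [← hfr, ← Subgroup.index_ker, hfk]

section

variable {G : Type v} [Group G] {Γ : Type u} [Group Γ] [Finite Γ] {σ : Γ →* G}

/-- The kernel of order `p` lies in the derived group of the preimage of a subgroup of index prime
to `p`; stated for a generating set. -/
theorem ker_le_commutator_closure (hσ : Cfsg.IsStemExtension σ) {p : ℕ} (hp : p.Prime)
    (hK : Nat.card σ.ker = p) (S : Set Γ) (hKS : (σ.ker : Set Γ) ⊆ S) (Q : Subgroup G)
    (hQS : Q ≤ (Subgroup.closure S).map σ) (hQ : ¬ p ∣ Q.index) :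
    σ.ker ≤ ⁅Subgroup.closure S, Subgroup.closure S⁆ := by
  intro z hz
  have hle : σ.ker ≤ Subgroup.closure S := fun x hx => Subgroup.subset_closure (hKS hx)
  have hidx : ¬ p ∣ (Subgroup.closure S).index := by
    rw [← Subgroup.index_map_eq _ hσ.1 hle]
    exact fun hd => hQ (hd.trans (Subgroup.index_dvd_of_le hQS))
  have hord : z ^ p ^ 1 = 1 := by
    rw [pow_one, ← hK]
    exact congrArg Subtype.val (pow_card_eq_one' (x := (⟨z, hz⟩ : σ.ker)))
  have h := Schur.mem_commutator_of_not_dvd_index hp (Subgroup.closure S) hidx (hle hz) (hσ.2.1 hz)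
    (hσ.2.2 hz) hord
  have h' := Subgroup.mem_map_of_mem (Subgroup.closure S).subtype h
  rwa [Subgroup.map_subtype_commutator] at h'

/-- Derived group of a generated subgroup inside a normalised subgroup. -/
theorem commutator_closure_le (S : Set Γ) (M : Subgroup Γ)
    (hgen : ∀ s ∈ S, ∀ t ∈ S, ⁅s, t⁆ ∈ M) (hnorm : ∀ s ∈ S, ∀ m ∈ M, s * m * s⁻¹ ∈ M) :
    ⁅Subgroup.closure S, Subgroup.closure S⁆ ≤ M := by
  -- conjugation by a generator maps the finite subgroup `M` onto itself
  have hnorm' : ∀ g ∈ Subgroup.closure S, ∀ m ∈ M, g * m * g⁻¹ ∈ M := by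
    intro g hg
    induction hg using Subgroup.closure_induction with
    | mem x hx => exact hnorm x hx
    | one => intro m hm; simpa using hm
    | mul x y _ _ hx hy =>
      intro m hm
      have := hx _ (hy m hm)
      rwa [show x * (y * m * y⁻¹) * x⁻¹ = x * y * m * (x * y)⁻¹ by group] at this
    | inv x _ hx =>
      intro m hm
      have hsurj : Function.Surjective (fun y : M => (⟨x * y * x⁻¹, hx y y.2⟩ : M)) :=
        Finite.surjective_of_injective fun a b hab => Subtype.ext (by simpa using congrArg Subtype.val hab)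
      obtain ⟨y, hy⟩ := hsurj ⟨m, hm⟩
      have hy' : x * (y : Γ) * x⁻¹ = m := congrArg Subtype.val hy
      rw [← hy', show x⁻¹ * (x * (y : Γ) * x⁻¹) * x⁻¹⁻¹ = y by group]
      exact y.2
  have hleft : ∀ t : Γ, (∀ s ∈ S, ⁅s, t⁆ ∈ M) → ∀ g ∈ Subgroup.closure S, ⁅g, t⁆ ∈ M := by
    intro t ht g hg
    induction hg using Subgroup.closure_induction with
    | mem x hx => exact ht x hx
    | one => rw [commutatorElement_one_left]; exact one_mem M
    | mul x y hx _ h1 h2 =>
      rw [show ⁅x * y, t⁆ = x * ⁅y, t⁆ * x⁻¹ * ⁅x, t⁆ by simp only [commutatorElement_def]; group]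
      exact mul_mem (hnorm' x hx _ h2) h1
    | inv x hx h1 =>
      rw [show ⁅x⁻¹, t⁆ = x⁻¹ * ⁅x, t⁆⁻¹ * x⁻¹⁻¹ by simp only [commutatorElement_def]; group]
      exact hnorm' _ (inv_mem hx) _ (inv_mem h1)
  rw [Subgroup.commutator_le]
  intro g hg k hk
  refine hleft k (fun s hs => ?_) g hg
  rw [← commutatorElement_inv]
  exact inv_mem (hleft s (fun r hr => hgen r hr s hs) k hk)

omit [Finite Γ] in
/-- Commutators in a central extension only depend on the images. -/
theorem commutator_congr (hc : σ.ker ≤ Subgroup.center Γ) {x x' y y' : Γ}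
    (hx : σ x = σ x') (hy : σ y = σ y') : ⁅x, y⁆ = ⁅x', y'⁆ := by
  have key : ∀ {u v : Γ}, σ u = σ v → ∃ z : Γ, (∀ g, g * z = z * g) ∧ u = v * z := by
    intro u v h
    exact ⟨v⁻¹ * u, fun g => Subgroup.mem_center_iff.1
      (hc (by rw [MonoidHom.mem_ker, map_mul, map_inv, h, inv_mul_cancel])) g,
      (mul_inv_cancel_left _ _).symm⟩
  obtain ⟨z, hz, rfl⟩ := key hx
  obtain ⟨w, hw, rfl⟩ := key hy
  simp only [commutatorElement_def, mul_inv_rev]
  calc x' * z * (y' * w) * (z⁻¹ * x'⁻¹) * (w⁻¹ * y'⁻¹)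
      = x' * (z * y') * (w * (z⁻¹ * x'⁻¹) * w⁻¹) * y'⁻¹ := by group
    _ = x' * (y' * z) * (z⁻¹ * x'⁻¹) * y'⁻¹ := by
        rw [hz y', ← hw (z⁻¹ * x'⁻¹), mul_assoc (z⁻¹ * x'⁻¹) w w⁻¹, mul_inv_cancel, mul_one]
    _ = x' * y' * x'⁻¹ * y'⁻¹ := by group

omit [Finite Γ] in
theorem conj_commutator (g x y : Γ) : g * ⁅x, y⁆ * g⁻¹ = ⁅g * x * g⁻¹, g * y * g⁻¹⁆ := by
  simp only [commutatorElement_def]; group

omit [Finite Γ] in
theorem eq_one_of_three {k : Γ} (h2 : k = k⁻¹) (h3 : k ^ 3 = 1) : k = 1 := by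
  rw [show k ^ 3 = k * k * k from pow_three' k, eq_inv_iff_mul_eq_one.1 h2, one_mul] at h3
  exact h3

/-- No stem extension with kernel of order `p` when `p` divides `|G|` only once. -/
theorem not_stem_of_not_sq_dvd [Finite G] (hσ : Cfsg.IsStemExtension σ) {p : ℕ} (hp : p.Prime)
    (h : ¬ p ^ 2 ∣ Nat.card G) : Nat.card σ.ker ≠ p := by
  intro hK
  have := Fact.mk hp
  have hz : ∀ z ∈ σ.ker, z ^ p ^ 1 = 1 := fun z hz => by
    rw [pow_one, ← hK]
    exact congrArg Subtype.val (pow_card_eq_one' (x := (⟨z, hz⟩ : σ.ker)))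
  have hbot : σ.ker = ⊥ := by
    rw [Subgroup.eq_bot_iff_forall]
    intro z hzk
    by_cases hd : p ∣ Nat.card G
    · obtain ⟨r, hr⟩ := exists_prime_orderOf_dvd_card' (G := G) p hd
      refine Schur.eq_one_of_cyclic hσ hp r (fun hdi => h ?_) hzk (hz z hzk)
      rw [pow_two, ← (Subgroup.zpowers r).card_mul_index, Nat.card_zpowers, hr]
      exact Nat.mul_dvd_mul_left p hdi
    · refine Schur.eq_one_of_cyclic hσ hp 1 (fun hdi => hd ?_) hzk (hz z hzk)
      rwa [Subgroup.zpowers_one_eq_bot, Subgroup.index_bot] at hdi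
  rw [hbot, Subgroup.card_bot] at hK
  exact hp.ne_one hK.symm

/-- No triple stem extension when a Sylow 3-subgroup is `⟨a, b⟩` abelian and some element fixes `a`
and inverts `b`. -/
theorem not_stem_three_abelian (hσ : Cfsg.IsStemExtension σ) {a b g : G} (hab : Commute a b)
    (hga : g * a * g⁻¹ = a) (hgb : g * b * g⁻¹ = b⁻¹)
    (hidx : ¬ 3 ∣ (Subgroup.closure {a, b}).index) : Nat.card σ.ker ≠ 3 := by
  intro hK
  obtain ⟨x, rfl⟩ := hσ.1 a
  obtain ⟨y, rfl⟩ := hσ.1 b
  obtain ⟨t, rfl⟩ := hσ.1 g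
  have hc := hσ.2.1
  have hk : ⁅x, y⁆ ∈ σ.ker := by
    rw [MonoidHom.mem_ker, map_commutatorElement, commutatorElement_eq_one_iff_commute]; exact hab
  have h1 : ⁅x, y⁆ = ⁅x, y⁻¹⁆ := by
    have e := conj_commutator t x y
    rw [Subgroup.mem_center_iff.1 (hc hk) t, mul_inv_cancel_right] at e
    rw [e]
    exact commutator_congr hc (by rw [map_mul, map_mul, map_inv, hga])
      (by rw [map_mul, map_mul, map_inv, hgb, map_inv])
  have h2 : ⁅x, y⁻¹⁆ = ⁅x, y⁆⁻¹ := by
    rw [show ⁅x, y⁻¹⁆ = y⁻¹ * ⁅x, y⁆⁻¹ * y by simp only [commutatorElement_def]; group,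
      Subgroup.mem_center_iff.1 (inv_mem (hc hk)) y⁻¹, inv_mul_cancel_right]
  have hone : ⁅x, y⁆ = 1 := eq_one_of_three (h1.trans h2) (by
    rw [← hK]; exact congrArg Subtype.val (pow_card_eq_one' (x := (⟨_, hk⟩ : σ.ker))))
  have hcomm : Commute x y := commutatorElement_eq_one_iff_commute.1 hone
  have hle := ker_le_commutator_closure hσ Nat.prime_three hK ({x, y} ∪ (σ.ker : Set Γ))
    Set.subset_union_right (Subgroup.closure {σ x, σ y}) (by
      rw [Subgroup.closure_le]
      rintro _ (rfl | rfl)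
      · exact ⟨x, Subgroup.subset_closure (Or.inl (Or.inl rfl)), rfl⟩
      · exact ⟨y, Subgroup.subset_closure (Or.inl (Or.inr rfl)), rfl⟩) hidx
  have hbot : σ.ker ≤ ⊥ := hle.trans (commutator_closure_le _ ⊥ (fun s hs r hr => by
    rw [Subgroup.mem_bot, commutatorElement_eq_one_iff_commute]
    rcases hs with (rfl | rfl) | hs
    · rcases hr with (rfl | rfl) | hr
      · exact Commute.refl _
      · exact hcomm
      · exact Subgroup.mem_center_iff.1 (hc hr) _
    · rcases hr with (rfl | rfl) | hr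
      · exact hcomm.symm
      · exact Commute.refl _
      · exact Subgroup.mem_center_iff.1 (hc hr) _
    · exact (Subgroup.mem_center_iff.1 (hc hs) _).symm) (fun s _ m hm => by
      rw [Subgroup.mem_bot] at hm ⊢; subst hm; group))
  rw [le_bot_iff.1 hbot, Subgroup.card_bot] at hK
  norm_num at hK

/-- No triple stem extension when a Sylow 3-subgroup is `⟨a, b⟩` of class at most 2 and some
element inverts both generators. -/
theorem not_stem_three (hσ : Cfsg.IsStemExtension σ) {a b g : G} (ha : a * a * a = 1)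
    (hca : Commute ⁅a, b⁆ a) (hcb : Commute ⁅a, b⁆ b) (hcne : ⁅a, b⁆ ≠ 1)
    (hga : g * a * g⁻¹ = a⁻¹) (hgb : g * b * g⁻¹ = b⁻¹)
    (hidx : ¬ 3 ∣ (Subgroup.closure {a, b}).index) : Nat.card σ.ker ≠ 3 := by
  intro hK
  obtain ⟨x, rfl⟩ := hσ.1 a
  obtain ⟨y, rfl⟩ := hσ.1 b
  obtain ⟨t, rfl⟩ := hσ.1 g
  have hc := hσ.2.1
  set w := ⁅x, y⁆ with hwdef
  have hσw : σ w = ⁅σ x, σ y⁆ := map_commutatorElement σ x y
  have hcube : ∀ k ∈ σ.ker, k ^ 3 = 1 := fun k hk => by
    rw [← hK]; exact congrArg Subtype.val (pow_card_eq_one' (x := (⟨k, hk⟩ : σ.ker)))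
  have hkey : ∀ s : Γ, σ t * σ s * (σ t)⁻¹ = (σ s)⁻¹ → Commute (σ w) (σ s) → Commute w s := by
    intro s hs hws
    have hk : ⁅w, s⁆ ∈ σ.ker := by
      rw [MonoidHom.mem_ker, map_commutatorElement, commutatorElement_eq_one_iff_commute]; exact hws
    have hw' : σ (t * w * t⁻¹) = σ w := by
      rw [map_mul, map_mul, map_inv, hσw, conj_commutator_g (σ t), hga, hgb]
      exact commutator_inv_inv hca hcb
    have h1 : ⁅w, s⁆ = ⁅w, s⁻¹⁆ := by
      have e := conj_commutator t w s
      rw [Subgroup.mem_center_iff.1 (hc hk) t, mul_inv_cancel_right] at e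
      rw [e]
      exact commutator_congr hc hw' (by rw [map_mul, map_mul, map_inv, hs, map_inv])
    have h2 : ⁅w, s⁻¹⁆ = ⁅w, s⁆⁻¹ := by
      rw [show ⁅w, s⁻¹⁆ = s⁻¹ * ⁅w, s⁆⁻¹ * s by simp only [commutatorElement_def]; group,
        Subgroup.mem_center_iff.1 (inv_mem (hc hk)) s⁻¹, inv_mul_cancel_right]
    exact commutatorElement_eq_one_iff_commute.1 (eq_one_of_three (h1.trans h2) (hcube _ hk))
  have hwx : Commute w x := hkey x hga (by rw [hσw]; exact hca)
  have hwy : Commute w y := hkey y hgb (by rw [hσw]; exact hcb)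
  -- `w ^ 3 = 1`
  have hw3 : w ^ 3 = 1 := by
    have hstep : x * y * x⁻¹ = w * y := by rw [hwdef, commutatorElement_def]; group
    have hst : ∀ n : ℕ, x * (w ^ n * y) * x⁻¹ = w ^ (n + 1) * y := fun n => by
      calc x * (w ^ n * y) * x⁻¹ = (x * w ^ n * x⁻¹) * (x * y * x⁻¹) := by group
        _ = w ^ n * (w * y) := by rw [hstep, ← (hwx.pow_left n).eq, mul_inv_cancel_right]
        _ = w ^ (n + 1) * y := by rw [pow_succ, mul_assoc]
    have h3 : x * x * x * y * (x * x * x)⁻¹ = w ^ 3 * y := by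
      rw [show x * x * x * y * (x * x * x)⁻¹ = x * (x * (x * (w ^ 0 * y) * x⁻¹) * x⁻¹) * x⁻¹ by
        rw [pow_zero, one_mul]; group, hst, hst, hst]
    have hx3 : x * x * x ∈ Subgroup.center Γ := hc (by rw [MonoidHom.mem_ker, map_mul, map_mul, ha])
    rw [← Subgroup.mem_center_iff.1 hx3 y, mul_inv_cancel_right] at h3
    exact right_eq_mul.1 h3
  have hle := ker_le_commutator_closure hσ Nat.prime_three hK ({x, y} ∪ (σ.ker : Set Γ))
    Set.subset_union_right (Subgroup.closure {σ x, σ y}) (by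
      rw [Subgroup.closure_le]
      rintro _ (rfl | rfl)
      · exact ⟨x, Subgroup.subset_closure (Or.inl (Or.inl rfl)), rfl⟩
      · exact ⟨y, Subgroup.subset_closure (Or.inl (Or.inr rfl)), rfl⟩) hidx
  have hwz : σ.ker ≤ Subgroup.zpowers w := hle.trans (commutator_closure_le _ _ (fun s hs r hr => by
    have hcen : ∀ {p q : Γ}, Commute p q → ⁅p, q⁆ ∈ Subgroup.zpowers w := fun h => by
      rw [commutatorElement_eq_one_iff_commute.2 h]; exact one_mem _
    rcases hs with (rfl | rfl) | hs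
    · rcases hr with (rfl | rfl) | hr
      · exact hcen (Commute.refl _)
      · exact Subgroup.mem_zpowers w
      · exact hcen (Subgroup.mem_center_iff.1 (hc hr) _)
    · rcases hr with (rfl | rfl) | hr
      · rw [← commutatorElement_inv]; exact inv_mem (Subgroup.mem_zpowers w)
      · exact hcen (Commute.refl _)
      · exact hcen (Subgroup.mem_center_iff.1 (hc hr) _)
    · exact hcen (Subgroup.mem_center_iff.1 (hc hs) _).symm) (fun s hs m hm => by
      have hsw : Commute s w := by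
        rcases hs with (rfl | rfl) | hs
        · exact hwx.symm
        · exact hwy.symm
        · exact (Subgroup.mem_center_iff.1 (hc hs) _).symm
      obtain ⟨n, rfl⟩ := Subgroup.mem_zpowers_iff.1 hm
      rw [(hsw.zpow_right n).eq, mul_inv_cancel_right]
      exact Subgroup.zpow_mem_zpowers w n))
  have : Fact (Nat.Prime 3) := ⟨Nat.prime_three⟩
  have hσw3 : orderOf (σ w) = 3 :=
    orderOf_eq_prime (by rw [← map_pow, hw3, map_one]) (by rw [hσw]; exact hcne)
  have hbot : σ.ker = ⊥ := by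
    rw [Subgroup.eq_bot_iff_forall]
    intro z hz
    obtain ⟨n, rfl⟩ := Subgroup.mem_zpowers_iff.1 (hwz hz)
    rw [MonoidHom.mem_ker, map_zpow, ← orderOf_dvd_iff_zpow_eq_one, hσw3] at hz
    obtain ⟨m, rfl⟩ := hz
    rw [zpow_mul, show w ^ ((3 : ℕ) : ℤ) = w ^ (3 : ℕ) from zpow_natCast w 3, hw3, one_zpow]
  rw [hbot, Subgroup.card_bot] at hK
  norm_num at hK
where
  conj_commutator_g (g x y : G) : g * ⁅x, y⁆ * g⁻¹ = ⁅g * x * g⁻¹, g * y * g⁻¹⁆ := by
    simp only [commutatorElement_def]; group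
  commutator_inv_inv {x y : G} (hx : Commute ⁅x, y⁆ x) (hy : Commute ⁅x, y⁆ y) : ⁅x⁻¹, y⁻¹⁆ = ⁅x, y⁆ := by
    have h : ⁅x⁻¹, y⁻¹⁆ = (y * x)⁻¹ * ⁅x, y⁆ * (y * x) := by
      simp only [commutatorElement_def]; group
    rw [h, mul_assoc, (hy.mul_right hx).eq, inv_mul_cancel_left]

end

end Cfsg.Agent.Multiplier
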