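import Cfsg.Agent.Lib.Multiplier.Basic

/-!
# Tail certificates

A central extension of a 2-group given by polycyclic generators is determined by the bits of the
tails of its power and conjugation relations.  `collect` computes normal forms together with the
linear form in the tails, so identities between words give linear equations on the tails.

* `collect_sound`: soundness of collection.
* `Fact`, `fval_of_fact`: equations from consistency, from conjugation of powers and from
  elements assumed to commute.
* `not_stem_two_of_tails`: the kernel of order 2 is outside the derived group of the preimage of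
  the 2-group when the certificate `check` holds.
-/

set_option autoImplicit false

open scoped commutatorElement

namespace Cfsg.Agent.Multiplier.TailCert

/-- Index of a relation. -/
def tidx (a b : ℕ) : ℕ := a * (a + 1) / 2 + b

/-- The letters of a normal form. -/
def letters (n e : ℕ) : List ℕ := (List.range n).filter e.testBit

theorem letters_zero (n : ℕ) : letters n 0 = [] :=
  List.filter_eq_nil_iff.2 fun i _ => by simp

/-- Right-hand side of the relation of `a ≥ b`, up to its tail. -/
def rep (n : ℕ) (w : List ℕ) (a b : ℕ) : List ℕ :=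
  if a = b then letters n (w.getD (tidx a b) 0) else b :: a :: letters n (w.getD (tidx a b) 0)

/-- One collection step. -/
def step (n : ℕ) (w : List ℕ) : List ℕ → Option (List ℕ × ℕ)
  | a :: b :: l =>
    if b ≤ a ∧ a < n then some (rep n w a b ++ l, 1 <<< tidx a b)
    else (step n w (b :: l)).map fun r => (a :: r.1, r.2)
  | _ => none

/-- A step at a given position. -/
def stepAt (n : ℕ) (w : List ℕ) (p : ℕ) (l : List ℕ) : List ℕ × ℕ :=
  match step n w (l.drop p) with
  | some r => (l.take p ++ r.1, r.2)
  | none => (l, 0)

/-- Collection. -/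
def collect (n : ℕ) (w : List ℕ) : ℕ → List ℕ → ℕ → List ℕ × ℕ
  | 0, l, f => (l, f)
  | k + 1, l, f =>
    match step n w l with
    | some r => collect n w k r.1 (f ^^^ r.2)
    | none => (l, f)

/-- Collection with enough fuel. -/
def nf (n : ℕ) (w : List ℕ) (l : List ℕ) : List ℕ × ℕ := collect n w 1000 l 0

/-- `k` repetitions. -/
def powL (l : List ℕ) : ℕ → List ℕ
  | 0 => []
  | k + 1 => l ++ powL l k

section sound

variable {M : Type*} [Monoid M] (A : ℕ → M)

/-- The product of a word. -/
def pw (l : List ℕ) : M := (l.map A).prod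

theorem pw_append (l r : List ℕ) : pw A (l ++ r) = pw A l * pw A r := by
  rw [pw, List.map_append, List.prod_append]; rfl

theorem pw_cons (a : ℕ) (l : List ℕ) : pw A (a :: l) = A a * pw A l := List.prod_cons

theorem pw_powL (l : List ℕ) (k : ℕ) : pw A (powL l k) = pw A l ^ k := by
  induction k with
  | zero => rw [powL, pow_zero]; rfl
  | succ k ih => rw [powL, pw_append, ih, pow_succ']

variable (T : ℕ → M)

/-- The value of a form in the tails. -/
def fval : ℕ → ℕ → M
  | 0, _ => 1
  | N + 1, f => fval N f * if f.testBit N then T N else 1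

variable {T}

theorem fval_comm (hc : ∀ k x, x * T k = T k * x) (N f : ℕ) (x : M) :
    x * fval T N f = fval T N f * x := by
  induction N generalizing x with
  | zero => simp [fval]
  | succ N ih =>
    rw [fval]
    split
    · rw [← mul_assoc, ih, mul_assoc, hc, mul_assoc]
    · rw [mul_one, ih]

theorem fval_zero (N : ℕ) : fval T N 0 = 1 := by
  induction N with
  | zero => rfl
  | succ N ih => simp [fval, ih]

theorem fval_xor (hc : ∀ k x, x * T k = T k * x) (hsq : ∀ k, T k * T k = 1) (N f g : ℕ) :
    fval T N (f ^^^ g) = fval T N f * fval T N g := by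
  induction N with
  | zero => simp [fval]
  | succ N ih =>
    simp only [fval, Nat.testBit_xor, ih]
    have h : ∀ u : M, fval T N f * u * fval T N g = fval T N f * fval T N g * u := fun u => by
      rw [mul_assoc, fval_comm hc N g u, ← mul_assoc]
    cases f.testBit N <;> cases g.testBit N <;> simp [mul_assoc]
    · rw [hc N (fval T N g)]
    · rw [hc N (fval T N g), ← mul_assoc (T N), hsq, one_mul]

theorem fval_bit {N k : ℕ} (hk : k < N) : fval T N (1 <<< k) = T k := by
  induction N with
  | zero => omega
  | succ N ih =>
    rw [fval]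
    rcases Nat.lt_or_ge k N with h | h
    · rw [ih h, if_neg (by simp [Nat.one_shiftLeft, Nat.testBit_two_pow]; omega), mul_one]
    · obtain rfl : k = N := by omega
      rw [if_pos (by simp [Nat.one_shiftLeft, Nat.testBit_two_pow])]
      have h0 : ∀ j, j ≤ k → fval T j (1 <<< k) = 1 := by
        intro j hj
        induction j with
        | zero => rfl
        | succ j ihj =>
          rw [fval, ihj (by omega), if_neg (by simp [Nat.one_shiftLeft, Nat.testBit_two_pow]; omega), mul_one]
      rw [h0 k le_rfl, one_mul]

theorem fval_eq_one (N f : ℕ) (h : ∀ k, k < N → f.testBit k = true → T k = 1) : fval T N f = 1 := by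
  induction N with
  | zero => rfl
  | succ N ih =>
    rw [fval, ih fun k hk => h k (by omega), one_mul]
    split
    · exact h N (by omega) ‹_›
    · rfl

variable {A} {n N : ℕ} {w : List ℕ}
  (hc : ∀ k x, x * T k = T k * x) (hsq : ∀ k, T k * T k = 1)
  (hrel : ∀ a b, a < n → b ≤ a → A a * A b = pw A (rep n w a b) * T (tidx a b))
  (hN : ∀ a b, a < n → b ≤ a → tidx a b < N)

include hc hrel hN in
theorem step_sound : ∀ l r, step n w l = some r → pw A l = pw A r.1 * fval T N r.2
  | [], r, h => by simp [step] at h
  | [a], r, h => by simp [step] at h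
  | a :: b :: l, r, h => by
    rw [step] at h
    by_cases hd : b ≤ a ∧ a < n
    · rw [if_pos hd, Option.some.injEq] at h
      subst h
      rw [pw_cons, pw_cons, ← mul_assoc, hrel a b hd.2 hd.1, fval_bit (hN a b hd.2 hd.1), pw_append,
        mul_assoc, mul_assoc, hc]
    · rw [if_neg hd, Option.map_eq_some_iff] at h
      obtain ⟨s, hs, rfl⟩ := h
      rw [pw_cons A a, pw_cons A a, step_sound _ s hs, mul_assoc]

include hc hrel hN in
theorem stepAt_sound (p : ℕ) (l : List ℕ) :
    pw A l = pw A (stepAt n w p l).1 * fval T N (stepAt n w p l).2 := by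
  rw [stepAt]
  cases hs : step n w (l.drop p) with
  | none => simp [fval_zero]
  | some r =>
    conv_lhs => rw [← List.take_append_drop p l]
    rw [pw_append, pw_append, step_sound hc hrel hN _ r hs, mul_assoc]

include hc hsq hrel hN in
theorem collect_sound (k : ℕ) : ∀ l f,
    pw A l * fval T N f = pw A (collect n w k l f).1 * fval T N (collect n w k l f).2 := by
  induction k with
  | zero => intro l f; rfl
  | succ k ih =>
    intro l f
    rw [collect]
    cases hs : step n w l with
    | none => rfl
    | some r =>
      dsimp only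
      rw [← ih r.1 (f ^^^ r.2), step_sound hc hrel hN _ r hs, fval_xor hc hsq, mul_assoc,
        fval_comm hc N f (fval T N r.2)]

include hc hsq hrel hN in
theorem nf_sound (l : List ℕ) : pw A l = pw A (nf n w l).1 * fval T N (nf n w l).2 := by
  have := collect_sound hc hsq hrel hN 1000 l 0
  rwa [fval_zero, mul_one] at this

end sound

/-- Sources of equations. -/
inductive Fact
  /-- Two first steps in the collection of the same word. -/
  | cons (l : List ℕ) (p q : ℕ)
  /-- The `2h`th powers of `x` and of its conjugate `x'` by element `c`. -/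
  | pow (x x' : List ℕ) (h c : ℕ)
  /-- The assumed commuting pair. -/
  | zero

/-- The equation of a fact. -/
def Fact.form (n : ℕ) (w X Y : List ℕ) : Fact → Option ℕ
  | .cons l p q =>
    let r := nf n w (stepAt n w p l).1
    let s := nf n w (stepAt n w q l).1
    if r.1 = s.1 then some (r.2 ^^^ (stepAt n w p l).2 ^^^ (s.2 ^^^ (stepAt n w q l).2)) else none
  | .pow x x' h _ =>
    let r := nf n w (powL x (2 * h))
    let s := nf n w (powL x' (2 * h))
    if r.1 = [] ∧ s.1 = [] then some (r.2 ^^^ s.2) else none
  | .zero =>
    let r := nf n w (X ++ Y)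
    let s := nf n w (Y ++ X)
    if r.1 = s.1 then some (r.2 ^^^ s.2) else none

/-- The sum of the equations of a list of facts. -/
def total (n : ℕ) (w X Y : List ℕ) : List Fact → Option ℕ
  | [] => some 0
  | a :: l => (a.form n w X Y).bind fun f => (total n w X Y l).map fun g => f ^^^ g

/-- Each derivation shows one further tail to be trivial. -/
def derived (n : ℕ) (w X Y : List ℕ) : List (ℕ × List Fact) → ℕ → Option ℕ
  | [], known => some known
  | (k, fs) :: l, known =>
    match total n w X Y fs with
    | some f => if (f ^^^ (1 <<< k)) ||| known = known then derived n w X Y l (known ||| (1 <<< k)) else none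
    | none => none

/-- The index pairs of the relations in order. -/
def pairs (n : ℕ) : List (ℕ × ℕ) :=
  (List.range n).flatMap fun a => (List.range (a + 1)).map fun b => (a, b)

/-- `e * i` has normal form among `es`, with form inside `known`. -/
def closedOK (n : ℕ) (w : List ℕ) (es gs : List ℕ) (known : ℕ) : Bool :=
  es.all fun e => gs.all fun i =>
    let r := nf n w (letters n e ++ [i])
    es.any (fun e' => r.1 == letters n e') && ((r.2 ||| known) == known)

/-- `i * j` and `e' * j * i` agree up to `known`. -/
def pairOK (n : ℕ) (w : List ℕ) (es : List ℕ) (known : ℕ) (l r : List ℕ) : Bool :=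
  es.any fun e =>
    let a := nf n w l
    let b := nf n w (letters n e ++ r)
    a.1 == b.1 && ((a.2 ^^^ b.2) ||| known == known)

/-- The certificate check: the elements `2^m e` give a subgroup holding the derived group. -/
def check (n m : ℕ) (w X Y : List ℕ) (init : ℕ) (ders : List (ℕ × List Fact)) : Bool :=
  match derived n w X Y ders init with
  | none => false
  | some known =>
    let es := (List.range (2 ^ (n - m))).map (2 ^ m * ·)
    let gs := (List.range n).filter (m ≤ ·)
    ((List.range n).all fun a => (List.range (a + 1)).all fun b =>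
      (pairs n).getD (tidx a b) (0, 0) == (a, b) && decide (tidx a b < (pairs n).length)) &&
    closedOK n w es gs known &&
    ((List.range n).all fun i => (List.range n).all fun j => pairOK n w es known [i, j] [j, i]) &&
    ((List.range n).all fun i => es.all fun e => pairOK n w es known (i :: letters n e) [i])

section stem

universe u v

variable {G : Type v} [Group G] {Γ : Type u} [Group Γ] [Finite Γ] {σ : Γ →* G} {n N : ℕ} {w : List ℕ}
  {A T : ℕ → Γ} {X Y : List ℕ}
  (hc : ∀ k x, x * T k = T k * x) (hsq : ∀ k, T k * T k = 1)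
  (hrel : ∀ a b, a < n → b ≤ a → A a * A b = pw A (rep n w a b) * T (tidx a b))
  (hN : ∀ a b, a < n → b ≤ a → tidx a b < N)

omit [Finite Γ] in
include hc hsq hrel hN in
/-- An equation of a fact holds. -/
theorem fval_of_fact (hker : σ.ker ≤ Subgroup.center Γ) (htwo : ∀ z ∈ σ.ker, z * z = 1)
    (hXY : pw A X * pw A Y = pw A Y * pw A X) (a : Fact)
    (hpow : ∀ x x' h c, a = Fact.pow x x' h c → ∃ g, σ (g * pw A x * g⁻¹) = σ (pw A x'))
    (hT : ∀ k, σ (T k) = 1) {f : ℕ} (hf : a.form n w X Y = some f) : fval T N f = 1 := by
  have hnf := nf_sound hc hsq hrel hN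
  have hxor := fval_xor (T := T) hc hsq N
  have hinv : ∀ f, fval T N f * fval T N f = 1 := fun f => by rw [← hxor, Nat.xor_self, fval_zero]
  cases a with
  | cons l p q =>
    simp only [Fact.form] at hf
    split at hf
    · next he =>
      obtain rfl := Option.some.inj hf
      have e1 := stepAt_sound hc hrel hN p l
      have e2 := stepAt_sound hc hrel hN q l
      rw [hnf] at e1 e2
      rw [hnf (stepAt n w p l).1, mul_assoc, ← hxor] at e1
      rw [hnf (stepAt n w q l).1, mul_assoc, ← hxor, ← he] at e2
      rw [e1, mul_left_cancel_iff] at e2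
      rw [hxor, e2, hinv]
    · simp at hf
  | pow x x' h c =>
    simp only [Fact.form] at hf
    split at hf
    · next he =>
      obtain rfl := Option.some.inj hf
      obtain ⟨g, hg⟩ := hpow x x' h c rfl
      have e1 := hnf (powL x (2 * h))
      have e2 := hnf (powL x' (2 * h))
      rw [pw_powL, he.1] at e1
      rw [pw_powL, he.2] at e2
      rw [show pw A ([] : List ℕ) = 1 from rfl, one_mul] at e1 e2
      have hz : (g * pw A x * g⁻¹)⁻¹ * pw A x' ∈ σ.ker := by
        rw [MonoidHom.mem_ker, map_mul, map_inv, hg, inv_mul_cancel]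
      obtain ⟨z, hzd⟩ : ∃ z, z = (g * pw A x * g⁻¹)⁻¹ * pw A x' := ⟨_, rfl⟩
      rw [← hzd] at hz
      have hx' : pw A x' = g * pw A x * g⁻¹ * z := by rw [hzd]; group
      have hzc : ∀ y, y * z = z * y := Subgroup.mem_center_iff.1 (hker hz)
      rw [hx', (show Commute (g * pw A x * g⁻¹) z from hzc _).mul_pow, conj_pow, e1,
        show g * fval T N (nf n w (powL x (2 * h))).2 * g⁻¹ = fval T N (nf n w (powL x (2 * h))).2 by
          rw [fval_comm hc, mul_inv_cancel_right],
        pow_mul, pow_two z, htwo z hz, one_pow, mul_one] at e2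
      rw [hxor, ← e2, hinv]
    · simp at hf
  | zero =>
    simp only [Fact.form] at hf
    split at hf
    · next he =>
      obtain rfl := Option.some.inj hf
      have e1 := hnf (X ++ Y)
      have e2 := hnf (Y ++ X)
      rw [pw_append] at e1 e2
      rw [hXY, e2, he, mul_left_cancel_iff] at e1
      rw [hxor, ← e1, hinv]
    · simp at hf

include hc hsq hrel hN in
omit [Finite Γ] in
/-- All derived tails are trivial. -/
theorem derived_sound (hker : σ.ker ≤ Subgroup.center Γ) (htwo : ∀ z ∈ σ.ker, z * z = 1)
    (hXY : pw A X * pw A Y = pw A Y * pw A X) (hT : ∀ k, σ (T k) = 1) :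
    ∀ (ders : List (ℕ × List Fact)) (known res : ℕ),
      (∀ d ∈ ders, ∀ a ∈ d.2, ∀ x x' h c, a = Fact.pow x x' h c →
        ∃ g, σ (g * pw A x * g⁻¹) = σ (pw A x')) →
      (∀ k, k < N → known.testBit k = true → T k = 1) → derived n w X Y ders known = some res →
      ∀ k, k < N → res.testBit k = true → T k = 1
  | [], known, res, _, hk, h => by
    obtain rfl : known = res := Option.some.inj h
    exact hk
  | (k, fs) :: l, known, res, hp, hk, h => by
    rw [derived] at h
    cases ht : total n w X Y fs with
    | none => rw [ht] at h; simp at h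
    | some f =>
      rw [ht] at h
      dsimp only at h
      split at h
      · next hle =>
        refine derived_sound hker htwo hXY hT l _ res (fun d hd => hp d (List.mem_cons_of_mem _ hd)) ?_ h
        intro j hj hbit
        rw [Nat.testBit_or, Bool.or_eq_true] at hbit
        rcases hbit with hb | hb
        · exact hk j hj hb
        · rw [Nat.one_shiftLeft, Nat.testBit_two_pow] at hb
          obtain rfl : k = j := of_decide_eq_true hb
          have hfv : ∀ (fs : List Fact) (f : ℕ), (∀ a ∈ fs, a ∈ fs) →
              (∀ a ∈ fs, ∀ x x' h c, a = Fact.pow x x' h c →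
                ∃ g, σ (g * pw A x * g⁻¹) = σ (pw A x')) →
              total n w X Y fs = some f → fval T N f = 1 := by
            intro fs
            induction fs with
            | nil => intro f _ _ h; obtain rfl : 0 = f := Option.some.inj h; exact fval_zero N
            | cons a r ih =>
              intro f _ hq h
              simp only [total, Option.bind_eq_some_iff, Option.map_eq_some_iff] at h
              obtain ⟨f₁, h₁, f₂, h₂, rfl⟩ := h
              rw [fval_xor hc hsq, fval_of_fact hc hsq hrel hN hker htwo hXY a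
                (hq a List.mem_cons_self) hT h₁,
                ih f₂ (fun _ h => h) (fun b hb => hq b (List.mem_cons_of_mem _ hb)) h₂, one_mul]
          have h1 := hfv fs f (fun _ h => h) (hp (k, fs) List.mem_cons_self) ht
          have h2 : fval T N (f ^^^ (1 <<< k)) = 1 := fval_eq_one N _ fun i hi hb' => hk i hi (by
            rw [← hle, Nat.testBit_or, hb']; rfl)
          rw [fval_xor hc hsq, h1, one_mul, fval_bit hj] at h2
          exact h2
      · simp at h

/-- No double stem extension in which the pair `X, Y` commutes, from a tail certificate. -/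
theorem not_stem_two_of_tails (hσ : Cfsg.IsStemExtension σ) (hK : Nat.card σ.ker = 2) (n m : ℕ)
    (w X Y : List ℕ) (init : ℕ) (ders : List (ℕ × List Fact)) (A : ℕ → Γ)
    (hrelG : ∀ a b, a < n → b ≤ a → σ (A a * A b) = σ (pw A (rep n w a b)))
    (hinit : ∀ a b, a < n → b ≤ a → init.testBit (tidx a b) = true → A a * A b = pw A (rep n w a b))
    (hpow : ∀ d ∈ ders, ∀ a ∈ d.2, ∀ x x' h c, a = Fact.pow x x' h c →
      ∃ g, σ (g * pw A x * g⁻¹) = σ (pw A x'))
    (hinj : ∀ e < 2 ^ n, σ (pw A (letters n e)) = 1 → e = 0)
    (hidx : ¬ 2 ∣ (Subgroup.closure (Set.range fun i : Fin n => σ (A i))).index)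
    (hXY : pw A X * pw A Y = pw A Y * pw A X) (hm : m ≤ n)
    (h : check n m w X Y init ders = true) : False := by
  classical
  have htwo : ∀ z ∈ σ.ker, z * z = 1 := fun z hz => by
    have := congrArg Subtype.val (pow_card_eq_one' (x := (⟨z, hz⟩ : σ.ker)))
    rwa [hK, Subgroup.coe_pow, Subgroup.coe_one, pow_two] at this
  have hker : σ.ker ≤ Subgroup.center Γ := hσ.2.1
  rw [check] at h
  cases hd : derived n w X Y ders init with
  | none => rw [hd] at h; simp at h
  | some known =>
  rw [hd] at h
  simp only [Bool.and_eq_true, List.all_eq_true, List.mem_range, decide_eq_true_eq, beq_iff_eq] at h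
  obtain ⟨⟨⟨hpairs, hclosed⟩, hgen⟩, hnorm⟩ := h
  let T : ℕ → Γ := fun k =>
    let q := (pairs n).getD k (0, 0)
    if q.1 < n ∧ q.2 ≤ q.1 ∧ tidx q.1 q.2 = k then (pw A (rep n w q.1 q.2))⁻¹ * (A q.1 * A q.2) else 1
  have hTab : ∀ a b, a < n → b ≤ a → T (tidx a b) = (pw A (rep n w a b))⁻¹ * (A a * A b) := by
    intro a b ha hb
    simp only [T, (hpairs a ha b (by omega)).1]
    rw [if_pos ⟨ha, hb, trivial⟩]
  have hT : ∀ k, σ (T k) = 1 := fun k => by
    simp only [T]
    split
    · next hq => rw [map_mul, map_inv, hrelG _ _ hq.1 hq.2.1, inv_mul_cancel]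
    · exact map_one σ
  have hc : ∀ k x, x * T k = T k * x := fun k => Subgroup.mem_center_iff.1 (hker (hT k))
  have hsq : ∀ k, T k * T k = 1 := fun k => htwo _ (hT k)
  have hrel : ∀ a b, a < n → b ≤ a → A a * A b = pw A (rep n w a b) * T (tidx a b) := fun a b ha hb => by
    rw [hTab a b ha hb, mul_inv_cancel_left]
  have hN : ∀ a b, a < n → b ≤ a → tidx a b < (pairs n).length := fun a b ha hb =>
    (hpairs a ha b (by omega)).2
  have hinitT : ∀ k, k < (pairs n).length → init.testBit k = true → T k = 1 := fun k _ hb => by
    simp only [T]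
    split
    · next hq =>
      rw [hinit _ _ hq.1 hq.2.1 (hq.2.2.symm ▸ hb), inv_mul_cancel]
    · rfl
  have hknown := derived_sound hc hsq hrel hN hker htwo hXY hT ders init known hpow hinitT hd
  have hzero : ∀ f : ℕ, f ||| known = known → fval T (pairs n).length f = 1 := fun f hf =>
    fval_eq_one _ _ fun k hk hb => hknown k hk (by rw [← hf, Nat.testBit_or, hb]; rfl)
  have hnf := nf_sound hc hsq hrel hN
  obtain ⟨es, hes⟩ : ∃ es, es = (List.range (2 ^ (n - m))).map (2 ^ m * ·) := ⟨_, rfl⟩
  rw [← hes] at hclosed hgen hnorm
  let M : Subgroup Γ := Subgroup.closure ((A '' {i | i < n ∧ m ≤ i}))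
  -- the elements of `M`
  have hM : ∀ x ∈ M, ∃ e ∈ es, x = pw A (letters n e) := by
    intro x hx
    rw [← Subgroup.mem_toSubmonoid, Subgroup.closure_toSubmonoid_of_finite] at hx
    induction hx using Submonoid.closure_induction_right with
    | one =>
      refine ⟨0, ?_, by rw [letters_zero]; rfl⟩
      rw [hes]; exact List.mem_map.2 ⟨0, List.mem_range.2 (Nat.two_pow_pos _), mul_zero _⟩
    | mul_right y _ z hz ih =>
      obtain ⟨i, ⟨hin, him⟩, rfl⟩ := hz
      obtain ⟨e, he, rfl⟩ := ih
      have h1 := hclosed
      simp only [closedOK, List.all_eq_true, Bool.and_eq_true, List.any_eq_true, beq_iff_eq,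
        List.mem_filter, List.mem_range, decide_eq_true_eq] at h1
      obtain ⟨⟨e', he', h2⟩, h3⟩ := h1 e he i ⟨hin, him⟩
      refine ⟨e', he', ?_⟩
      have h4 := hnf (letters n e ++ [i])
      rw [h2, hzero _ h3, mul_one, pw_append] at h4
      rw [← h4]
      simp [pw]
  have hmem : ∀ e ∈ es, pw A (letters n e) ∈ M := by
    intro e he
    refine Subgroup.list_prod_mem M fun x hx => ?_
    obtain ⟨i, hi, rfl⟩ := List.mem_map.1 hx
    rw [letters, List.mem_filter, List.mem_range] at hi
    refine Subgroup.subset_closure ⟨i, ⟨hi.1, ?_⟩, rfl⟩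
    rw [hes] at he
    obtain ⟨j, -, rfl⟩ := List.mem_map.1 he
    by_contra hlt
    rw [Nat.testBit_two_pow_mul] at hi
    simp at hi
    omega
  have hpair : ∀ l r, pairOK n w es known l r = true → pw A l * (pw A r)⁻¹ ∈ M := by
    intro l r hlr
    simp only [pairOK, List.any_eq_true, Bool.and_eq_true, beq_iff_eq] at hlr
    obtain ⟨e, he, h1, h2⟩ := hlr
    have e1 := hnf l
    have e2 := hnf (letters n e ++ r)
    have h3 := hzero _ h2
    rw [fval_xor hc hsq] at h3
    have hinv : ∀ f, fval T (pairs n).length f * fval T (pairs n).length f = 1 := fun f => by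
      rw [← fval_xor hc hsq, Nat.xor_self, fval_zero]
    rw [h1, show fval T (pairs n).length (nf n w l).2 = fval T (pairs n).length (nf n w (letters n e ++ r)).2 from
      mul_right_cancel (h3.trans (hinv _).symm), ← e2, pw_append] at e1
    rw [e1, mul_inv_cancel_right]
    exact hmem e he
  -- the kernel lies in `M`
  have hle := ker_le_commutator_closure hσ Nat.prime_two hK ((A '' {i | i < n}) ∪ (σ.ker : Set Γ))
    Set.subset_union_right (Subgroup.closure (Set.range fun i : Fin n => σ (A i))) (by
      rw [Subgroup.closure_le]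
      rintro _ ⟨i, rfl⟩
      exact ⟨A i, Subgroup.subset_closure (Or.inl ⟨i, i.2, rfl⟩), rfl⟩) hidx
  have hle' : σ.ker ≤ M := hle.trans (commutator_closure_le _ M (fun s hs t ht => by
    rcases hs with ⟨i, hi, rfl⟩ | hs
    · rcases ht with ⟨j, hj, rfl⟩ | ht
      · have h1 := hpair _ _ (hgen i hi j hj)
        rw [commutatorElement_def]
        rw [show A i * A j * (A i)⁻¹ * (A j)⁻¹ = A i * A j * (A j * A i)⁻¹ by group]
        simpa [pw] using h1
      · rw [commutatorElement_eq_one_iff_commute.2 (Subgroup.mem_center_iff.1 (hker ht) _)]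
        exact one_mem M
    · rw [commutatorElement_eq_one_iff_commute.2 (Subgroup.mem_center_iff.1 (hker hs) _).symm]
      exact one_mem M) (fun s hs x hx => by
    rcases hs with ⟨i, hi, rfl⟩ | hs
    · obtain ⟨e, he, rfl⟩ := hM x hx
      have h1 := hpair _ _ (hnorm i hi e he)
      simpa [pw] using h1
    · rw [← Subgroup.mem_center_iff.1 (hker hs) x, mul_inv_cancel_right]
      exact hx))
  have hbot : σ.ker = ⊥ := by
    rw [Subgroup.eq_bot_iff_forall]
    intro z hz
    obtain ⟨e, he, rfl⟩ := hM z (hle' hz)
    have hlt : e < 2 ^ n := by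
      rw [hes] at he
      obtain ⟨j, hj, rfl⟩ := List.mem_map.1 he
      calc 2 ^ m * j < 2 ^ m * 2 ^ (n - m) :=
            Nat.mul_lt_mul_of_pos_left (List.mem_range.1 hj) (Nat.two_pow_pos m)
        _ = 2 ^ n := by rw [← pow_add, Nat.add_sub_cancel' hm]
    rw [hinj e hlt hz]
    rw [letters_zero]; rfl
  rw [hbot, Subgroup.card_bot] at hK
  norm_num at hK

end stem

end Cfsg.Agent.Multiplier.TailCert
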