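import Cfsg.Agent.Lib.Multiplier.Sp6Bound

/-!
# The double cover of Sp6(2)

Permutations of 240 roots generated by signed products of spin lifts of transvections, paired with
their images in Sp6(2).

* `exists_double_cover`: a stem extension of Sp6(2) with kernel of order 2.
-/

set_option autoImplicit false
set_option maxRecDepth 20000

open scoped commutatorElement

namespace Cfsg.Agent.Multiplier.Sp6

open Sp6Data

-- the certificate literals are only unfolded by the kernel
attribute [local irreducible] Sp6Data.spin Sp6Data.lifts Sp6Data.neg Sp6Data.transv Sp6Data.tree Sp6Data.gens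

/-- The image of a point under a coded permutation. -/
def fn (d i : ℕ) : ℕ := (d >>> (8 * i)) &&& 255

/-- The image of a point under a word of coded permutations. -/
def app : List ℕ → ℕ → ℕ
  | [], i => i
  | d :: l, i => fn d (app l i)

/-- Equality of words on the 240 points. -/
def eqP (l r : List ℕ) : Bool := (List.range 240).all fun i => app l i == app r i

/-- `d` codes a permutation whose order divides 12. -/
def valid (d : ℕ) : Bool :=
  (List.range 240).all fun i => decide (fn d i < 240) && app (List.replicate 12 d) i == i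

/-- The function of a code. -/
def tab (d : ℕ) (i : Fin 240) : Fin 240 :=
  if h : fn d i.val < 240 then ⟨fn d i.val, h⟩ else i

/-- The permutation of a code. -/
noncomputable def toP (d : ℕ) : Equiv.Perm (Fin 240) :=
  if h : Function.Bijective (tab d) then Equiv.ofBijective _ h else 1

theorem bijective_tab {d : ℕ} (h : valid d = true) : Function.Bijective (tab d) := by
  simp only [valid, List.all_eq_true, List.mem_range, Bool.and_eq_true, decide_eq_true_eq, beq_iff_eq] at h
  have hit : ∀ (n : ℕ) (i : Fin 240), ((tab d)^[n] i).val = app (List.replicate n d) i.val := by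
    intro n
    induction n with
    | zero => exact fun _ => rfl
    | succ n ih =>
      intro i
      rw [Function.iterate_succ_apply', List.replicate_succ, app, ← ih i, tab,
        dif_pos (h _ ((tab d)^[n] i).isLt).1]
  refine Finite.injective_iff_bijective.1 fun x y hxy => Fin.ext ?_
  have h1 : (tab d)^[12] x = (tab d)^[12] y := congrArg ((tab d)^[11]) hxy
  rw [Fin.ext_iff, hit, hit, (h _ x.isLt).2, (h _ y.isLt).2] at h1
  exact h1

theorem toP_apply {d : ℕ} (h : valid d = true) (i : Fin 240) : (toP d i).val = fn d i.val := by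
  rw [toP, dif_pos (bijective_tab h), Equiv.ofBijective_apply, tab]
  simp only [valid, List.all_eq_true, List.mem_range, Bool.and_eq_true, decide_eq_true_eq] at h
  rw [dif_pos (h _ i.isLt).1]

theorem prod_toP_apply : ∀ {l : List ℕ}, (∀ d ∈ l, valid d = true) → ∀ i : Fin 240,
    ((l.map toP).prod i).val = app l i.val
  | [], _, _ => rfl
  | d :: l, h, i => by
    rw [List.map_cons, List.prod_cons, Equiv.Perm.mul_apply, toP_apply (h d List.mem_cons_self),
      prod_toP_apply fun e he => h e (List.mem_cons_of_mem _ he)]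
    rfl

theorem prodP_eq {l r : List ℕ} (hl : ∀ d ∈ l, valid d = true) (hr : ∀ d ∈ r, valid d = true)
    (h : eqP l r = true) : (l.map toP).prod = (r.map toP).prod := by
  simp only [eqP, List.all_eq_true, List.mem_range, beq_iff_eq] at h
  refine Equiv.ext fun i => Fin.ext ?_
  rw [prod_toP_apply hl, prod_toP_apply hr, h _ i.isLt]

/-- The sign change. -/
noncomputable def N : Equiv.Perm (Fin 240) := toP neg

/-- The lift of a generator. -/
noncomputable def M (k : ℕ) : Equiv.Perm (Fin 240) := toP (lifts.getD k 0)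

/-- The spin lift of a transvection. -/
noncomputable def L (a : ℕ) : Equiv.Perm (Fin 240) := toP (spin.getD a 0)

/-- The transvection. -/
noncomputable def tv (a : ℕ) : G0 := el (transv.getD a 0)

/-- The generator. -/
noncomputable def gg (k : ℕ) : G0 := el (gens.getD k 0)

/-- Basic validity. -/
def baseOK : Bool :=
  valid neg && eqP [neg, neg] [] &&
  ((List.range 4).all fun k => valid (lifts.getD k 0) && ok (gens.getD k 0) &&
    eqP [lifts.getD k 0, neg] [neg, lifts.getD k 0] &&
    eqP [lifts.getD k 0, lifts.getD k 0, lifts.getD k 0] []) &&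
  (List.range 63).all fun a => valid (spin.getD a 0) && ok (transv.getD a 0)

theorem check_base : baseOK = true := by decide +kernel

theorem neg_valid : valid neg = true := by
  have h := check_base
  simp only [baseOK, Bool.and_eq_true] at h
  exact h.1.1.1

theorem N_sq : N * N = 1 := by
  have h := check_base
  simp only [baseOK, Bool.and_eq_true] at h
  simpa [N] using prodP_eq (l := [neg, neg]) (r := []) (by simp [neg_valid]) (by simp) h.1.1.2

theorem lift_spec {k : ℕ} (hk : k < 4) :
    valid (lifts.getD k 0) = true ∧ ok (gens.getD k 0) = true ∧ M k * N = N * M k ∧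
      M k * M k * M k = 1 := by
  have h := check_base
  simp only [baseOK, Bool.and_eq_true, List.all_eq_true, List.mem_range] at h
  obtain ⟨⟨⟨hv, ho⟩, hc⟩, h3⟩ := h.1.2 k hk
  obtain ⟨d, hd⟩ : ∃ d, d = lifts.getD k 0 := ⟨_, rfl⟩
  rw [← hd] at hv hc h3 ⊢
  refine ⟨hv, ho, ?_, ?_⟩
  · rw [M, N, ← hd]
    have := prodP_eq (l := [d, neg]) (r := [neg, d]) (by simp [hv, neg_valid]) (by simp [hv, neg_valid]) hc
    simpa using this
  · rw [M, ← hd]
    have := prodP_eq (l := [d, d, d]) (r := []) (by simp [hv]) (by simp) h3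
    simpa [mul_assoc] using this

theorem spin_spec {a : ℕ} (ha : a < 63) : valid (spin.getD a 0) = true ∧ ok (transv.getD a 0) = true := by
  have h := check_base
  simp only [baseOK, Bool.and_eq_true, List.all_eq_true, List.mem_range] at h
  exact h.2 a ha

theorem N_fn (i : Fin 240) : (N i).val = fn neg i.val := toP_apply neg_valid i

/-- The generators permute the signed spin lifts as they permute the transvections. -/
def conjOK : Bool :=
  (List.range 4).all fun k => (List.range 63).all fun a => (List.range 63).any fun b =>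
    mulC (gens.getD k 0) (transv.getD a 0) == mulC (transv.getD b 0) (gens.getD k 0) &&
      (eqP [lifts.getD k 0, spin.getD a 0] [spin.getD b 0, lifts.getD k 0] ||
        eqP [lifts.getD k 0, spin.getD a 0] [neg, spin.getD b 0, lifts.getD k 0])

theorem check_conj : conjOK = true := by decide +kernel

/-- The compatibility of a pair. -/
def Compat (x : Equiv.Perm (Fin 240) × G0) : Prop :=
  x.1 * N = N * x.1 ∧ ∀ a < 63, ∃ b < 63, x.2 * tv a = tv b * x.2 ∧
    (x.1 * L a = L b * x.1 ∨ x.1 * L a = N * L b * x.1)

theorem compat_gen {k : ℕ} (hk : k < 4) : Compat (M k, gg k) := by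
  obtain ⟨hv, ho, hc, -⟩ := lift_spec hk
  refine ⟨hc, fun a ha => ?_⟩
  have h := check_conj
  simp only [conjOK, List.all_eq_true, List.mem_range, List.any_eq_true, Bool.and_eq_true,
    Bool.or_eq_true, beq_iff_eq] at h
  obtain ⟨b, hb, hg, hm⟩ := h k hk a ha
  obtain ⟨hva, hoa⟩ := spin_spec ha
  obtain ⟨hvb, hob⟩ := spin_spec hb
  refine ⟨b, hb, ?_, ?_⟩
  · show gg k * tv a = tv b * gg k
    rw [gg, tv, tv, ← el_mul ho hoa, ← el_mul hob ho, hg]
  · obtain ⟨d, hd⟩ : ∃ d, d = lifts.getD k 0 := ⟨_, rfl⟩
    obtain ⟨p, hp⟩ : ∃ p, p = spin.getD a 0 := ⟨_, rfl⟩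
    obtain ⟨q, hq⟩ : ∃ q, q = spin.getD b 0 := ⟨_, rfl⟩
    show M k * L a = L b * M k ∨ M k * L a = N * L b * M k
    rw [M, L, L, N, ← hd, ← hp, ← hq]
    rw [← hd, ← hp, ← hq] at hm
    rw [← hd] at hv
    rw [← hp] at hva
    rw [← hq] at hvb
    rcases hm with hm | hm
    · exact Or.inl (by simpa using prodP_eq (l := [d, p]) (r := [q, d]) (by simp [hv, hva]) (by simp [hv, hvb]) hm)
    · have := prodP_eq (l := [d, p]) (r := [neg, q, d]) (by simp [hv, hva]) (by simp [hv, hvb, neg_valid]) hm
      exact Or.inr (by simpa [mul_assoc] using this)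

theorem Compat.mul {x y : Equiv.Perm (Fin 240) × G0} (hx : Compat x) (hy : Compat y) : Compat (x * y) := by
  refine ⟨?_, fun a ha => ?_⟩
  · rw [Prod.fst_mul, mul_assoc, hy.1, ← mul_assoc, hx.1, mul_assoc]
  obtain ⟨b, hb, hg, hm⟩ := hy.2 a ha
  obtain ⟨c, hc, hg', hm'⟩ := hx.2 b hb
  refine ⟨c, hc, ?_, ?_⟩
  · rw [Prod.snd_mul, mul_assoc, hg, ← mul_assoc, hg', mul_assoc]
  · simp only [Prod.fst_mul]
    have hN : ∀ z, N * (N * z) = z := fun z => by rw [← mul_assoc, N_sq, one_mul]
    rcases hm with hm | hm <;> rcases hm' with hm' | hm'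
    · left; rw [mul_assoc, hm, ← mul_assoc, hm', mul_assoc]
    · right; rw [mul_assoc, hm, ← mul_assoc, hm']; simp only [mul_assoc]
    · right
      rw [mul_assoc, hm, ← mul_assoc, ← mul_assoc, hx.1, mul_assoc N, hm']; simp only [mul_assoc]
    · left
      rw [mul_assoc, hm, ← mul_assoc, ← mul_assoc, hx.1, mul_assoc N, hm']; simp only [mul_assoc, hN]

theorem compat_one : Compat 1 :=
  ⟨by simp, fun a ha => ⟨a, ha, by simp, Or.inl (by simp)⟩⟩

/-- The pair of a generator. -/
noncomputable def genC (k : ℕ) : Equiv.Perm (Fin 240) × G0 := (M k, gg k)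

/-- The covering group. -/
noncomputable def cov : Subgroup (Equiv.Perm (Fin 240) × G0) :=
  Subgroup.closure {x | ∃ k < 4, genC k = x}

theorem compat_of_mem {x : Equiv.Perm (Fin 240) × G0} (hx : x ∈ cov) : Compat x := by
  rw [cov, ← Subgroup.mem_toSubmonoid, Subgroup.closure_toSubmonoid_of_finite] at hx
  induction hx using Submonoid.closure_induction_right with
  | one => exact compat_one
  | mul_right y _ z hz ih =>
    obtain ⟨k, hk, rfl⟩ := hz
    exact ih.mul (compat_gen hk)

/-- The projection. -/
noncomputable def covMap : ↥cov →* G0 := (MonoidHom.snd _ _).comp cov.subtype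

/-- The lift of a word in the generators. -/
noncomputable def liftWord (l : List ℕ) : Equiv.Perm (Fin 240) × G0 := (l.map genC).prod

theorem liftWord_mem {l : List ℕ} (hl : ∀ k ∈ l, k < 4) : liftWord l ∈ cov := by
  refine Subgroup.list_prod_mem cov fun x hx => ?_
  obtain ⟨k, hk, rfl⟩ := List.mem_map.1 hx
  exact Subgroup.subset_closure ⟨k, hl k hk, rfl⟩

theorem liftWord_fst (l : List ℕ) :
    (liftWord l).1 = ((l.map fun k => lifts.getD k 0).map toP).prod := by
  rw [List.map_map]
  induction l with
  | nil => rfl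
  | cons k l ih => simp only [liftWord, List.map_cons, List.prod_cons, Prod.fst_mul] at ih ⊢; rw [ih]; rfl

theorem liftWord_snd (l : List ℕ) :
    (liftWord l).2 = ((l.map fun k => gens.getD k 0).map el).prod := by
  rw [List.map_map]
  induction l with
  | nil => rfl
  | cons k l ih => simp only [liftWord, List.map_cons, List.prod_cons, Prod.snd_mul] at ih ⊢; rw [ih]; rfl

theorem valid_map {l : List ℕ} (hl : ∀ k ∈ l, k < 4) : ∀ d ∈ l.map (fun k => lifts.getD k 0), valid d = true := by
  intro d hd
  obtain ⟨k, hk, rfl⟩ := List.mem_map.1 hd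
  exact (lift_spec (hl k hk)).1

theorem ok_mapG {l : List ℕ} (hl : ∀ k ∈ l, k < 4) : ∀ d ∈ l.map (fun k => gens.getD k 0), ok d = true := by
  intro d hd
  obtain ⟨k, hk, rfl⟩ := List.mem_map.1 hd
  exact (lift_spec (hl k hk)).2.1

/-- Each generator lift is a signed product of spin lifts; the transvections are distinct. -/
def factorOK : Bool :=
  ((List.range 4).all fun k =>
    let f := factors.getD k (0, 0, 0)
    decide (f.1 < 63) && decide (f.2.1 < 63) &&
      eqP [lifts.getD k 0] (List.replicate f.2.2 neg ++ [spin.getD f.1 0, spin.getD f.2.1 0])) &&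
  ((List.range 63).all fun a => (List.range a).all fun b => transv.getD a 0 != transv.getD b 0) &&
  (List.range 240).all fun i =>
    app (stab.1.map fun k => lifts.getD k 0) i != i || app (stab.2.map fun k => lifts.getD k 0) i != i ||
      i == 0 || i == fn neg 0

theorem check_factor : factorOK = true := by decide +kernel

/-- The tree reaches every point from the first, parents first. -/
def treeOK : List (ℕ × ℕ × ℕ) → List ℕ → Bool
  | [], seen => (List.range 240).all seen.contains
  | (p, q, k) :: l, seen =>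
    seen.contains q && decide (q < 240) && decide (k < 4) && fn (lifts.getD k 0) q == p && treeOK l (p :: seen)

theorem check_tree : treeOK tree [0] = true := by decide +kernel

theorem fixed_of_tree {m : Equiv.Perm (Fin 240)} (hm : ∀ k < 4, m * M k = M k * m) :
    ∀ (l : List (ℕ × ℕ × ℕ)) (seen : List ℕ), treeOK l seen = true →
      (∀ i : Fin 240, i.val ∈ seen → m i = i) → m = 1
  | [], seen, h, hfix => by
    simp only [treeOK, List.all_eq_true, List.mem_range, List.contains_iff_mem] at h
    exact Equiv.ext fun i => hfix i (h _ i.isLt)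
  | (p, q, k) :: l, seen, h, hfix => by
    simp only [treeOK, Bool.and_eq_true, List.contains_iff_mem, decide_eq_true_eq, beq_iff_eq] at h
    obtain ⟨⟨⟨⟨hq, hq240⟩, hk⟩, hpq⟩, hl⟩ := h
    refine fixed_of_tree hm l _ hl fun i hi => ?_
    rcases List.mem_cons.1 hi with hi | hi
    · have hiq : i = M k ⟨q, hq240⟩ := Fin.ext (by rw [hi, M, toP_apply (lift_spec hk).1, hpq])
      rw [hiq, ← Equiv.Perm.mul_apply, hm k hk, Equiv.Perm.mul_apply, hfix ⟨q, hq240⟩ hq]
    · exact hfix i hi

theorem commute_gen {m : Equiv.Perm (Fin 240)} (hN : m * N = N * m)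
    (hL : ∀ a < 63, m * L a = L a * m ∨ m * L a = N * L a * m) {k : ℕ} (hk : k < 4) :
    m * M k = M k * m := by
  have h := check_factor
  simp only [factorOK, Bool.and_eq_true, List.all_eq_true, List.mem_range] at h
  obtain ⟨f, hf⟩ : ∃ f, f = factors.getD k (0, 0, 0) := ⟨_, rfl⟩
  have hk' := h.1.1 k hk
  rw [← hf] at hk'
  obtain ⟨a, b, e⟩ := f
  simp only [decide_eq_true_eq] at hk'
  obtain ⟨⟨ha, hb⟩, he⟩ := hk'
  obtain ⟨hv, -, hcN, h3⟩ := lift_spec hk
  have hM : M k = N ^ e * (L a * L b) := by
    have := prodP_eq (l := [lifts.getD k 0]) (by simpa using hv) (by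
      intro d hd
      rcases List.mem_append.1 hd with hd | hd
      · exact (List.eq_of_mem_replicate hd) ▸ neg_valid
      · simp only [List.mem_cons, List.not_mem_nil, or_false] at hd
        rcases hd with rfl | rfl
        · exact (spin_spec ha).1
        · exact (spin_spec hb).1) he
    simpa [M, L, N, List.map_replicate, List.prod_replicate] using this
  have hNpow : m * N ^ e = N ^ e * m := (show Commute m N from hN).pow_right e
  have hcL : ∀ a < 63, ∀ z, m * (L a * z) = L a * (m * z) ∨ m * (L a * z) = N * (L a * (m * z)) := by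
    intro a ha z
    rcases hL a ha with h' | h'
    · exact Or.inl (by rw [← mul_assoc, h', mul_assoc])
    · exact Or.inr (by rw [← mul_assoc, h']; simp only [mul_assoc])
  have hNc : N * (L a * L b) = L a * L b * N := by
    have h1 : N ^ e * (L a * L b) * N = N * (N ^ e * (L a * L b)) := by rw [← hM]; exact hcN
    rw [mul_assoc (N ^ e), ← mul_assoc N (N ^ e), (Commute.refl N).pow_right e |>.eq, mul_assoc (N ^ e)] at h1
    exact (mul_left_cancel h1).symm
  have hsign : m * (L a * L b) = L a * L b * m ∨ m * (L a * L b) = N * (L a * L b) * m := by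
    have hNN : ∀ z, N * (N * z) = z := fun z => by rw [← mul_assoc, N_sq, one_mul]
    rcases hcL a ha (L b) with h1 | h1 <;> rcases hL b hb with h2 | h2 <;> rw [h1, h2]
    · exact Or.inl (mul_assoc _ _ _).symm
    · right
      have hLN : L a * N = N * L a := N_comm_L ha
      simp only [← mul_assoc, hLN]
    · exact Or.inr (by simp only [mul_assoc])
    · left
      have hLN : L a * N = N * L a := N_comm_L ha
      rw [← mul_assoc (L a) (N * L b), ← mul_assoc (L a) N, hLN]
      simp only [mul_assoc, hNN]
  rcases hsign with h' | h'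
  · rw [hM, ← mul_assoc, hNpow, mul_assoc, h', ← mul_assoc, ← mul_assoc]
  · exfalso
    have h1 : m * M k = N * M k * m := by
      have hcomN : ∀ z, N * (N ^ e * z) = N ^ e * (N * z) := fun z => by
        rw [← mul_assoc, ((Commute.refl N).pow_right e).eq, mul_assoc]
      rw [hM, ← mul_assoc m, hNpow, mul_assoc (N ^ e) m, h']
      simp only [mul_assoc, hcomN]
    have hrev : ∀ z, m * (M k * z) = N * (M k * (m * z)) := fun z => by
      rw [← mul_assoc, h1]; simp only [mul_assoc]
    have hMN : ∀ z, M k * (N * z) = N * (M k * z) := fun z => by rw [← mul_assoc, hcN, mul_assoc]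
    have hcube : m * (M k * (M k * (M k * 1))) = N * (M k * (M k * (M k * (m * 1)))) := by
      rw [hrev, hrev, hrev]
      simp only [hMN, ← mul_assoc N N, N_sq, one_mul]
    rw [mul_one, mul_one, ← mul_assoc (M k), h3, mul_one] at hcube
    rw [show M k * (M k * (M k * m)) = M k * M k * M k * m by simp only [mul_assoc], h3, one_mul] at hcube
    have hone : N = 1 := mul_eq_right.1 hcube.symm
    have := congrArg Fin.val (Equiv.Perm.ext_iff.1 hone 0)
    rw [N_fn] at this
    exact absurd this (by decide +kernel)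
where
  N_comm_L {a : ℕ} (ha : a < 63) : L a * N = N * L a := by
    have h : ((List.range 63).all fun a => eqP [spin.getD a 0, neg] [neg, spin.getD a 0]) = true := by
      decide +kernel
    simp only [List.all_eq_true, List.mem_range] at h
    obtain ⟨d, hd⟩ : ∃ d, d = spin.getD a 0 := ⟨_, rfl⟩
    have hv := (spin_spec ha).1
    have h1 := h a ha
    rw [← hd] at hv h1
    rw [L, N, ← hd]
    have := prodP_eq (l := [d, neg]) (r := [neg, d]) (by simp [hv, neg_valid]) (by simp [hv, neg_valid]) h1
    simpa using this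

theorem eq_one_or_neg {x : ↥cov} (hx : covMap x = 1) : x.1.1 = 1 ∨ x.1.1 = N := by
  have hx2 : x.1.2 = 1 := hx
  obtain ⟨hN, hcomp⟩ := compat_of_mem x.2
  have hL : ∀ a < 63, x.1.1 * L a = L a * x.1.1 ∨ x.1.1 * L a = N * L a * x.1.1 := by
    intro a ha
    obtain ⟨b, hb, hg, hm⟩ := hcomp a ha
    rw [hx2, one_mul, mul_one, tv, tv, el_injOn (spin_spec ha).2 (spin_spec hb).2] at hg
    have hab : a = b := by
      have h := check_factor
      simp only [factorOK, Bool.and_eq_true, List.all_eq_true, List.mem_range, bne_iff_ne] at h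
      rcases Nat.lt_trichotomy a b with hlt | heq | hgt
      · exact absurd hg.symm (h.1.2 b hb a hlt)
      · exact heq
      · exact absurd hg (h.1.2 a ha b hgt)
    rw [hab] at hm ⊢
    exact hm
  have hcomm : ∀ m : Equiv.Perm (Fin 240), (∀ k < 4, m * M k = M k * m) →
      (m ⟨0, by norm_num⟩).val = 0 → m = 1 := fun m hm h0 =>
    fixed_of_tree hm tree [0] check_tree fun i hi => by
      rw [List.mem_singleton] at hi
      have hi0 : i = ⟨0, by norm_num⟩ := Fin.ext hi
      rw [hi0]
      exact Fin.ext h0
  have hm : ∀ k < 4, x.1.1 * M k = M k * x.1.1 := fun k hk => commute_gen hN hL hk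
  -- the image of the first point is fixed by the stabilising words
  have hfix : ∀ w : List ℕ, (∀ k ∈ w, k < 4) → app (w.map fun k => lifts.getD k 0) 0 = 0 →
      app (w.map fun k => lifts.getD k 0) (x.1.1 ⟨0, by norm_num⟩).val = (x.1.1 ⟨0, by norm_num⟩).val := by
    intro w hw h0
    have hc : x.1.1 * (liftWord w).1 = (liftWord w).1 * x.1.1 := by
      induction w with
      | nil => simp [liftWord]
      | cons k w ih =>
        have hk := hm k (hw k List.mem_cons_self)
        have ih' : x.1.1 * ((w.map genC).prod).1 = ((w.map genC).prod).1 * x.1.1 := by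
          clear h0 ih
          induction w with
          | nil => simp
          | cons j w ih2 =>
            simp only [List.map_cons, List.prod_cons, Prod.fst_mul]
            have hj := hm j (hw j (List.mem_cons_of_mem _ List.mem_cons_self))
            rw [← mul_assoc]
            show x.1.1 * M j * _ = _
            rw [hj, mul_assoc, ih2 (fun i hi => hw i (by
              rcases List.mem_cons.1 hi with rfl | hi
              · exact List.mem_cons_self
              · exact List.mem_cons_of_mem _ (List.mem_cons_of_mem _ hi))), ← mul_assoc]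
            rfl
        simp only [liftWord, List.map_cons, List.prod_cons, Prod.fst_mul]
        show x.1.1 * (M k * _) = M k * _ * x.1.1
        rw [← mul_assoc, hk, mul_assoc, ih', mul_assoc]
    have h1 := congrArg (fun p : Equiv.Perm (Fin 240) => (p ⟨0, by norm_num⟩).val) hc
    simp only [Equiv.Perm.mul_apply, liftWord_fst, prod_toP_apply (valid_map hw)] at h1
    have h2 : (List.map toP (List.map (fun k => lifts.getD k 0) w)).prod ⟨0, by norm_num⟩ = ⟨0, by norm_num⟩ :=
      Fin.ext (by rw [prod_toP_apply (valid_map hw)]; exact h0)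
    rw [h2] at h1
    exact h1.symm
  have h := check_factor
  simp only [factorOK, Bool.and_eq_true, List.all_eq_true, List.mem_range, Bool.or_eq_true, bne_iff_ne,
    beq_iff_eq] at h
  have hw : ((∀ k ∈ stab.1, k < 4) ∧ app (stab.1.map fun k => lifts.getD k 0) 0 = 0) ∧
      (∀ k ∈ stab.2, k < 4) ∧ app (stab.2.map fun k => lifts.getD k 0) 0 = 0 := by decide +kernel
  rcases h.2 _ (x.1.1 ⟨0, by norm_num⟩).isLt with ((h' | h') | h') | h'
  · exact absurd (hfix _ hw.1.1 hw.1.2) h'
  · exact absurd (hfix _ hw.2.1 hw.2.2) h'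
  · exact Or.inl (hcomm _ hm h')
  · right
    have h1 : N * x.1.1 = 1 := hcomm _ (fun k hk => by
        rw [mul_assoc, hm k hk, ← mul_assoc, ← (lift_spec hk).2.2.1, mul_assoc]) (by
      rw [Equiv.Perm.mul_apply, N_fn, h']
      decide +kernel)
    calc x.1.1 = N * N * x.1.1 := by rw [N_sq, one_mul]
      _ = N := by rw [mul_assoc, h1, mul_one]

/-- The words reach Sylow generators and elements of orders 5 and 7; the pair gives the sign change. -/
def wordsOK : Bool :=
  let targets := pcGens ++ threeGens ++ [five, seven]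
  let X := (words.getD 0 []).map fun k => lifts.getD k 0
  let Y := (words.getD 1 []).map fun k => lifts.getD k 0
  let gX := (words.getD 0 []).map fun k => gens.getD k 0
  let gY := (words.getD 1 []).map fun k => gens.getD k 0
  words.all (fun w => w.all fun k => decide (k < 4)) && decide (words.length = targets.length) &&
  ((List.range targets.length).all fun i =>
    wordC ((words.getD i []).map fun k => gens.getD k 0) == targets.getD i 0) &&
  eqP (X ++ Y) (neg :: (Y ++ X)) && wordC (gX ++ gY) == wordC (gY ++ gX) &&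
  ok five && ok seven && wordC (List.replicate 5 five) == oneC && wordC (List.replicate 7 seven) == oneC &&
  five != oneC && seven != oneC

theorem check_words : wordsOK = true := by decide +kernel

theorem word_lt (i : ℕ) : ∀ k ∈ words.getD i [], k < 4 := by
  have h := check_words
  simp only [wordsOK, Bool.and_eq_true, List.all_eq_true, decide_eq_true_eq] at h
  intro k hk
  rcases lt_or_ge i words.length with hi | hi
  · rw [List.getD_eq_getElem?_getD, List.getElem?_eq_getElem hi, Option.getD_some] at hk
    exact h.1.1.1.1.1.1.1.1.1.1 _ (List.getElem_mem hi) k hk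
  · rw [List.getD_eq_default _ _ hi] at hk
    simp at hk

theorem target_mem {g : ℕ} (hg : g ∈ pcGens ++ threeGens ++ [five, seven]) : el g ∈ covMap.range := by
  obtain ⟨i, hi, hig⟩ := List.mem_iff_getElem.1 hg
  have h := check_words
  simp only [wordsOK, Bool.and_eq_true, List.all_eq_true, List.mem_range, decide_eq_true_eq, beq_iff_eq] at h
  have h1 := h.1.1.1.1.1.1.1.1.2 i hi
  rw [List.getD_eq_getElem?_getD (l := pcGens ++ threeGens ++ [five, seven]),
    List.getElem?_eq_getElem hi, Option.getD_some, hig] at h1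
  refine ⟨⟨_, liftWord_mem (word_lt i)⟩, ?_⟩
  show (liftWord (words.getD i [])).2 = el g
  rw [liftWord_snd, ← el_wordC (ok_mapG (word_lt i)), h1]

theorem covMap_surjective : Function.Surjective covMap := by
  have h := check_words
  simp only [wordsOK, Bool.and_eq_true, beq_iff_eq, bne_iff_ne] at h
  obtain ⟨⟨⟨⟨⟨⟨-, ho5⟩, ho7⟩, h5⟩, h7⟩, h5'⟩, h7'⟩ := h
  have hord : ∀ g p : ℕ, p.Prime → g ∈ pcGens ++ threeGens ++ [five, seven] → ok g = true →
      wordC (List.replicate p g) = oneC → g ≠ oneC → p ∣ Nat.card covMap.range := by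
    intro g p hp hg hok hpow hne
    have h1 : el g ^ p = 1 := by
      have := el_wordC (l := List.replicate p g) fun d hd => (List.eq_of_mem_replicate hd) ▸ hok
      rw [hpow, el_oneC, List.map_replicate, List.prod_replicate] at this
      exact this.symm
    have := Fact.mk hp
    have h2 : orderOf (el g) = p :=
      orderOf_eq_prime h1 fun h3 => hne ((el_injOn hok ok_oneC).1 (h3.trans el_oneC.symm))
    rw [← h2]
    exact Subgroup.orderOf_dvd_natCard _ (target_mem hg)
  have hsub : ∀ l : List ℕ, (∀ g ∈ l, g ∈ pcGens ++ threeGens ++ [five, seven]) →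
      Nat.card (Subgroup.closure {x : G0 | ∃ g ∈ l, el g = x}) ∣ Nat.card covMap.range := fun l hl =>
    Subgroup.card_dvd_of_le ((Subgroup.closure_le _).2 (by
      rintro _ ⟨g, hg, rfl⟩
      exact target_mem (hl g hg)))
  have h512 : 512 ∣ Nat.card covMap.range := by
    have := hsub pcGens fun g hg => List.mem_append_left _ (List.mem_append_left _ hg)
    rwa [natCard_closure_of_groupOK check_group_two] at this
  have h81 : 81 ∣ Nat.card covMap.range := by
    have := hsub threeGens fun g hg => List.mem_append_left _ (List.mem_append_right _ hg)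
    rwa [natCard_closure_of_groupOK check_group_three] at this
  have h5d := hord five 5 (by norm_num) (List.mem_append_right _ (by simp)) ho5 h5 h5'
  have h7d := hord seven 7 (by norm_num) (List.mem_append_right _ (by simp)) ho7 h7 h7'
  have hall : 1451520 ∣ Nat.card covMap.range := by
    have a := Nat.Coprime.mul_dvd_of_dvd_of_dvd (by norm_num : Nat.Coprime 512 81) h512 h81
    have b := Nat.Coprime.mul_dvd_of_dvd_of_dvd (by norm_num : Nat.Coprime 5 7) h5d h7d
    exact Nat.Coprime.mul_dvd_of_dvd_of_dvd (by norm_num : Nat.Coprime (512 * 81) (5 * 7)) a b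
  rw [← MonoidHom.range_eq_top]
  refine Subgroup.eq_top_of_le_card _ ?_
  rw [natCard_sp6]
  exact Nat.le_of_dvd Nat.card_pos hall

theorem exists_commutator :
    ∃ c : ↥cov, c.1 = (N, 1) ∧ c ∈ commutator ↥cov := by
  have h := check_words
  simp only [wordsOK, Bool.and_eq_true, beq_iff_eq, ← List.map_append] at h
  obtain ⟨⟨⟨⟨⟨⟨⟨⟨-, hm⟩, hg⟩, -⟩, -⟩, -⟩, -⟩, -⟩, -⟩ := h
  obtain ⟨u, hu⟩ : ∃ u, u = words.getD 0 [] := ⟨_, rfl⟩
  obtain ⟨v, hv⟩ : ∃ v, v = words.getD 1 [] := ⟨_, rfl⟩
  rw [← hu, ← hv] at hm hg
  have hu4 : ∀ k ∈ u, k < 4 := hu ▸ word_lt 0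
  have hv4 : ∀ k ∈ v, k < 4 := hv ▸ word_lt 1
  have huv : ∀ k ∈ u ++ v, k < 4 := fun k hk => (List.mem_append.1 hk).elim (hu4 k) (hv4 k)
  have hvu : ∀ k ∈ v ++ u, k < 4 := fun k hk => (List.mem_append.1 hk).elim (hv4 k) (hu4 k)
  obtain ⟨X, hX⟩ : ∃ X : ↥cov, X.1 = liftWord u := ⟨⟨_, liftWord_mem hu4⟩, rfl⟩
  obtain ⟨Y, hY⟩ : ∃ Y : ↥cov, Y.1 = liftWord v := ⟨⟨_, liftWord_mem hv4⟩, rfl⟩
  have happ : ∀ a b : List ℕ, liftWord (a ++ b) = liftWord a * liftWord b := fun a b => by
    simp [liftWord]
  have h1 : (X * Y).1 = (N, 1) * (Y * X).1 := by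
    rw [Subgroup.coe_mul, Subgroup.coe_mul, hX, hY, ← happ, ← happ]
    refine Prod.ext ?_ ?_
    · show (liftWord (u ++ v)).1 = N * (liftWord (v ++ u)).1
      rw [liftWord_fst, liftWord_fst, prodP_eq (valid_map huv)
        (r := neg :: (v ++ u).map fun k => lifts.getD k 0) (fun d hd => ?_) hm, List.map_cons, List.prod_cons]
      · rfl
      · rcases List.mem_cons.1 hd with rfl | hd
        · exact neg_valid
        · exact valid_map hvu d hd
    · show (liftWord (u ++ v)).2 = 1 * (liftWord (v ++ u)).2
      rw [one_mul, liftWord_snd, liftWord_snd, ← el_wordC (ok_mapG huv), ← el_wordC (ok_mapG hvu), hg]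
  refine ⟨⁅X, Y⁆, ?_, Subgroup.commutator_mem_commutator (Subgroup.mem_top _) (Subgroup.mem_top _)⟩
  rw [commutatorElement_def]
  show (X * Y).1 * X.1⁻¹ * Y.1⁻¹ = _
  rw [h1, Subgroup.coe_mul]
  group

/-- The double cover of Sp6(2). -/
theorem exists_double_cover : ∃ (Γ : Type) (_ : Group Γ) (_ : Finite Γ) (σ : Γ →* G0),
    Cfsg.IsStemExtension σ ∧ Nat.card σ.ker = 2 := by
  obtain ⟨c, hc, hcc⟩ := exists_commutator
  have hker : ∀ x : ↥cov, covMap x = 1 → x = 1 ∨ x = c := fun x hx => by
    rcases eq_one_or_neg hx with h | h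
    · exact Or.inl (Subtype.ext (Prod.ext h hx))
    · exact Or.inr (Subtype.ext (by rw [hc]; exact Prod.ext h hx))
  have hcen : c ∈ Subgroup.center ↥cov := Subgroup.mem_center_iff.2 fun x => Subtype.ext (by
    rw [Subgroup.coe_mul, Subgroup.coe_mul, hc]
    exact Prod.ext (compat_of_mem x.2).1 (by simp))
  refine ⟨↥cov, inferInstance, inferInstance, covMap, ⟨covMap_surjective, fun x hx => ?_, fun x hx => ?_⟩, ?_⟩
  · rcases hker x (MonoidHom.mem_ker.1 hx) with rfl | rfl
    · exact one_mem _
    · exact hcen
  · rcases hker x (MonoidHom.mem_ker.1 hx) with rfl | rfl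
    · exact one_mem _
    · exact hcc
  · rw [Nat.card_eq_two_iff]
    refine ⟨1, ⟨c, show c.1.2 = 1 by rw [hc]⟩, fun h => ?_, Set.eq_univ_of_forall fun x => ?_⟩
    · have h1 := congrArg (fun z : covMap.ker => (z.1.1.1 : Equiv.Perm (Fin 240)) ⟨0, by norm_num⟩) h
      have h2 := congrArg Fin.val h1
      simp only [hc, Subgroup.coe_one, Prod.fst_one, Equiv.Perm.one_apply, N_fn] at h2
      exact absurd h2 (by decide +kernel)
    · rcases hker x.1 (MonoidHom.mem_ker.1 x.2) with h | h
      · exact Or.inl (Subtype.ext h)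
      · exact Or.inr (Subtype.ext h)

end Cfsg.Agent.Multiplier.Sp6
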