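import Cfsg.Agent.EqLemmas
import Cfsg.Agent.Lib.GLOrder.Symplectic

/-!
# Coded elements of Sp6(2)

A matrix over GF(2) of size 6 is coded by a number below `2 ^ 36`, six bits for each column.

* `el`, `el_wordC`, `el_injOn`: products of coded matrices are computed on the codes.
* `natCard_sp6`: the order of Sp6(2).
-/

set_option autoImplicit false
open Matrix

namespace Cfsg.Agent.Multiplier.Sp6

/-- The group. -/
abbrev G0 : Type := ↥(Matrix.symplecticGroup (Fin 3) (ZMod 2))

/-- A bit as an element of GF(2). -/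
def b2z (b : Bool) : ZMod 2 := cond b 1 0

theorem b2z_xor : ∀ a b, b2z (a ^^ b) = b2z a + b2z b := by decide
theorem b2z_and : ∀ a b, b2z (a && b) = b2z a * b2z b := by decide
theorem b2z_inj : ∀ a b, b2z a = b2z b → a = b := by decide

/-- The coordinate number. -/
def ix : Fin 3 ⊕ Fin 3 → ℕ := Sum.elim (fun k => k.val) fun k => k.val + 3

theorem ix_lt (i : Fin 3 ⊕ Fin 3) : ix i < 6 := by revert i; decide

/-- The coordinate with a given number. -/
def xi (n : ℕ) : Fin 3 ⊕ Fin 3 :=
  if n < 3 then .inl (Fin.ofNat 3 n) else .inr (Fin.ofNat 3 (n - 3))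

theorem ix_xi : ∀ n < 6, ix (xi n) = n := by decide

/-- The matrix of a code. -/
def toMat (a : ℕ) : Matrix (Fin 3 ⊕ Fin 3) (Fin 3 ⊕ Fin 3) (ZMod 2) :=
  Matrix.of fun i j => b2z (a.testBit (6 * ix j + ix i))

/-- Parity of six bits. -/
def par6 (f : ℕ → Bool) : Bool := f 0 ^^ f 1 ^^ f 2 ^^ f 3 ^^ f 4 ^^ f 5

/-- One column of a code, if selected. -/
def sel (a c l : ℕ) : ℕ := cond (c.testBit l) ((a >>> (6 * l)) &&& 63) 0

/-- The image of a column. -/
def colApp (a c : ℕ) : ℕ := sel a c 0 ^^^ sel a c 1 ^^^ sel a c 2 ^^^ sel a c 3 ^^^ sel a c 4 ^^^ sel a c 5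

/-- The product of codes. -/
def mulC (a b : ℕ) : ℕ :=
  colApp a b ||| colApp a (b >>> 6) <<< 6 ||| colApp a (b >>> 12) <<< 12 ||| colApp a (b >>> 18) <<< 18 |||
    colApp a (b >>> 24) <<< 24 ||| colApp a (b >>> 30) <<< 30

theorem testBit_63 (i : ℕ) : (63 : ℕ).testBit i = decide (i < 6) := by
  rw [show (63 : ℕ) = 2 ^ 6 - 1 from rfl, Nat.testBit_two_pow_sub_one]

theorem testBit_sel (a c l i : ℕ) :
    (sel a c l).testBit i = (decide (i < 6) && (a.testBit (6 * l + i) && c.testBit l)) := by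
  rw [sel]
  cases c.testBit l
  · simp
  · simp [Nat.testBit_and, Nat.testBit_shiftRight, testBit_63, Bool.and_comm]

theorem testBit_colApp (a c i : ℕ) :
    (colApp a c).testBit i = (decide (i < 6) && par6 fun l => a.testBit (6 * l + i) && c.testBit l) := by
  simp only [colApp, Nat.testBit_xor, testBit_sel, par6]
  cases decide (i < 6) <;> simp

theorem testBit_mulC (a b i j : ℕ) (hi : i < 6) (hj : j < 6) :
    (mulC a b).testBit (6 * j + i) = par6 fun l => a.testBit (6 * l + i) && b.testBit (6 * j + l) := by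
  simp only [mulC, Nat.testBit_or, Nat.testBit_shiftLeft, testBit_colApp, par6, Nat.testBit_shiftRight]
  rcases (show j = 0 ∨ j = 1 ∨ j = 2 ∨ j = 3 ∨ j = 4 ∨ j = 5 by omega) with rfl | rfl | rfl | rfl | rfl | rfl
  all_goals (rcases (show i = 0 ∨ i = 1 ∨ i = 2 ∨ i = 3 ∨ i = 4 ∨ i = 5 by omega) with
    rfl | rfl | rfl | rfl | rfl | rfl) <;> simp

theorem colApp_lt (a c : ℕ) : colApp a c < 2 ^ 6 := by
  refine Nat.lt_pow_two_of_testBit _ fun i hi => ?_
  rw [testBit_colApp, decide_eq_false (by omega)]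
  rfl

/-- The transpose of a code. -/
def transC (a : ℕ) : ℕ := Nat.ofBits fun k : Fin 36 => a.testBit (6 * (k.val % 6) + k.val / 6)

/-- The form. -/
def formC : ℕ := 0x102060408

/-- The identity. -/
def oneC : ℕ := 0x810204081

theorem mulC_lt (a b : ℕ) : mulC a b < 2 ^ 36 := by
  refine Nat.lt_pow_two_of_testBit _ fun i hi => ?_
  simp only [mulC, Nat.testBit_or, Nat.testBit_shiftLeft, testBit_colApp]
  simp [show ¬ i < 6 by omega, show ¬ i - 6 < 6 by omega, show ¬ i - 12 < 6 by omega,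
    show ¬ i - 18 < 6 by omega, show ¬ i - 24 < 6 by omega, show ¬ i - 30 < 6 by omega]

theorem toMat_mulC (a b : ℕ) : toMat (mulC a b) = toMat a * toMat b := by
  ext i j
  have hi := ix_lt i
  have hj := ix_lt j
  rw [Matrix.mul_apply, Fintype.sum_sum_type, Fin.sum_univ_three, Fin.sum_univ_three]
  simp only [toMat, Matrix.of_apply]
  rw [testBit_mulC a b (ix i) (ix j) hi hj]
  simp only [par6, b2z_xor, b2z_and]
  simp only [show ix (Sum.inl 0) = 0 from rfl, show ix (Sum.inl 1) = 1 from rfl, show ix (Sum.inl 2) = 2 from rfl,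
    show ix (Sum.inr 0) = 3 from rfl, show ix (Sum.inr 1) = 4 from rfl, show ix (Sum.inr 2) = 5 from rfl]
  ring

theorem toMat_transC (a : ℕ) : toMat (transC a) = (toMat a)ᵀ := by
  ext i j
  have hi := ix_lt i
  have hj := ix_lt j
  simp only [toMat, Matrix.transpose_apply, Matrix.of_apply, transC]
  rw [Nat.testBit_ofBits_lt _ _ (by omega)]
  simp only [show (6 * ix j + ix i) % 6 = ix i by omega, show (6 * ix j + ix i) / 6 = ix j by omega]

theorem toMat_formC : toMat formC = Matrix.J (Fin 3) (ZMod 2) := by decide +kernel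

theorem toMat_oneC : toMat oneC = 1 := by decide +kernel

theorem toMat_injOn {a b : ℕ} (ha : a < 2 ^ 36) (hb : b < 2 ^ 36) (h : toMat a = toMat b) : a = b := by
  apply Nat.eq_of_testBit_eq
  intro i
  rcases lt_or_ge i 36 with hi | hi
  · have := congrFun (congrFun h (xi (i % 6))) (xi (i / 6))
    simp only [toMat, Matrix.of_apply, ix_xi _ (Nat.mod_lt i (by norm_num : 6 > 0)),
      ix_xi _ (show i / 6 < 6 by omega), Nat.div_add_mod] at this
    exact b2z_inj _ _ this
  · have h2 : 2 ^ 36 ≤ 2 ^ i := Nat.pow_le_pow_right (by norm_num) hi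
    rw [Nat.testBit_lt_two_pow (lt_of_lt_of_le ha h2), Nat.testBit_lt_two_pow (lt_of_lt_of_le hb h2)]

/-- A valid code. -/
def ok (a : ℕ) : Bool := decide (a < 2 ^ 36) && mulC (mulC a formC) (transC a) == formC

theorem mem_of_ok {a : ℕ} (h : ok a = true) : toMat a ∈ Matrix.symplecticGroup (Fin 3) (ZMod 2) := by
  simp only [ok, Bool.and_eq_true, beq_iff_eq] at h
  rw [SymplecticGroup.mem_iff, ← toMat_formC, ← toMat_transC, ← toMat_mulC, ← toMat_mulC, h.2]

theorem lt_of_ok {a : ℕ} (h : ok a = true) : a < 2 ^ 36 := by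
  simp only [ok, Bool.and_eq_true, decide_eq_true_eq] at h
  exact h.1

theorem ok_of_mem {a : ℕ} (ha : a < 2 ^ 36) (h : toMat a ∈ Matrix.symplecticGroup (Fin 3) (ZMod 2)) :
    ok a = true := by
  simp only [ok, Bool.and_eq_true, decide_eq_true_eq, beq_iff_eq]
  refine ⟨ha, toMat_injOn (mulC_lt _ _) (by decide) ?_⟩
  rw [toMat_mulC, toMat_mulC, toMat_transC, toMat_formC]
  exact SymplecticGroup.mem_iff.1 h

theorem ok_mulC {a b : ℕ} (ha : ok a = true) (hb : ok b = true) : ok (mulC a b) = true :=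
  ok_of_mem (mulC_lt a b) (by rw [toMat_mulC]; exact mul_mem (mem_of_ok ha) (mem_of_ok hb))

/-- The element of a code. -/
noncomputable def el (a : ℕ) : G0 := if h : ok a = true then ⟨toMat a, mem_of_ok h⟩ else 1

theorem el_mul {a b : ℕ} (ha : ok a = true) (hb : ok b = true) : el (mulC a b) = el a * el b := by
  refine Subtype.ext ?_
  rw [el, el, el, dif_pos ha, dif_pos hb, dif_pos (ok_mulC ha hb)]
  exact toMat_mulC a b

theorem ok_oneC : ok oneC = true := by decide +kernel

theorem el_oneC : el oneC = 1 := by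
  refine Subtype.ext ?_
  rw [el, dif_pos ok_oneC]
  exact toMat_oneC

/-- The product of a word of codes. -/
def wordC (l : List ℕ) : ℕ := l.foldr mulC oneC

theorem ok_wordC : ∀ {l : List ℕ}, (∀ a ∈ l, ok a = true) → ok (wordC l) = true
  | [], _ => ok_oneC
  | a :: _, h => ok_mulC (h a List.mem_cons_self) (ok_wordC fun b hb => h b (List.mem_cons_of_mem _ hb))

theorem el_wordC : ∀ {l : List ℕ}, (∀ a ∈ l, ok a = true) → el (wordC l) = (l.map el).prod
  | [], _ => el_oneC
  | a :: l, h => by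
    rw [show wordC (a :: l) = mulC a (wordC l) from rfl, List.map_cons, List.prod_cons,
      el_mul (h a List.mem_cons_self) (ok_wordC fun b hb => h b (List.mem_cons_of_mem _ hb)),
      el_wordC fun b hb => h b (List.mem_cons_of_mem _ hb)]

theorem el_injOn {a b : ℕ} (ha : ok a = true) (hb : ok b = true) : el a = el b ↔ a = b := by
  refine ⟨fun h => toMat_injOn (lt_of_ok ha) (lt_of_ok hb) ?_, fun h => h ▸ rfl⟩
  have h' := congrArg Subtype.val h
  rw [el, el, dif_pos ha, dif_pos hb] at h'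
  exact h'

/-- Equal codes give equal products. -/
theorem prod_eq {l r : List ℕ} (hl : ∀ a ∈ l, ok a = true) (hr : ∀ a ∈ r, ok a = true)
    (h : (wordC l == wordC r) = true) : (l.map el).prod = (r.map el).prod := by
  rw [← el_wordC hl, ← el_wordC hr, beq_iff_eq.1 h]

/-- Different codes give different products. -/
theorem prod_ne {l r : List ℕ} (hl : ∀ a ∈ l, ok a = true) (hr : ∀ a ∈ r, ok a = true)
    (h : (wordC l != wordC r) = true) : (l.map el).prod ≠ (r.map el).prod := by
  rw [← el_wordC hl, ← el_wordC hr, Ne, el_injOn (ok_wordC hl) (ok_wordC hr)]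
  exact bne_iff_ne.1 h

theorem natCard_sp6 : Nat.card G0 = 1451520 := by
  rw [GLOrder.card_Sp 3, Nat.card_zmod]
  simp [Finset.prod_range_succ]

end Cfsg.Agent.Multiplier.Sp6
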