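import Cfsg.Agent.Lib.Multiplier.OddPart

/-!
# Sylow subgroups of class 2 and multipliers

* `not_stem_class_two`: no stem extension of degree `p` over a Sylow subgroup of order `p ^ 3` with a
  suitable automorphism.
* `card_closure_class_two`, `card_closure_pair`: orders of the subgroups generated by two elements.
-/

set_option autoImplicit false

open scoped commutatorElement

namespace Cfsg.Agent.Multiplier

universe u v

variable {G : Type v} [Group G] {Γ : Type u} [Group Γ] [Finite Γ] {σ : Γ →* G}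

omit [Finite Γ] in
/-- A central commutator is bilinear. -/
theorem commutator_pow_pow {w s : Γ} (hc : ∀ g, g * ⁅w, s⁆ = ⁅w, s⁆ * g) (m n : ℕ) :
    ⁅w ^ m, s ^ n⁆ = ⁅w, s⁆ ^ (m * n) := by
  have h1 : ∀ (a b : Γ), (∀ g, g * ⁅a, b⁆ = ⁅a, b⁆ * g) → ∀ k : ℕ, ⁅a, b ^ k⁆ = ⁅a, b⁆ ^ k := by
    intro a b hab k
    induction k with
    | zero => simp
    | succ k ih =>
      rw [show ⁅a, b ^ (k + 1)⁆ = ⁅a, b ^ k⁆ * (b ^ k * ⁅a, b⁆ * (b ^ k)⁻¹) by
        rw [pow_succ]; simp only [commutatorElement_def]; group, hab, mul_inv_cancel_right, ih, pow_succ]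
  have hws : ∀ g, g * ⁅s, w⁆ = ⁅s, w⁆ * g := fun g => by
    rw [← commutatorElement_inv]; exact (Commute.inv_right (hc g : Commute g ⁅w, s⁆)).eq
  have h2 : ⁅w ^ m, s⁆ = ⁅w, s⁆ ^ m := by
    rw [← commutatorElement_inv, h1 s w hws m, ← inv_pow, commutatorElement_inv]
  rw [h1 (w ^ m) s (fun g => by rw [h2]; exact ((show Commute g ⁅w, s⁆ from hc g).pow_right m).eq) n, h2, ← pow_mul]

/-- No stem extension of degree `p` when `⟨a, b⟩` has class 2, exponent generators of order `p` and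
index prime to `p`, and some element maps `a, b` to powers `i, j` with `i²j, ij² ≢ 1`. -/
theorem not_stem_class_two (hσ : Cfsg.IsStemExtension σ) {p : ℕ} (hp : p.Prime) {a b g : G} {i j : ℕ} (ha : a ^ p = 1)
    (hca : Commute ⁅a, b⁆ a) (hcb : Commute ⁅a, b⁆ b) (hcne : ⁅a, b⁆ ≠ 1)
    (hga : g * a * g⁻¹ = a ^ i) (hgb : g * b * g⁻¹ = b ^ j)
    (hgw : g * ⁅a, b⁆ * g⁻¹ = ⁅a, b⁆ ^ (i * j)) (hi : ¬ ((i * i * j : ℕ) : ℤ) ≡ 1 [ZMOD p])
    (hj : ¬ ((i * j * j : ℕ) : ℤ) ≡ 1 [ZMOD p]) (hidx : ¬ p ∣ (Subgroup.closure {a, b}).index) :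
    Nat.card σ.ker ≠ p := by
  intro hK
  obtain ⟨x, rfl⟩ := hσ.1 a
  obtain ⟨y, rfl⟩ := hσ.1 b
  obtain ⟨t, rfl⟩ := hσ.1 g
  have hc := hσ.2.1
  set w := ⁅x, y⁆ with hwdef
  have hσw : σ w = ⁅σ x, σ y⁆ := map_commutatorElement σ x y
  have hexp : ∀ k ∈ σ.ker, k ^ p = 1 := fun k hk => by
    rw [← hK]; exact congrArg Subtype.val (pow_card_eq_one' (x := (⟨k, hk⟩ : σ.ker)))
  have hkey : ∀ (m : ℕ) (s : Γ), σ t * σ s * (σ t)⁻¹ = σ s ^ m → Commute (σ w) (σ s) →
      ¬ ((i * j * m : ℕ) : ℤ) ≡ 1 [ZMOD p] → Commute w s := by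
    intro m s hs hws hm
    have hk : ⁅w, s⁆ ∈ σ.ker := by
      rw [MonoidHom.mem_ker, map_commutatorElement, commutatorElement_eq_one_iff_commute]; exact hws
    have hw' : σ (t * w * t⁻¹) = σ (w ^ (i * j)) := by
      rw [map_mul, map_mul, map_inv, map_pow, hσw]; exact hgw
    have h1 : ⁅w, s⁆ = ⁅w ^ (i * j), s ^ m⁆ := by
      have e := conj_commutator t w s
      rw [Subgroup.mem_center_iff.1 (hc hk) t, mul_inv_cancel_right] at e
      rw [e]
      exact commutator_congr hc hw' (by rw [map_mul, map_mul, map_inv, hs, map_pow])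
    rw [commutator_pow_pow (Subgroup.mem_center_iff.1 (hc hk))] at h1
    refine commutatorElement_eq_one_iff_commute.1 (by_contra fun hne => hm ?_)
    have : Fact p.Prime := ⟨hp⟩
    have ho : orderOf ⁅w, s⁆ = p := orderOf_eq_prime (hexp _ hk) hne
    rw [← ho, ← zpow_eq_zpow_iff_modEq, zpow_one, zpow_natCast]
    exact h1.symm
  have hwx : Commute w x := hkey i x hga (by rw [hσw]; exact hca)
    (by rwa [show i * j * i = i * i * j by ring])
  have hwy : Commute w y := hkey j y hgb (by rw [hσw]; exact hcb) hj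
  -- `w ^ 3 = 1`
  have hwp : w ^ p = 1 := by
    have hstep : x * y * x⁻¹ = w * y := by rw [hwdef, commutatorElement_def]; group
    have hst : ∀ n : ℕ, x ^ n * y * (x ^ n)⁻¹ = w ^ n * y := fun n => by
      induction n with
      | zero => simp
      | succ n ih =>
        rw [show x ^ (n + 1) * y * (x ^ (n + 1))⁻¹ = x * (x ^ n * y * (x ^ n)⁻¹) * x⁻¹ by
          rw [pow_succ']; group, ih]
        calc x * (w ^ n * y) * x⁻¹ = (x * w ^ n * x⁻¹) * (x * y * x⁻¹) := by group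
          _ = w ^ n * (w * y) := by rw [hstep, ← (hwx.pow_left n).eq, mul_inv_cancel_right]
          _ = w ^ (n + 1) * y := by rw [pow_succ, mul_assoc]
    have hxp : x ^ p ∈ Subgroup.center Γ := hc (by rw [MonoidHom.mem_ker, map_pow, ha])
    have h3 := hst p
    rw [← Subgroup.mem_center_iff.1 hxp y, mul_inv_cancel_right] at h3
    exact right_eq_mul.1 h3
  have hle := ker_le_commutator_closure hσ hp hK ({x, y} ∪ (σ.ker : Set Γ))
    Set.subset_union_right (Subgroup.closure {σ x, σ y}) (by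
      rw [Subgroup.closure_le]
      rintro _ (rfl | rfl)
      · exact ⟨x, Subgroup.subset_closure (Or.inl (Or.inl rfl)), rfl⟩
      · exact ⟨y, Subgroup.subset_closure (Or.inl (Or.inr rfl)), rfl⟩) hidx
  have hwz : σ.ker ≤ Subgroup.zpowers w := hle.trans (commutator_closure_le _ _ (fun s hs r hr => by
    have hcen : ∀ {p q : Γ}, Commute p q → ⁅p, q⁆ ∈ Subgroup.zpowers w := fun h => by
      rw [commutatorElement_eq_one_iff_commute.2 h]; exact one_mem _
    rcases hs with (rfl | rfl) | hs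
    · rcases hr with (rfl | rfl) | hr
      · exact hcen (Commute.refl _)
      · exact Subgroup.mem_zpowers w
      · exact hcen (Subgroup.mem_center_iff.1 (hc hr) _)
    · rcases hr with (rfl | rfl) | hr
      · rw [← commutatorElement_inv]; exact inv_mem (Subgroup.mem_zpowers w)
      · exact hcen (Commute.refl _)
      · exact hcen (Subgroup.mem_center_iff.1 (hc hr) _)
    · exact hcen (Subgroup.mem_center_iff.1 (hc hs) _).symm) (fun s hs m hm => by
      have hsw : Commute s w := by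
        rcases hs with (rfl | rfl) | hs
        · exact hwx.symm
        · exact hwy.symm
        · exact (Subgroup.mem_center_iff.1 (hc hs) _).symm
      obtain ⟨n, rfl⟩ := Subgroup.mem_zpowers_iff.1 hm
      rw [(hsw.zpow_right n).eq, mul_inv_cancel_right]
      exact Subgroup.zpow_mem_zpowers w n))
  have : Fact p.Prime := ⟨hp⟩
  have hσwp : orderOf (σ w) = p :=
    orderOf_eq_prime (by rw [← map_pow, hwp, map_one]) (by rw [hσw]; exact hcne)
  have hbot : σ.ker = ⊥ := by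
    rw [Subgroup.eq_bot_iff_forall]
    intro z hz
    obtain ⟨n, rfl⟩ := Subgroup.mem_zpowers_iff.1 (hwz hz)
    rw [MonoidHom.mem_ker, map_zpow, ← orderOf_dvd_iff_zpow_eq_one, hσwp] at hz
    obtain ⟨m, rfl⟩ := hz
    rw [zpow_mul, zpow_natCast, hwp, one_zpow]
  rw [hbot, Subgroup.card_bot] at hK
  exact hp.ne_one hK.symm

omit [Finite Γ] in
/-- Two generators of order `p` with central commutator different from 1 span `p ^ 3` elements. -/
theorem card_closure_class_two [Finite G] {p : ℕ} (hp : p.Prime) {a b : G} (ha : a ^ p = 1)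
    (hb : b ^ p = 1) (hca : Commute ⁅a, b⁆ a) (hcb : Commute ⁅a, b⁆ b) (hne : ⁅a, b⁆ ≠ 1) :
    Nat.card (Subgroup.closure {a, b}) = p ^ 3 := by
  have : Fact p.Prime := ⟨hp⟩
  obtain ⟨w, hw⟩ : ∃ w, w = ⁅a, b⁆ := ⟨_, rfl⟩
  rw [← hw] at hca hcb hne
  have hconj : ∀ n : ℕ, a ^ n * b * (a ^ n)⁻¹ = w ^ n * b := by
    intro n
    induction n with
    | zero => simp
    | succ n ih =>
      rw [show a ^ (n + 1) * b * (a ^ (n + 1))⁻¹ = a * (a ^ n * b * (a ^ n)⁻¹) * a⁻¹ by
        rw [pow_succ']; group, ih]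
      calc a * (w ^ n * b) * a⁻¹ = (a * w ^ n * a⁻¹) * (a * b * a⁻¹) := by group
        _ = w ^ n * (w * b) := by
          rw [← (hca.pow_left n).eq, mul_inv_cancel_right, show a * b * a⁻¹ = w * b by
            rw [hw, commutatorElement_def]; group]
        _ = w ^ (n + 1) * b := by rw [pow_succ, mul_assoc]
  have hwp : w ^ p = 1 := by
    have h := hconj p
    rw [ha, one_mul, inv_one, mul_one] at h
    exact right_eq_mul.1 h
  have how : orderOf w = p := orderOf_eq_prime hwp hne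
  obtain ⟨P, hP⟩ : ∃ P, P = Subgroup.closure ({a, b} : Set G) := ⟨_, rfl⟩
  have haP : a ∈ P := hP ▸ Subgroup.subset_closure (Set.mem_insert _ _)
  have hbP : b ∈ P := hP ▸ Subgroup.subset_closure (Set.mem_insert_of_mem _ rfl)
  have hwP : w ∈ P := by
    rw [hw, commutatorElement_def]
    exact mul_mem (mul_mem (mul_mem haP hbP) (inv_mem haP)) (inv_mem hbP)
  let f : Fin p × Fin p × Fin p → P := fun e =>
    ⟨b ^ (e.1 : ℕ) * a ^ (e.2.1 : ℕ) * w ^ (e.2.2 : ℕ), mul_mem (mul_mem (pow_mem hbP _) (pow_mem haP _)) (pow_mem hwP _)⟩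
  have hba : ∀ m n : ℕ, a ^ n * b ^ m = w ^ (n * m) * (b ^ m * a ^ n) := by
    intro m n
    have h : a ^ n * b ^ m * (a ^ n)⁻¹ = (w ^ n * b) ^ m := by rw [← conj_pow, hconj]
    rw [(hcb.pow_left n).mul_pow, ← pow_mul] at h
    rw [← mul_assoc]
    exact mul_inv_eq_iff_eq_mul.1 h
  have hsurj : Function.Surjective f := by
    rintro ⟨x, hx⟩
    suffices H : ∃ i j k : ℕ, x = b ^ i * a ^ j * w ^ k by
      obtain ⟨i, j, k, rfl⟩ := H
      refine ⟨(⟨i % p, Nat.mod_lt _ hp.pos⟩, ⟨j % p, Nat.mod_lt _ hp.pos⟩, ⟨k % p, Nat.mod_lt _ hp.pos⟩),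
        Subtype.ext ?_⟩
      show b ^ (i % p) * a ^ (j % p) * w ^ (k % p) = _
      rw [← pow_eq_pow_mod i hb, ← pow_eq_pow_mod j ha, ← pow_eq_pow_mod k hwp]
    rw [hP, ← Subgroup.mem_toSubmonoid, Subgroup.closure_toSubmonoid_of_finite] at hx
    induction hx using Submonoid.closure_induction_right with
    | one => exact ⟨0, 0, 0, by simp⟩
    | mul_right y _ z hz ih =>
      obtain ⟨i, j, k, rfl⟩ := ih
      rcases hz with hz | hz <;> (try rw [Set.mem_singleton_iff] at hz) <;> rw [hz]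
      · exact ⟨i, j + 1, k, by rw [mul_assoc _ (w ^ k), (hca.pow_left k).eq, ← mul_assoc, mul_assoc (b ^ i), ← pow_succ]⟩
      · refine ⟨i + 1, j, j + k, ?_⟩
        calc b ^ i * a ^ j * w ^ k * b = b ^ i * (a ^ j * b ^ 1) * w ^ k := by
              rw [pow_one, mul_assoc _ (w ^ k), (hcb.pow_left k).eq]; simp only [mul_assoc]
          _ = b ^ i * (b * a ^ j) * (w ^ j * w ^ k) := by
              rw [hba, mul_one, pow_one,
                ((hcb.mul_right (hca.pow_right j)).pow_left j).eq]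
              simp only [mul_assoc]
          _ = b ^ (i + 1) * a ^ j * w ^ (j + k) := by rw [pow_succ, pow_add]; simp only [mul_assoc]
  have hinj : Function.Injective f := by
    rintro ⟨i, j, k⟩ ⟨i', j', k'⟩ h
    have h' : b ^ (i : ℕ) * a ^ (j : ℕ) * w ^ (k : ℕ) = b ^ (i' : ℕ) * a ^ (j' : ℕ) * w ^ (k' : ℕ) :=
      congrArg Subtype.val h
    have key : ∀ {c : G}, Commute w c → ∀ (i j k : ℕ),
        ⁅c, b ^ i * a ^ j * w ^ k⁆ = ⁅c, b ^ i * a ^ j⁆ := by
      intro c hc i j k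
      have hw' : Commute (w ^ k) c⁻¹ := (hc.pow_left k).inv_right
      rw [commutatorElement_def, commutatorElement_def,
        show c * (b ^ i * a ^ j * w ^ k) * c⁻¹ * (b ^ i * a ^ j * w ^ k)⁻¹ =
          c * (b ^ i * a ^ j) * (w ^ k * c⁻¹ * (w ^ k)⁻¹) * (b ^ i * a ^ j)⁻¹ by group,
        hw'.eq, mul_inv_cancel_right]
    have hA : ∀ i j : ℕ, ⁅a, b ^ i * a ^ j⁆ = w ^ i := by
      intro i j
      have h1 := hba i 1
      rw [pow_one, one_mul] at h1
      rw [commutatorElement_def, show a * (b ^ i * a ^ j) * a⁻¹ * (b ^ i * a ^ j)⁻¹ =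
        (a * b ^ i) * (a ^ j * a⁻¹ * (a ^ j)⁻¹) * (b ^ i)⁻¹ by group,
        ((Commute.refl a).pow_left j).inv_right.eq, mul_inv_cancel_right, h1]
      group
    have hB : ∀ i j : ℕ, ⁅b, b ^ i * a ^ j⁆ = (w ^ j)⁻¹ := by
      intro i j
      have h1 := hba 1 j
      rw [pow_one, mul_one] at h1
      rw [commutatorElement_def, show b * (b ^ i * a ^ j) * b⁻¹ * (b ^ i * a ^ j)⁻¹ =
        b ^ i * (b * a ^ j) * (a ^ j * b)⁻¹ * (b ^ i)⁻¹ by group, h1,
        show b ^ i * (b * a ^ j) * (w ^ j * (b * a ^ j))⁻¹ * (b ^ i)⁻¹ = b ^ i * (w ^ j)⁻¹ * (b ^ i)⁻¹ by group,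
        ((hcb.pow_pow j i).inv_left).symm.eq, mul_inv_cancel_right]
    have hfin : ∀ {m n : Fin p}, w ^ (m : ℕ) = w ^ (n : ℕ) → m = n := by
      intro m n hmn
      rw [pow_inj_mod, how, Nat.mod_eq_of_lt m.2, Nat.mod_eq_of_lt n.2] at hmn
      exact Fin.ext hmn
    have hi : i = i' := hfin (by
      rw [← hA i j, ← key hca i j k, h', key hca i' j' k', hA])
    have hj : j = j' := hfin (inv_injective (by
      rw [← hB i j, ← key hcb i j k, h', key hcb i' j' k', hB]))
    subst hi hj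
    rw [hfin (mul_left_cancel h')]
  rw [← hP, ← Nat.card_congr (Equiv.ofBijective f ⟨hinj, hsurj⟩), Nat.card_prod, Nat.card_prod, Nat.card_fin]
  ring

omit [Finite Γ] in
/-- Two commuting elements of odd prime order, one fixed and one inverted, span `p ^ 2` elements. -/
theorem card_closure_pair [Finite G] {p : ℕ} (hp : p.Prime) (hp2 : p ≠ 2) {a b t : G} (ha : a ^ p = 1)
    (hb : b ^ p = 1) (ha1 : a ≠ 1) (hb1 : b ≠ 1) (hab : Commute a b) (hta : t * a * t⁻¹ = a)
    (htb : t * b * t⁻¹ = b⁻¹) : Nat.card (Subgroup.closure {a, b}) = p ^ 2 := by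
  have : Fact p.Prime := ⟨hp⟩
  obtain ⟨P, hP⟩ : ∃ P, P = Subgroup.closure ({a, b} : Set G) := ⟨_, rfl⟩
  have haP : a ∈ P := hP ▸ Subgroup.subset_closure (Set.mem_insert _ _)
  have hbP : b ∈ P := hP ▸ Subgroup.subset_closure (Set.mem_insert_of_mem _ rfl)
  let f : Fin p × Fin p → P := fun e =>
    ⟨a ^ (e.1 : ℕ) * b ^ (e.2 : ℕ), mul_mem (pow_mem haP _) (pow_mem hbP _)⟩
  have hsurj : Function.Surjective f := by
    rintro ⟨x, hx⟩
    suffices H : ∃ i j : ℕ, x = a ^ i * b ^ j by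
      obtain ⟨i, j, rfl⟩ := H
      refine ⟨(⟨i % p, Nat.mod_lt _ hp.pos⟩, ⟨j % p, Nat.mod_lt _ hp.pos⟩), Subtype.ext ?_⟩
      show a ^ (i % p) * b ^ (j % p) = _
      rw [← pow_eq_pow_mod i ha, ← pow_eq_pow_mod j hb]
    rw [hP, ← Subgroup.mem_toSubmonoid, Subgroup.closure_toSubmonoid_of_finite] at hx
    induction hx using Submonoid.closure_induction_right with
    | one => exact ⟨0, 0, by simp⟩
    | mul_right y _ z hz ih =>
      obtain ⟨i, j, rfl⟩ := ih
      rcases hz with hz | hz <;> (try rw [Set.mem_singleton_iff] at hz) <;> rw [hz]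
      · exact ⟨i + 1, j, by rw [mul_assoc, (hab.symm.pow_left j).eq, ← mul_assoc, ← pow_succ]⟩
      · exact ⟨i, j + 1, by rw [mul_assoc, ← pow_succ]⟩
  have hinj : Function.Injective f := by
    rintro ⟨i, j⟩ ⟨i', j'⟩ h
    have h' : a ^ (i : ℕ) * b ^ (j : ℕ) = a ^ (i' : ℕ) * b ^ (j' : ℕ) := congrArg Subtype.val h
    have hz : a ^ ((i : ℤ) - i') = b ^ ((j' : ℤ) - j) := by
      rw [sub_eq_neg_add (i : ℤ), zpow_add, zpow_sub, zpow_neg, zpow_natCast, zpow_natCast, zpow_natCast,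
        zpow_natCast, eq_mul_inv_iff_mul_eq, mul_assoc, inv_mul_eq_iff_eq_mul]
      exact h'
    have htz : b ^ ((j' : ℤ) - j) = (b ^ ((j' : ℤ) - j))⁻¹ := by
      conv_lhs => rw [← hz, ← hta, conj_zpow, hz]
      rw [← conj_zpow, htb, inv_zpow]
    have hb2 : b ^ (2 * ((j' : ℤ) - j)) = 1 := by
      rw [two_mul, zpow_add, ← eq_inv_iff_mul_eq_one]; exact htz
    have hob : orderOf b = p := orderOf_eq_prime hb hb1
    have hoa : orderOf a = p := orderOf_eq_prime ha ha1
    have hd : (p : ℤ) ∣ (j' : ℤ) - j := by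
      rw [← orderOf_dvd_iff_zpow_eq_one, hob] at hb2
      refine (Int.Prime.dvd_mul' hp hb2).resolve_left fun h2 => hp2 ?_
      exact (Nat.prime_dvd_prime_iff_eq hp Nat.prime_two).1 (by exact_mod_cast h2)
    have hsmall : ∀ {m n : Fin p}, (p : ℤ) ∣ (m : ℤ) - n → m = n := by
      intro m n hmn
      have := m.2; have := n.2
      have h0 := Int.eq_zero_of_dvd_of_natAbs_lt_natAbs hmn (by omega)
      exact Fin.ext (by omega)
    have hj : j' = j := hsmall hd
    subst hj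
    rw [sub_self, zpow_zero, ← orderOf_dvd_iff_zpow_eq_one, hoa] at hz
    rw [hsmall hz]
  rw [← hP, ← Nat.card_congr (Equiv.ofBijective f ⟨hinj, hsurj⟩), Nat.card_prod, Nat.card_fin]
  ring

end Cfsg.Agent.Multiplier
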