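import Cfsg.Agent.Lib.Multiplier.HeModel
import Cfsg.Agent.Lib.Multiplier.OddClassTwo

/-!
# The Held group has trivial multiplier

Words are evaluated on the 2058 cosets.

* `not_stem` : no stem extension of He has a kernel of prime order.
-/

set_option autoImplicit false
set_option maxRecDepth 100000

open scoped commutatorElement

namespace Cfsg.Agent.Multiplier.He

open HeData Cfsg.Agent.CosetEnum

attribute [local irreducible] pcWords conjs ders rhs he2058 tbl

theorem el_reverse : ∀ w : List ℕ, okW w = true → el w.reverse = (el w)⁻¹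
  | [], _ => inv_one.symm
  | a :: w, h => by
    simp only [okW, List.all_cons, Bool.and_eq_true] at h
    have hall : ((List.range 7).all fun a => same [a, a] []) = true := by decide +kernel
    have hsq : el [a] * el [a] = 1 := by
      rw [← el_append, ← el_nil]
      exact el_eq (List.all_eq_true.1 hall a (List.mem_range.2 (of_decide_eq_true h.1)))
    rw [List.reverse_cons, el_append, el_reverse w h.2, show a :: w = [a] ++ w from rfl, el_append, mul_inv_rev,
      inv_eq_of_mul_eq_one_right hsq]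

/-- A polycyclic generator. -/
noncomputable def pc (i : ℕ) : G0 := el (code i)

theorem pw_pc (l : List ℕ) : TailCert.pw pc l = el (flat l) := by
  rw [flat, el_flatten, List.map_map]; rfl

theorem rep_lt {a b : ℕ} (ha : a < 10) (hb : b ≤ a) : ∀ i ∈ TailCert.rep 10 rhs a b, i < 10 := by
  intro i hi
  rw [TailCert.rep] at hi
  split at hi
  · exact List.mem_range.1 (List.mem_filter.1 hi).1
  · rcases List.mem_cons.1 hi with rfl | hi
    · omega
    rcases List.mem_cons.1 hi with rfl | hi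
    · exact ha
    · exact List.mem_range.1 (List.mem_filter.1 hi).1

theorem pc_rel (a b : ℕ) (ha : a < 10) (hb : b ≤ a) :
    pc a * pc b = TailCert.pw pc (TailCert.rep 10 rhs a b) := by
  have h := check_rel
  simp only [List.all_eq_true, List.mem_range] at h
  rw [pw_pc, pc, pc, ← el_append]
  exact el_eq (h a ha b (by omega))

theorem img_append (u v : List ℕ) (i : ℕ) : img (u ++ v) i = img u (img v i) := by
  induction u with
  | nil => rfl
  | cons a u ih =>
    show force (img (u ++ v) i) (fun j => lane 13 (tbl a) j) =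
      force (img u (img v i)) (fun j => lane 13 (tbl a) j)
    rw [ih]

theorem okW_flat {l : List ℕ} (hl : ∀ i ∈ l, i < 10) : okW (flat l) = true := by
  simp only [okW, List.all_eq_true, decide_eq_true_eq, flat, List.mem_flatten, List.mem_map]
  rintro x ⟨w, ⟨i, hi, rfl⟩, hx⟩
  have h := List.all_eq_true.1 check_code i (List.mem_range.2 (hl i hi))
  simp only [okW, List.all_eq_true, decide_eq_true_eq] at h
  exact h x hx

theorem dfs_spec : ∀ (L suf : List ℕ) (ne : Bool), (suf ≠ [] → ne = true) →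
    dfs L (roots.map (img (flat suf))) ne = true →
    ∀ l : List ℕ, l.Sublist L → l.reverse ++ suf ≠ [] → moves (roots.map (img (flat (l.reverse ++ suf)))) = true
  | [], suf, ne, hne, h, l, hl, hnil => by
    rw [List.sublist_nil.1 hl, List.reverse_nil, List.nil_append] at hnil ⊢
    rw [hne hnil] at h
    exact h
  | a :: L, suf, ne, hne, h, l, hl, hnil => by
    have h' : (dfs L (roots.map (img (flat suf))) ne &&
        dfs L ((roots.map (img (flat suf))).map (img (code a))) true) = true := h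
    rw [Bool.and_eq_true] at h'
    rcases List.sublist_cons_iff.1 hl with hl | ⟨r, rfl, hr⟩
    · exact dfs_spec L suf ne hne h'.1 l hl hnil
    · have he : (roots.map (img (flat suf))).map (img (code a)) = roots.map (img (flat (a :: suf))) := by
        rw [List.map_map]
        refine List.map_congr_left fun b _ => ?_
        simp [flat, img_append]
      rw [he] at h'
      have := dfs_spec L (a :: suf) true (fun _ => rfl) h'.2 r hr (by simp)
      simpa using this

theorem pc_injective (l : List ℕ) (hl : l.Sublist (List.range 10)) (h : TailCert.pw pc l = 1) : l = [] := by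
  by_contra hne
  have h0 : roots.map (img (flat [])) = roots := List.map_id _
  have hmv := dfs_spec (List.range 10).reverse [] false (fun h => absurd rfl h) (by rw [h0]; exact check_sub)
    l.reverse hl.reverse (by simpa using hne)
  rw [pw_pc] at h
  exact el_ne_one (okW_flat fun i hi => List.mem_range.1 (hl.subset hi)) (by simpa using hmv) h

theorem rhs_above : ∀ a b, a < 10 → b ≤ a → ∀ i ∈ TailCert.letters 10 (rhs.getD (TailCert.tidx a b) 0), a < i := by
  intro a b ha hb
  have h := check_tails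
  rw [TailCert.allTails] at h
  split at h
  · simp at h
  · simp only [Bool.and_eq_true, List.all_eq_true, List.mem_range, decide_eq_true_eq] at h
    exact (h a ha b (by omega)).2

theorem finite_g0 : Finite G0 := Nat.finite_of_card_ne_zero (by rw [card_g0]; norm_num)

theorem two_index : ¬ 2 ∣ (Subgroup.closure (Set.range fun i : Fin 10 => pc i)).index := by
  have := finite_g0
  have hset : (Set.range fun i : Fin 10 => pc i) = pc '' {i | 0 ≤ i ∧ i < 10} := by
    ext x
    constructor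
    · rintro ⟨i, rfl⟩; exact ⟨i, ⟨Nat.zero_le _, i.2⟩, rfl⟩
    · rintro ⟨i, ⟨-, hi⟩, rfl⟩; exact ⟨⟨i, hi⟩, rfl⟩
  have hmul := (Subgroup.closure (pc '' {i | 0 ≤ i ∧ i < 10})).card_mul_index
  rw [TailCert.card_of_rel pc_rel rhs_above pc_injective 10 0 rfl, card_g0] at hmul
  rw [hset]
  omega

universe u

variable {Γ : Type u} [Group Γ] [Finite Γ] (σ : Γ →* G0)

/-- No double stem extension. -/
theorem not_stem_two (hσ : Cfsg.IsStemExtension σ) : Nat.card σ.ker ≠ 2 := by
  intro hK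
  obtain ⟨a0, h0⟩ := hσ.1 (pc 0)
  obtain ⟨a1, h1⟩ := hσ.1 (pc 1)
  obtain ⟨a2, h2⟩ := hσ.1 (pc 2)
  obtain ⟨a3, h3⟩ := hσ.1 (pc 3)
  obtain ⟨a4, ha4⟩ : ∃ x, x = (a0 * a1)⁻¹ * (a1 * a0) := ⟨_, rfl⟩
  obtain ⟨a5, ha5⟩ : ∃ x, x = (a0 * a2)⁻¹ * (a2 * a0) := ⟨_, rfl⟩
  obtain ⟨a6, ha6⟩ : ∃ x, x = (a1 * a3)⁻¹ * (a3 * a1) := ⟨_, rfl⟩
  obtain ⟨a7, ha7⟩ : ∃ x, x = a2 * a2 := ⟨_, rfl⟩
  obtain ⟨a8, ha8⟩ : ∃ x, x = (a3 * a4)⁻¹ * (a4 * a3) := ⟨_, rfl⟩
  obtain ⟨a9, ha9⟩ : ∃ x, x = (a1 * a2)⁻¹ * (a2 * a1) := ⟨_, rfl⟩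
  obtain ⟨A, hA⟩ : ∃ A : ℕ → Γ, A = fun i => [a0, a1, a2, a3, a4, a5, a6, a7, a8, a9].getD i 1 := ⟨_, rfl⟩
  have hd := check_def
  simp only [Bool.and_eq_true, List.all_eq_true, List.mem_range, beq_iff_eq] at hd
  obtain ⟨hdefs, hinit⟩ := hd
  have hdef : ∀ {x y z : Γ} (k j i : ℕ), (k, j, i) ∈ defs → j < 10 → i ≤ j → j ≠ i →
      σ x = pc i → σ y = pc j → z = (x * y)⁻¹ * (y * x) → σ z = pc k := by
    intro x y z k j i hmem hj hi hne hx hy hz
    rw [hz, map_mul, map_inv, map_mul, map_mul, hx, hy, pc_rel j i hj hi, hdefs _ hmem, if_neg hne]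
    simp [TailCert.pw, mul_assoc]
  have e4 : σ a4 = pc 4 := hdef 4 1 0 (by decide) (by omega) (by omega) (by omega) h0 h1 ha4
  have e5 : σ a5 = pc 5 := hdef 5 2 0 (by decide) (by omega) (by omega) (by omega) h0 h2 ha5
  have e6 : σ a6 = pc 6 := hdef 6 3 1 (by decide) (by omega) (by omega) (by omega) h1 h3 ha6
  have e7 : σ a7 = pc 7 := by
    rw [ha7, map_mul, h2, pc_rel 2 2 (by omega) le_rfl, hdefs (7, 2, 2) (by decide), if_pos rfl]
    simp [TailCert.pw]
  have e8 : σ a8 = pc 8 := hdef 8 4 3 (by decide) (by omega) (by omega) (by omega) h3 e4 ha8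
  have e9 : σ a9 = pc 9 := hdef 9 2 1 (by decide) (by omega) (by omega) (by omega) h1 h2 ha9
  have hAg : ∀ i < 10, σ (A i) = pc i := by
    intro i hi
    interval_cases i <;> simp [hA, h0, h1, h2, h3, e4, e5, e6, e7, e8, e9]
  have hpwA : ∀ l : List ℕ, (∀ i ∈ l, i < 10) → σ (TailCert.pw A l) = TailCert.pw pc l := by
    intro l hl
    rw [TailCert.pw, TailCert.pw, map_list_prod, List.map_map]
    exact congrArg List.prod (List.map_congr_left fun i hi => hAg i (hl i hi))
  refine TailCert.not_stem_two_of_all_tails hσ hK 10 rhs init ders A ?_ ?_ ?_ ?_ ?_ check_tails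
  · intro c d hc hd
    rw [map_mul, hAg c hc, hAg d (by omega), hpwA _ (rep_lt hc hd), pc_rel c d hc hd]
  · intro c d hc hd hbit
    have hcd := hinit c hc d (by omega)
    rw [hbit] at hcd
    simp [defs] at hcd
    rcases hcd with ⟨rfl, rfl⟩ | ⟨rfl, rfl⟩ | ⟨rfl, rfl⟩ | ⟨rfl, rfl⟩ | ⟨rfl, rfl⟩ | ⟨rfl, rfl⟩
    · rw [hdefs (4, 1, 0) (by decide)]; simp [TailCert.pw, hA, ha4, mul_assoc]
    · rw [hdefs (5, 2, 0) (by decide)]; simp [TailCert.pw, hA, ha5, mul_assoc]
    · rw [hdefs (6, 3, 1) (by decide)]; simp [TailCert.pw, hA, ha6, mul_assoc]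
    · rw [hdefs (7, 2, 2) (by decide)]; simp [TailCert.pw, hA, ha7, mul_assoc]
    · rw [hdefs (8, 4, 3) (by decide)]; simp [TailCert.pw, hA, ha8, mul_assoc]
    · rw [hdefs (9, 2, 1) (by decide)]; simp [TailCert.pw, hA, ha9, mul_assoc]
  · intro d hd f hf x x' h c he
    subst he
    have hp := check_pow
    simp only [List.all_eq_true] at hp
    have := hp d hd _ hf
    simp only [Bool.and_eq_true, decide_eq_true_eq] at this
    obtain ⟨⟨hx, hx'⟩, heq⟩ := this
    obtain ⟨g, hg⟩ := hσ.1 (el (conjs.getD c []))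
    refine ⟨g, ?_⟩
    rw [map_mul, map_mul, map_inv, hg, hpwA x hx, hpwA x' hx', pw_pc, pw_pc, mul_inv_eq_iff_eq_mul,
      ← el_append, ← el_append]
    exact el_eq heq
  · intro l hl h
    exact pc_injective l hl (by rw [← hpwA l fun i hi => List.mem_range.1 (hl.subset hi)]; exact h)
  · rw [show (fun i : Fin 10 => σ (A i)) = fun i : Fin 10 => pc i from funext fun i => hAg i i.2]
    exact two_index

theorem same_ok {v w : List ℕ} (h : same v w = true) : okW v = true ∧ okW w = true := by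
  simp only [same, Bool.and_eq_true] at h
  exact h.1

theorem not_stem_classTwo (hσ : Cfsg.IsStemExtension σ) {ws : List (List ℕ)} {p i j : ℕ} (hp : p.Prime)
    (h : classTwoOK ws p i j = true) (hi : ¬ ((i * i * j : ℕ) : ℤ) ≡ 1 [ZMOD p])
    (hj : ¬ ((i * j * j : ℕ) : ℤ) ≡ 1 [ZMOD p]) (hd : ¬ p ^ 4 ∣ 4030387200) (hd' : p ^ 3 ∣ 4030387200) :
    Nat.card σ.ker ≠ p := by
  have := finite_g0
  simp only [classTwoOK, Bool.and_eq_true] at h
  obtain ⟨⟨⟨⟨⟨⟨⟨⟨ha, hb⟩, hwa⟩, hwb⟩, hga⟩, hgb⟩, hgw⟩, hok⟩, hmv⟩ := h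
  obtain ⟨a, hadef⟩ : ∃ a, a = ws.getD 0 [] := ⟨_, rfl⟩
  obtain ⟨b, hbdef⟩ : ∃ b, b = ws.getD 1 [] := ⟨_, rfl⟩
  obtain ⟨g, hgdef⟩ : ∃ g, g = ws.getD 2 [] := ⟨_, rfl⟩
  rw [← hadef, ← hbdef] at hwa hwb hgw hok hmv
  rw [← hadef] at ha hga
  rw [← hbdef] at hb hgb
  rw [← hgdef] at hga hgb hgw
  have hoks : okW a = true ∧ okW b = true := by
    have h1 := hok
    simp only [okW, comW, List.all_append, Bool.and_eq_true] at h1
    exact ⟨h1.1.1.1, h1.1.1.2⟩
  have hw : el (comW a b) = ⁅el a, el b⁆ := by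
    rw [comW, el_append, el_append, el_append, el_reverse a hoks.1, el_reverse b hoks.2, commutatorElement_def]
  have e1 := el_eq ha
  have e2 := el_eq hb
  have e3 := el_eq hwa
  have e4 := el_eq hwb
  have e5 := el_eq hga
  have e6 := el_eq hgb
  have e7 := el_eq hgw
  simp only [rpt, el_append, el_replicate, el_nil, hw] at e1 e2 e3 e4 e5 e6 e7
  have hne : ⁅el a, el b⁆ ≠ 1 := hw ▸ el_ne_one hok hmv
  refine not_stem_class_two hσ hp (g := el g) e1 e3 e4 hne (mul_inv_eq_of_eq_mul e5)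
    (mul_inv_eq_of_eq_mul e6) (mul_inv_eq_of_eq_mul e7) hi hj fun hdvd => hd ?_
  have hmul := (Subgroup.closure ({el a, el b} : Set G0)).card_mul_index
  rw [card_closure_class_two hp e1 e2 e3 e4 hne, card_g0] at hmul
  rw [← hmul, pow_succ]
  exact Nat.mul_dvd_mul_left _ hdvd

/-- No quintuple stem extension. -/
theorem not_stem_five (hσ : Cfsg.IsStemExtension σ) : Nat.card σ.ker ≠ 5 := by
  have := finite_g0
  have h := check_five
  simp only [fiveOK, Bool.and_eq_true] at h
  obtain ⟨⟨⟨⟨⟨⟨⟨⟨ha, hb⟩, hab⟩, hta⟩, htb⟩, hoka⟩, hmva⟩, hokb⟩, hmvb⟩ := h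
  have e1 := el_eq ha
  have e2 := el_eq hb
  have e3 := el_eq hab
  have e4 := el_eq hta
  have e5 := el_eq htb
  simp only [rpt, el_append, el_replicate, el_nil] at e1 e2 e3 e4 e5
  have hconj : el (fiveWords.getD 2 []) * el (fiveWords.getD 1 []) * (el (fiveWords.getD 2 []))⁻¹ =
      (el (fiveWords.getD 1 []))⁻¹ := by
    rw [mul_inv_eq_iff_eq_mul, eq_inv_mul_iff_mul_eq, ← mul_assoc]
    exact e5
  refine not_stem_abelian hσ (by norm_num) (by norm_num) e3 (mul_inv_eq_of_eq_mul e4) hconj fun hdvd => ?_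
  have hmul := (Subgroup.closure ({el (fiveWords.getD 0 []), el (fiveWords.getD 1 [])} : Set G0)).card_mul_index
  rw [card_closure_pair (t := el (fiveWords.getD 2 [])) (by norm_num) (by norm_num) e1 e2
    (el_ne_one hoka hmva) (el_ne_one hokb hmvb) e3 (mul_inv_eq_of_eq_mul e4) hconj, card_g0] at hmul
  omega

/-- The Held group has no stem extension with kernel of prime order. -/
theorem not_stem (hσ : Cfsg.IsStemExtension σ) (hprime : (Nat.card σ.ker).Prime) : False := by
  have := finite_g0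
  obtain ⟨p, hp⟩ : ∃ p, p = Nat.card σ.ker := ⟨_, rfl⟩
  rw [← hp] at hprime
  by_cases h2 : p = 2
  · exact not_stem_two σ hσ (hp ▸ h2)
  by_cases h3 : p = 3
  · exact not_stem_classTwo σ hσ (i := 2) (j := 2) Nat.prime_three check_three (by decide) (by decide)
      (by decide) (by decide) (hp ▸ h3)
  by_cases h5 : p = 5
  · exact not_stem_five σ hσ (hp ▸ h5)
  by_cases h7 : p = 7
  · exact not_stem_classTwo σ hσ (i := 2) (j := 4) (by norm_num) check_seven (by decide) (by decide)
      (by decide) (by decide) (hp ▸ h7)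
  refine not_stem_of_not_sq_dvd hσ hprime (fun hd => ?_) hp.symm
  rw [card_g0] at hd
  have hdvd : p ∣ 2 ^ 10 * 3 ^ 3 * 5 ^ 2 * 7 ^ 3 * 17 :=
    (dvd_pow_self p two_ne_zero).trans (by norm_num; exact hd)
  have hpp : ∀ {q k : ℕ}, q.Prime → p ∣ q ^ k → p = q := fun hq h =>
    (Nat.prime_dvd_prime_iff_eq hprime hq).1 (hprime.dvd_of_dvd_pow h)
  rcases (Nat.Prime.dvd_mul hprime).1 hdvd with h | h
  · rcases (Nat.Prime.dvd_mul hprime).1 h with h | h
    · rcases (Nat.Prime.dvd_mul hprime).1 h with h | h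
      · rcases (Nat.Prime.dvd_mul hprime).1 h with h | h
        · exact h2 (hpp Nat.prime_two h)
        · exact h3 (hpp Nat.prime_three h)
      · exact h5 (hpp (by norm_num) h)
    · exact h7 (hpp (by norm_num) h)
  · rw [(Nat.prime_dvd_prime_iff_eq hprime (by norm_num : (17 : ℕ).Prime)).1 h] at hd
    norm_num at hd

end Cfsg.Agent.Multiplier.He
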