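import Cfsg.Agent.Lib.Multiplier.TailCert

/-!
# Certificate data for the multiplier of the Held group

Elements are words in the seven generating involutions, read as products from left to right.
-/

set_option autoImplicit false

namespace Cfsg.Agent.Multiplier.HeData

open TailCert (Fact)

/-- Polycyclic generators of a Sylow 2-subgroup. -/
def pcWords : List (List ℕ) := [[2, 3, 5, 4, 6, 4, 6, 2, 4, 1, 6, 3, 2, 6, 3, 6, 4, 2, 0, 3, 4, 5, 1, 3, 6, 0, 4, 1, 5, 4, 1, 6, 1, 2, 3, 2, 3, 1, 2, 1, 6, 3, 5, 3, 4, 3, 2, 3, 1, 2, 3, 2],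
    [6, 4, 2, 5, 2, 1, 5, 1, 4, 3, 2, 6, 4, 3, 6, 0, 3, 0, 2, 4, 5, 0, 6, 1, 0, 5, 4, 6, 4, 2, 3, 0, 1, 2, 3, 5, 2, 3, 1, 2, 3, 1, 2, 3, 5, 1, 2, 3, 6, 5, 2],
    [4, 2, 0, 1, 0, 5, 1, 6, 4, 3, 5, 0, 1, 4, 1, 5, 1, 3, 0, 2, 1, 2, 3, 1, 2, 0, 1, 2, 3, 5, 2, 3, 6, 3, 1, 2, 3, 5, 2, 3, 1, 2, 3, 6, 4, 3, 0, 1],
    [4, 3, 6, 4, 1, 0, 4, 6, 3, 5, 0, 6, 4, 3, 5, 2, 1, 3, 6, 2, 6, 5, 0, 5, 2, 4, 0, 6, 2, 1, 4, 3, 5, 2, 3, 1, 2, 3, 2, 0, 5, 1, 2, 3, 6, 2, 3, 5, 1, 2, 3, 0],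
    [5, 4, 6, 0, 6, 3, 1, 6, 3, 0, 5, 2, 3, 1, 4, 3, 0, 4, 6, 0, 2, 1, 2, 3, 6, 0, 2, 3, 6, 4, 3, 0, 6, 2, 3, 1, 2, 3, 2, 3, 5, 3, 6, 1],
    [6, 3, 0, 4, 6, 4, 3, 2, 5, 6, 5, 2, 1, 3, 1, 6, 0, 6, 0, 5, 1, 2, 3, 6, 4, 6, 2, 3, 1, 2, 3, 5, 4, 3, 5, 2, 3, 1, 2, 3, 5, 2, 3, 4, 0, 1],
    [3, 0, 2, 5, 2, 5, 6, 2, 1, 2, 6, 4, 1, 2, 4, 5, 1, 5, 6, 2, 5, 0, 5, 1, 2, 6, 3, 6, 5, 3, 2, 3, 1, 2, 3, 1, 2, 3, 1, 2, 3, 5, 6, 3, 1, 2, 3, 1],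
    [2, 6, 0, 3, 2, 1, 3, 4, 5, 4, 6, 5, 3, 5, 0, 3, 2, 6, 0, 4, 5, 4, 6, 2, 6, 5, 2, 3, 2, 3, 0, 2, 4, 0, 1, 2, 3, 2, 3, 6, 2, 3, 4, 1, 2, 3, 5, 2, 3, 2, 3, 1, 2, 3, 2, 3],
    [3, 5, 1, 2, 3, 2, 3, 1, 2, 3, 0, 5, 4, 3, 2, 3, 1, 2, 3, 5, 2, 3, 1],
    [6, 3, 5, 4, 3, 6, 4, 1, 2, 1, 3, 5, 4, 3, 6, 2, 3, 5, 4, 3, 1, 2]]

/-- Right-hand sides of their relations. -/
def rhs : List ℕ := [0, 16, 0, 32, 512, 128, 416, 64, 416, 160, 0, 0, 640, 256, 0, 0, 640, 0, 512, 0, 0, 384, 0, 128, 640, 0, 512, 0, 0, 0, 0, 512, 0, 0, 0, 0, 0, 0, 512, 0, 0, 0, 0, 0, 0, 0, 0, 0, 0, 0, 0, 0, 0, 0, 0]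

/-- Relations whose tails vanish by the choice of the lifts. -/
def init : ℕ := 8378

/-- `(c, j, i)`: the lift of `c` is defined through the relation of `j, i`. -/
def defs : List (ℕ × ℕ × ℕ) := [(4, 1, 0), (5, 2, 0), (6, 3, 1), (7, 2, 2), (8, 4, 3), (9, 2, 1)]

/-- Conjugators. -/
def conjs : List (List ℕ) := [[6, 0, 4, 2, 4, 0, 1, 2, 0, 4, 0, 3, 1, 6, 2, 4, 2, 0, 6, 5, 0, 5, 6, 0, 1, 5, 4, 5, 4, 1, 0, 3, 6, 0, 5, 3, 2, 3, 4, 2, 3, 1, 2, 3, 5, 2, 3, 6, 2, 3, 1, 2, 3, 6, 4, 2],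
    [4, 3, 2, 3, 1, 2, 3, 6, 2, 3, 2, 5, 3, 2, 3, 5, 3, 4, 1, 2, 3, 2, 3],
    [0, 3, 0, 2, 6, 1, 0, 6, 1, 4, 2, 5, 2, 3, 2, 5, 1, 6, 4, 3, 2, 4, 3, 0, 6, 0, 6, 4, 2, 6, 2, 6, 4, 1, 2, 3, 4, 1, 2, 3, 6, 2, 1, 3, 6, 2, 3, 5, 2, 3, 2, 3, 6, 3, 5],
    [2, 3, 2, 3, 6, 4, 2, 3, 1, 2, 1, 5, 4, 3, 2, 3, 6, 3, 4, 1, 2, 3, 1],
    [3, 2, 1, 0, 2, 3, 4, 1, 4, 1, 3, 2, 6, 2, 0, 1, 3, 1, 2, 6, 0, 1, 3, 6, 0, 1, 5, 2, 3, 2, 0, 5, 4, 2, 6, 3, 2, 3, 6, 1, 2, 3, 2, 1, 3, 6, 3, 2, 3, 5, 2, 3, 4, 1, 2, 0],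
    [2, 1, 2, 1, 3, 5, 1, 4, 5, 3, 2, 1, 5, 2, 0, 1, 4, 3, 5, 1, 2, 1, 3, 4, 2, 3, 0, 1, 2, 3, 1, 2, 3, 6, 2, 3, 1, 2, 3, 6, 5, 2, 3, 2, 3]]

/-- Derivations of the vanishing tails. -/
def ders : List (ℕ × List Fact) := [(0, [.cons [2, 0, 0] 0 1, .cons [2, 1, 0] 0 1, .cons [2, 1, 1] 0 1, .cons [2, 2, 1] 0 1, .cons [2, 2, 2] 0 1, .cons [3, 2, 0] 0 1, .cons [3, 2, 1] 0 1, .cons [3, 3, 0] 0 1, .cons [3, 3, 3] 0 1, .cons [4, 2, 0] 0 1, .cons [4, 3, 0] 0 1, .cons [4, 3, 2] 0 1, .cons [4, 3, 3] 0 1, .cons [4, 4, 2] 0 1, .cons [5, 1, 0] 0 1, .cons [5, 1, 1] 0 1, .cons [5, 2, 1] 0 1, .cons [5, 3, 2] 0 1, .cons [5, 3, 3] 0 1, .cons [6, 1, 0] 0 1, .cons [6, 2, 0] 0 1, .cons [6, 2, 2] 0 1, .pow [0, 3, 4] [2, 4, 5, 8, 9] 1 0, .pow [5] [0,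 3, 4, 5, 7, 9] 1 0, .pow [2, 6, 7] [5, 8, 9] 1 0, .pow [0] [4, 5, 8, 9] 1 2, .pow [0, 1, 2, 3, 4, 5, 6] [0, 1, 2, 7] 2 5]),
    (2, [.cons [1, 1, 0] 0 1, .cons [2, 0, 0] 0 1, .cons [2, 1, 0] 0 1, .cons [2, 2, 0] 0 1, .cons [2, 2, 1] 0 1, .cons [2, 2, 2] 0 1, .cons [3, 2, 0] 0 1, .cons [3, 2, 1] 0 1, .cons [3, 2, 2] 0 1, .cons [3, 3, 0] 0 1, .cons [3, 3, 3] 0 1, .cons [4, 2, 2] 0 1, .cons [4, 3, 1] 0 1, .cons [4, 4, 2] 0 1, .cons [5, 1, 0] 0 1, .cons [5, 1, 1] 0 1, .cons [5, 2, 1] 0 1, .cons [5, 3, 0] 0 1, .cons [5, 3, 1] 0 1, .cons [6, 2, 1] 0 1, .cons [6, 2, 2] 0 1, .pow [0, 3, 4] [2, 4, 5, 8, 9] 1 0, .pow [5] [0, 3, 4, 5, 7, 9] 1 0, .pow [2, 6, 7] [5, 8, 9] 1 0, .pow [1, 4] [2, 3, 4, 6] 1 1, .pow [0] [4, 5, 8, 9] 1 2, .pow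 [2, 3, 4, 6, 7, 8] [0, 7, 8] 1 4, .pow [0, 1, 2, 3, 4, 5, 6] [0, 1, 2, 7] 2 5]),
    (6, [.cons [2, 1, 0] 0 1, .cons [2, 1, 1] 0 1, .cons [2, 2, 0] 0 1, .cons [2, 2, 1] 0 1, .cons [3, 2, 0] 0 1, .cons [3, 2, 2] 0 1, .cons [3, 3, 1] 0 1, .cons [3, 3, 3] 0 1, .cons [4, 2, 0] 0 1, .cons [4, 3, 1] 0 1, .cons [4, 3, 2] 0 1, .cons [5, 1, 0] 0 1, .cons [5, 2, 1] 0 1, .cons [5, 3, 1] 0 1, .cons [5, 3, 3] 0 1, .cons [6, 1, 0] 0 1, .cons [6, 2, 0] 0 1, .cons [6, 2, 1] 0 1, .cons [6, 2, 2] 0 1, .pow [0, 3, 4] [2, 4, 5, 8, 9] 1 0, .pow [5] [0, 3, 4, 5, 7, 9] 1 0, .pow [4, 6] [2, 4, 7, 8] 1 0, .pow [0, 2, 3, 7] [5, 9] 1 0, .pow [2, 6, 7] [5, 8, 9] 1 0, .pow [2, 3, 4, 6, 7, 8] [0, 7, 8] 1 4]),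
    (8, [.cons [1, 0, 0] 0 1, .cons [2, 0, 0] 0 1, .cons [2, 2, 0] 0 1, .cons [2, 2, 1] 0 1, .cons [3, 1, 1] 0 1, .cons [3, 2, 0] 0 1, .cons [3, 3, 0] 0 1, .cons [4, 2, 1] 0 1, .cons [4, 2, 2] 0 1, .cons [4, 3, 2] 0 1, .cons [4, 3, 3] 0 1, .cons [4, 4, 3] 0 1, .cons [5, 3, 0] 0 1, .cons [5, 3, 2] 0 1, .cons [6, 1, 0] 0 1, .cons [6, 2, 1] 0 1, .cons [6, 2, 2] 0 1, .pow [5] [0, 3, 4, 5, 7, 9] 1 0, .pow [0, 2, 3, 7] [5, 9] 1 0, .pow [1, 4] [2, 3, 4, 6] 1 1, .pow [0] [4, 5, 8, 9] 1 2, .pow [4, 8] [1, 4, 6, 8, 9] 1 3, .pow [2, 3, 4, 6, 7, 8] [0, 7, 8] 1 4]),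
    (9, [.cons [1, 0, 0] 0 1, .cons [2, 1, 0] 0 1, .cons [2, 2, 1] 0 1, .cons [3, 1, 1] 0 1, .cons [3, 3, 0] 0 1, .cons [3, 3, 1] 0 1, .cons [4, 2, 1] 0 1, .cons [4, 3, 2] 0 1, .cons [4, 3, 3] 0 1, .cons [4, 4, 3] 0 1, .cons [5, 1, 0] 0 1, .cons [5, 3, 0] 0 1, .cons [5, 3, 3] 0 1, .cons [6, 1, 0] 0 1, .cons [6, 2, 2] 0 1, .pow [5] [0, 3, 4, 5, 7, 9] 1 0, .pow [0, 2, 3, 7] [5, 9] 1 0, .pow [2, 6, 7] [5, 8, 9] 1 0, .pow [1, 4] [2, 3, 4, 6] 1 1, .pow [4, 8] [1, 4, 6, 8, 9] 1 3, .pow [0, 1, 2, 3, 4, 5, 6] [0, 1, 2, 7] 2 5]),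
    (10, [.cons [1, 0, 0] 0 1, .cons [2, 0, 0] 0 1, .cons [2, 1, 0] 0 1, .cons [2, 2, 1] 0 1, .cons [2, 2, 2] 0 1, .cons [3, 0, 0] 0 1, .cons [3, 1, 1] 0 1, .cons [3, 2, 1] 0 1, .cons [3, 2, 2] 0 1, .cons [3, 3, 0] 0 1, .cons [4, 2, 0] 0 1, .cons [4, 2, 1] 0 1, .cons [4, 3, 2] 0 1, .cons [4, 4, 2] 0 1, .cons [4, 4, 3] 0 1, .cons [5, 1, 0] 0 1, .cons [5, 1, 1] 0 1, .cons [5, 2, 1] 0 1, .cons [5, 3, 1] 0 1, .cons [5, 3, 2] 0 1, .cons [5, 3, 3] 0 1, .cons [6, 2, 2] 0 1, .pow [0, 3, 4] [2, 4, 5, 8, 9] 1 0, .pow [5] [0, 3, 4, 5, 7, 9] 1 0, .pow [2, 6, 7] [5, 8, 9] 1 0, .pow [1, 4] [2, 3, 4, 6] 1 1, .pow [0] [4, 5, 8, 9] 1 2, .pow [4, 8] [1, 4, 6, 8, 9] 1 3, .pow [2, 3, 4, 6, 7, 8] [0, 7, 8] 1 4, .pow [0, 1, 2, 3, 4, 5, 6] [0, 1,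 2, 7] 2 5]),
    (11, [.cons [1, 1, 0] 0 1, .cons [2, 0, 0] 0 1, .cons [2, 1, 0] 0 1, .cons [2, 2, 1] 0 1, .cons [2, 2, 2] 0 1, .cons [3, 0, 0] 0 1, .cons [3, 1, 1] 0 1, .cons [3, 2, 1] 0 1, .cons [3, 2, 2] 0 1, .cons [3, 3, 0] 0 1, .cons [4, 2, 0] 0 1, .cons [4, 2, 1] 0 1, .cons [4, 3, 2] 0 1, .cons [4, 4, 2] 0 1, .cons [4, 4, 3] 0 1, .cons [5, 1, 0] 0 1, .cons [5, 1, 1] 0 1, .cons [5, 2, 1] 0 1, .cons [5, 3, 1] 0 1, .cons [5, 3, 2] 0 1, .cons [5, 3, 3] 0 1, .cons [6, 2, 2] 0 1, .pow [0, 3, 4] [2, 4, 5, 8, 9] 1 0, .pow [5] [0, 3, 4, 5, 7, 9] 1 0, .pow [2, 6, 7] [5, 8, 9] 1 0, .pow [1, 4] [2, 3, 4, 6] 1 1, .pow [0] [4, 5, 8, 9] 1 2, .pow [4, 8] [1, 4, 6, 8, 9] 1 3, .pow [2, 3, 4, 6, 7, 8] [0, 7, 8] 1 4, .pow [0, 1, 2, 3, 4,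 5, 6] [0, 1, 2, 7] 2 5]),
    (12, [.cons [1, 1, 0] 0 1, .cons [2, 1, 0] 0 1, .cons [2, 1, 1] 0 1, .cons [3, 0, 0] 0 1, .cons [3, 2, 0] 0 1, .cons [3, 3, 3] 0 1, .cons [4, 2, 1] 0 1, .cons [4, 3, 1] 0 1, .cons [4, 3, 2] 0 1, .cons [4, 3, 3] 0 1, .cons [4, 4, 3] 0 1, .cons [5, 1, 0] 0 1, .cons [5, 1, 1] 0 1, .cons [5, 3, 0] 0 1, .cons [5, 3, 1] 0 1, .cons [5, 3, 3] 0 1, .cons [6, 1, 0] 0 1, .cons [6, 2, 0] 0 1, .cons [6, 2, 1] 0 1, .pow [1, 4] [2, 3, 4, 6] 1 1, .pow [1, 2, 5] [0, 7, 8, 9] 1 1, .pow [2, 3, 4, 6, 7, 8] [0, 7, 8] 1 4]),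
    (14, [.cons [2, 0, 0] 0 1, .cons [2, 1, 0] 0 1, .cons [2, 2, 1] 0 1, .cons [2, 2, 2] 0 1, .cons [3, 0, 0] 0 1, .cons [3, 1, 1] 0 1, .cons [3, 2, 1] 0 1, .cons [3, 2, 2] 0 1, .cons [3, 3, 0] 0 1, .cons [4, 2, 0] 0 1, .cons [4, 2, 1] 0 1, .cons [4, 3, 2] 0 1, .cons [4, 4, 2] 0 1, .cons [4, 4, 3] 0 1, .cons [5, 1, 0] 0 1, .cons [5, 1, 1] 0 1, .cons [5, 2, 1] 0 1, .cons [5, 3, 1] 0 1, .cons [5, 3, 2] 0 1, .cons [5, 3, 3] 0 1, .cons [6, 2, 2] 0 1, .pow [0, 3, 4] [2, 4, 5, 8, 9] 1 0, .pow [5] [0, 3, 4, 5, 7, 9] 1 0, .pow [2, 6, 7] [5, 8, 9] 1 0, .pow [1, 4] [2, 3, 4, 6] 1 1, .pow [0] [4, 5, 8, 9] 1 2, .pow [4, 8] [1, 4, 6, 8, 9] 1 3, .pow [2, 3, 4, 6, 7, 8] [0, 7, 8] 1 4, .pow [0, 1, 2, 3, 4, 5, 6] [0, 1, 2, 7] 2 5]),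
    (15, [.cons [2, 1, 0] 0 1, .cons [2, 2, 0] 0 1, .cons [2, 2, 2] 0 1, .cons [3, 2, 1] 0 1, .cons [3, 2, 2] 0 1, .cons [3, 3, 0] 0 1, .cons [3, 3, 3] 0 1, .cons [4, 2, 1] 0 1, .cons [4, 2, 2] 0 1, .cons [4, 3, 1] 0 1, .cons [4, 3, 3] 0 1, .cons [4, 4, 2] 0 1, .cons [4, 4, 3] 0 1, .cons [5, 2, 1] 0 1, .cons [5, 3, 0] 0 1, .cons [5, 3, 1] 0 1, .pow [4, 6] [2, 4, 7, 8] 1 0, .pow [2, 6, 7] [5, 8, 9] 1 0]),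
    (16, [.cons [1, 1, 0] 0 1, .cons [2, 1, 0] 0 1, .cons [2, 1, 1] 0 1, .cons [2, 2, 0] 0 1, .cons [2, 2, 1] 0 1, .cons [2, 2, 2] 0 1, .cons [3, 0, 0] 0 1, .cons [3, 1, 1] 0 1, .cons [3, 2, 1] 0 1, .cons [3, 3, 0] 0 1, .cons [3, 3, 3] 0 1, .cons [4, 2, 0] 0 1, .cons [4, 2, 1] 0 1, .cons [4, 3, 2] 0 1, .cons [4, 3, 3] 0 1, .cons [4, 4, 3] 0 1, .cons [5, 1, 0] 0 1, .cons [5, 3, 1] 0 1, .cons [5, 3, 2] 0 1, .cons [5, 3, 3] 0 1, .cons [6, 2, 1] 0 1, .pow [4, 6] [2, 4, 7, 8] 1 0, .pow [2, 6, 7] [5, 8, 9] 1 0, .pow [1, 2, 5] [0, 7, 8, 9] 1 1, .pow [0] [4, 5, 8, 9] 1 2, .pow [4, 8] [1, 4, 6, 8, 9] 1 3]),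
    (17, [.cons [2, 0, 0] 0 1, .cons [2, 1, 1] 0 1, .cons [2, 2, 0] 0 1, .cons [2, 2, 2] 0 1, .cons [3, 0, 0] 0 1, .cons [3, 1, 1] 0 1, .cons [4, 2, 1] 0 1, .cons [4, 3, 3] 0 1, .cons [4, 4, 2] 0 1, .cons [4, 4, 3] 0 1, .cons [5, 2, 1] 0 1, .cons [5, 3, 1] 0 1, .cons [5, 3, 2] 0 1, .cons [6, 1, 0] 0 1, .cons [6, 2, 0] 0 1, .pow [1, 4] [2, 3, 4, 6] 1 1, .pow [0] [4, 5, 8, 9] 1 2, .pow [4, 8] [1, 4, 6, 8, 9] 1 3, .pow [2, 3, 4, 6, 7, 8] [0, 7, 8] 1 4]),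
    (18, [.cons [1, 1, 0] 0 1, .cons [2, 0, 0] 0 1, .cons [2, 2, 0] 0 1, .cons [2, 2, 1] 0 1, .cons [2, 2, 2] 0 1, .cons [3, 2, 0] 0 1, .cons [3, 2, 1] 0 1, .cons [3, 2, 2] 0 1, .cons [4, 2, 0] 0 1, .cons [4, 2, 1] 0 1, .cons [4, 3, 0] 0 1, .cons [4, 3, 1] 0 1, .cons [4, 3, 3] 0 1, .cons [4, 4, 3] 0 1, .cons [5, 1, 1] 0 1, .cons [5, 2, 1] 0 1, .cons [6, 2, 0] 0 1, .pow [2, 6, 7] [5, 8, 9] 1 0, .pow [1, 4] [2, 3, 4, 6] 1 1, .pow [1, 2, 5] [0, 7, 8, 9] 1 1, .pow [2, 3, 4, 6, 7, 8] [0, 7, 8] 1 4, .pow [0, 1, 2, 3, 4, 5, 6] [0, 1, 2, 7] 2 5]),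
    (19, [.cons [2, 1, 0] 0 1, .cons [2, 2, 0] 0 1, .cons [2, 2, 1] 0 1, .cons [3, 0, 0] 0 1, .cons [3, 1, 1] 0 1, .cons [3, 2, 1] 0 1, .cons [3, 2, 2] 0 1, .cons [3, 3, 0] 0 1, .cons [3, 3, 3] 0 1, .cons [4, 2, 2] 0 1, .cons [4, 3, 1] 0 1, .cons [4, 4, 2] 0 1, .cons [5, 1, 0] 0 1, .cons [5, 1, 1] 0 1, .cons [6, 1, 0] 0 1, .cons [6, 2, 0] 0 1, .pow [4, 6] [2, 4, 7, 8] 1 0, .pow [2, 6, 7] [5, 8, 9] 1 0, .pow [1, 4] [2, 3, 4, 6] 1 1, .pow [0] [4, 5, 8, 9] 1 2, .pow [4, 8] [1, 4, 6, 8, 9] 1 3, .pow [2, 3, 4, 6, 7, 8] [0, 7, 8] 1 4]),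
    (20, [.cons [2, 0, 0] 0 1, .cons [2, 1, 0] 0 1, .cons [2, 2, 0] 0 1, .cons [2, 2, 2] 0 1, .cons [3, 2, 1] 0 1, .cons [3, 2, 2] 0 1, .cons [3, 3, 0] 0 1, .cons [3, 3, 3] 0 1, .cons [4, 2, 1] 0 1, .cons [4, 2, 2] 0 1, .cons [4, 3, 1] 0 1, .cons [4, 3, 3] 0 1, .cons [4, 4, 2] 0 1, .cons [4, 4, 3] 0 1, .cons [5, 2, 1] 0 1, .cons [5, 3, 0] 0 1, .cons [5, 3, 1] 0 1, .pow [4, 6] [2, 4, 7, 8] 1 0, .pow [2, 6, 7] [5, 8, 9] 1 0]),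
    (21, [.cons [2, 1, 1] 0 1, .cons [2, 2, 0] 0 1, .cons [2, 2, 1] 0 1, .cons [3, 0, 0] 0 1, .cons [3, 1, 0] 0 1, .cons [3, 2, 1] 0 1, .cons [3, 2, 2] 0 1, .cons [3, 3, 0] 0 1, .cons [3, 3, 3] 0 1, .cons [4, 2, 0] 0 1, .cons [4, 3, 0] 0 1, .cons [4, 3, 3] 0 1, .cons [4, 4, 3] 0 1, .cons [5, 1, 0] 0 1, .cons [5, 3, 1] 0 1, .cons [5, 3, 2] 0 1, .cons [6, 2, 0] 0 1, .cons [6, 2, 1] 0 1, .cons [6, 2, 2] 0 1, .pow [2, 6, 7] [5, 8, 9] 1 0, .pow [0, 1, 2, 3, 4, 5, 6] [0, 1, 2, 7] 2 5]),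
    (22, [.cons [2, 0, 0] 0 1, .cons [2, 1, 0] 0 1, .cons [2, 1, 1] 0 1, .cons [2, 2, 0] 0 1, .cons [2, 2, 1] 0 1, .cons [3, 1, 1] 0 1, .cons [3, 2, 0] 0 1, .cons [3, 2, 1] 0 1, .cons [3, 3, 3] 0 1, .cons [4, 3, 1] 0 1, .cons [4, 3, 3] 0 1, .cons [4, 4, 3] 0 1, .cons [5, 1, 0] 0 1, .cons [5, 1, 1] 0 1, .cons [5, 2, 1] 0 1, .cons [6, 1, 0] 0 1, .cons [6, 2, 0] 0 1, .pow [4, 6] [2, 4, 7, 8] 1 0, .pow [2, 6, 7] [5, 8, 9] 1 0, .pow [1, 4] [2, 3, 4, 6] 1 1, .pow [1, 4, 8] [0, 7] 1 1, .pow [2, 3, 4, 6, 7, 8] [0, 7, 8] 1 4, .pow [0, 1, 2, 3, 4, 5, 6] [0, 1, 2, 7] 2 5]),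
    (23, [.cons [2, 0, 0] 0 1, .cons [2, 1, 1] 0 1, .cons [2, 2, 1] 0 1, .cons [2, 2, 2] 0 1, .cons [3, 3, 0] 0 1, .cons [3, 3, 3] 0 1, .cons [4, 2, 0] 0 1, .cons [4, 2, 1] 0 1, .cons [4, 2, 2] 0 1, .cons [4, 3, 0] 0 1, .cons [4, 3, 2] 0 1, .cons [5, 2, 1] 0 1, .cons [5, 3, 0] 0 1, .cons [5, 3, 2] 0 1, .cons [6, 1, 0] 0 1, .cons [6, 2, 1] 0 1, .cons [6, 2, 2] 0 1, .pow [2, 6, 7] [5, 8, 9] 1 0, .pow [1, 4] [2, 3, 4, 6] 1 1, .pow [1, 4, 8] [0, 7] 1 1, .pow [2, 3, 4, 6, 7, 8] [0, 7, 8] 1 4, .pow [0, 1, 2, 3, 4, 5, 6] [0, 1, 2, 7] 2 5]),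
    (24, [.cons [1, 1, 0] 0 1, .cons [2, 2, 2] 0 1, .cons [3, 1, 1] 0 1, .cons [3, 2, 0] 0 1, .cons [3, 3, 0] 0 1, .cons [3, 3, 1] 0 1, .cons [4, 3, 0] 0 1, .cons [4, 3, 1] 0 1, .cons [4, 3, 2] 0 1, .cons [4, 4, 2] 0 1, .cons [4, 4, 3] 0 1, .cons [5, 3, 0] 0 1, .cons [5, 3, 1] 0 1, .cons [5, 3, 3] 0 1, .cons [6, 1, 0] 0 1, .cons [6, 2, 0] 0 1, .cons [6, 2, 2] 0 1, .pow [1, 4] [2, 3, 4, 6] 1 1, .pow [1, 2, 5] [0, 7, 8, 9] 1 1, .pow [1, 4, 8] [0, 7] 1 1, .pow [0] [4, 5, 8, 9] 1 2, .pow [4, 8] [1, 4, 6, 8, 9] 1 3, .pow [2, 3, 4, 6, 7, 8] [0, 7, 8] 1 4, .pow [0, 1, 2, 3, 4, 5, 6] [0, 1, 2, 7] 2 5]),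
    (25, [.cons [2, 1, 0] 0 1, .cons [2, 2, 1] 0 1, .cons [3, 1, 1] 0 1, .cons [3, 2, 0] 0 1, .cons [3, 2, 1] 0 1, .cons [3, 2, 2] 0 1, .cons [3, 3, 0] 0 1, .cons [4, 2, 1] 0 1, .cons [4, 2, 2] 0 1, .cons [4, 3, 0] 0 1, .cons [4, 3, 3] 0 1, .cons [4, 4, 2] 0 1, .cons [4, 4, 3] 0 1, .cons [5, 2, 1] 0 1, .cons [5, 3, 0] 0 1, .cons [5, 3, 2] 0 1, .cons [5, 3, 3] 0 1, .cons [6, 1, 0] 0 1, .cons [6, 2, 0] 0 1, .cons [6, 2, 2] 0 1, .pow [4, 6] [2, 4, 7, 8] 1 0, .pow [2, 6, 7] [5, 8, 9] 1 0, .pow [1, 4, 8] [0, 7] 1 1, .pow [0] [4, 5, 8, 9] 1 2, .pow [4, 8] [1, 4, 6, 8, 9] 1 3]),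
    (26, [.cons [1, 1, 0] 0 1, .cons [2, 1, 1] 0 1, .cons [2, 2, 0] 0 1, .cons [3, 2, 1] 0 1, .cons [4, 2, 0] 0 1, .cons [4, 2, 1] 0 1, .cons [4, 2, 2] 0 1, .cons [4, 3, 1] 0 1, .cons [4, 3, 3] 0 1, .cons [4, 4, 2] 0 1, .cons [5, 1, 0] 0 1, .cons [5, 1, 1] 0 1, .cons [5, 3, 0] 0 1, .cons [5, 3, 1] 0 1, .cons [5, 3, 2] 0 1, .cons [5, 3, 3] 0 1, .cons [6, 2, 0] 0 1, .cons [6, 2, 1] 0 1, .cons [6, 2, 2] 0 1, .pow [2, 6, 7] [5, 8, 9] 1 0, .pow [1, 4] [2, 3, 4, 6] 1 1, .pow [1, 2, 5] [0, 7, 8, 9] 1 1, .pow [2, 3, 4, 6, 7, 8] [0, 7, 8] 1 4, .pow [0, 1, 2, 3, 4, 5, 6] [0, 1, 2, 7] 2 5]),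
    (27, [.cons [2, 0, 0] 0 1, .cons [2, 1, 0] 0 1, .cons [2, 1, 1] 0 1, .cons [2, 2, 0] 0 1, .cons [2, 2, 1] 0 1, .cons [3, 2, 0] 0 1, .cons [3, 2, 1] 0 1, .cons [3, 3, 3] 0 1, .cons [4, 3, 1] 0 1, .cons [4, 3, 3] 0 1, .cons [4, 4, 3] 0 1, .cons [5, 1, 0] 0 1, .cons [5, 1, 1] 0 1, .cons [5, 2, 1] 0 1, .cons [6, 1, 0] 0 1, .cons [6, 2, 0] 0 1, .pow [4, 6] [2, 4, 7, 8] 1 0, .pow [2, 6, 7] [5, 8, 9] 1 0, .pow [1, 4] [2, 3, 4, 6] 1 1, .pow [1, 4, 8] [0, 7] 1 1, .pow [2, 3, 4, 6, 7, 8] [0, 7, 8] 1 4, .pow [0, 1, 2, 3, 4, 5, 6] [0, 1, 2, 7] 2 5]),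
    (28, [.cons [2, 1, 0] 0 1, .cons [2, 1, 1] 0 1, .cons [2, 2, 0] 0 1, .cons [3, 0, 0] 0 1, .cons [3, 1, 1] 0 1, .cons [3, 2, 1] 0 1, .cons [3, 2, 2] 0 1, .cons [3, 3, 0] 0 1, .cons [3, 3, 3] 0 1, .cons [4, 2, 2] 0 1, .cons [4, 3, 1] 0 1, .cons [5, 3, 0] 0 1, .cons [5, 3, 2] 0 1, .cons [6, 1, 0] 0 1, .cons [6, 2, 0] 0 1, .pow [4, 6] [2, 4, 7, 8] 1 0, .pow [2, 6, 7] [5, 8, 9] 1 0, .pow [1, 4] [2, 3, 4, 6] 1 1, .pow [0] [4, 5, 8, 9] 1 2, .pow [4, 8] [1, 4, 6, 8, 9] 1 3, .pow [2, 3, 4, 6, 7, 8] [0, 7, 8] 1 4]),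
    (29, [.cons [2, 0, 0] 0 1, .cons [2, 2, 1] 0 1, .cons [3, 0, 0] 0 1, .cons [4, 2, 0] 0 1, .cons [4, 2, 2] 0 1, .cons [4, 3, 0] 0 1, .cons [4, 4, 3] 0 1, .cons [5, 2, 1] 0 1, .cons [5, 3, 0] 0 1, .cons [5, 3, 2] 0 1]),
    (30, [.cons [2, 2, 2] 0 1]),
    (31, [.cons [1, 1, 0] 0 1, .cons [2, 1, 1] 0 1, .cons [2, 2, 0] 0 1, .cons [2, 2, 2] 0 1, .cons [3, 2, 1] 0 1, .cons [4, 3, 1] 0 1, .cons [4, 3, 3] 0 1, .cons [4, 4, 2] 0 1, .cons [5, 1, 1] 0 1, .cons [5, 2, 1] 0 1, .cons [5, 3, 0] 0 1, .cons [5, 3, 2] 0 1, .cons [6, 2, 0] 0 1, .pow [2, 6, 7] [5, 8, 9] 1 0, .pow [1, 4] [2, 3, 4, 6] 1 1, .pow [1, 2, 5] [0, 7, 8, 9] 1 1, .pow [2, 3, 4, 6, 7, 8] [0, 7, 8] 1 4, .pow [0, 1, 2, 3, 4, 5, 6] [0, 1, 2, 7] 2 5]),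
    (32, [.cons [2, 1, 1] 0 1, .cons [2, 2, 1] 0 1, .cons [2, 2, 2] 0 1, .cons [4, 2, 2] 0 1, .cons [5, 1, 1] 0 1]),
    (33, [.cons [4, 2, 0] 0 1, .cons [4, 2, 1] 0 1, .cons [4, 2, 2] 0 1, .cons [5, 1, 0] 0 1, .cons [5, 1, 1] 0 1, .cons [5, 2, 1] 0 1]),
    (34, [.cons [2, 0, 0] 0 1, .cons [3, 0, 0] 0 1, .cons [4, 2, 0] 0 1, .cons [4, 2, 1] 0 1, .cons [4, 3, 0] 0 1, .cons [4, 4, 2] 0 1, .cons [4, 4, 3] 0 1, .cons [5, 1, 1] 0 1, .cons [5, 2, 1] 0 1, .cons [5, 3, 0] 0 1, .cons [5, 3, 2] 0 1, .cons [6, 2, 2] 0 1]),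
    (35, [.cons [2, 0, 0] 0 1, .cons [2, 2, 2] 0 1, .cons [3, 0, 0] 0 1, .cons [4, 2, 0] 0 1, .cons [4, 2, 1] 0 1, .cons [4, 3, 0] 0 1, .cons [4, 4, 2] 0 1, .cons [4, 4, 3] 0 1, .cons [5, 1, 1] 0 1, .cons [5, 2, 1] 0 1, .cons [5, 3, 0] 0 1, .cons [5, 3, 2] 0 1]),
    (36, [.cons [2, 1, 0] 0 1, .cons [2, 2, 0] 0 1, .cons [2, 2, 1] 0 1, .cons [2, 2, 2] 0 1, .cons [3, 0, 0] 0 1, .cons [3, 1, 1] 0 1, .cons [3, 2, 0] 0 1, .cons [3, 2, 1] 0 1, .cons [3, 3, 3] 0 1, .cons [4, 2, 0] 0 1, .cons [4, 2, 2] 0 1, .cons [4, 3, 1] 0 1, .cons [4, 3, 2] 0 1, .cons [4, 3, 3] 0 1, .cons [4, 4, 2] 0 1, .cons [4, 4, 3] 0 1, .cons [5, 1, 0] 0 1, .cons [5, 2, 1] 0 1, .cons [5, 3, 0] 0 1, .cons [5, 3, 1] 0 1, .cons [5, 3, 2] 0 1, .cons [6, 1, 0] 0 1,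 .cons [6, 2, 1] 0 1, .cons [6, 2, 2] 0 1, .pow [4, 6] [2, 4, 7, 8] 1 0, .pow [2, 6, 7] [5, 8, 9] 1 0, .pow [1, 4] [2, 3, 4, 6] 1 1, .pow [0] [4, 5, 8, 9] 1 2, .pow [4, 8] [1, 4, 6, 8, 9] 1 3, .pow [2, 3, 4, 6, 7, 8] [0, 7, 8] 1 4]),
    (37, [.cons [2, 0, 0] 0 1, .cons [2, 1, 0] 0 1, .cons [2, 2, 2] 0 1, .cons [3, 1, 1] 0 1, .cons [3, 2, 1] 0 1, .cons [3, 3, 0] 0 1, .cons [3, 3, 3] 0 1, .cons [4, 2, 1] 0 1, .cons [4, 3, 2] 0 1, .cons [4, 3, 3] 0 1, .cons [4, 4, 2] 0 1, .cons [5, 1, 1] 0 1, .cons [5, 2, 1] 0 1, .cons [5, 3, 0] 0 1, .cons [5, 3, 1] 0 1, .cons [5, 3, 2] 0 1, .cons [5, 3, 3] 0 1, .cons [6, 2, 1] 0 1, .pow [4, 6] [2, 4, 7, 8] 1 0, .pow [2, 6, 7] [5, 8, 9] 1 0, .pow [1, 4, 8] [0, 7] 1 1, .pow [0] [4, 5, 8, 9] 1 2,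 .pow [4, 8] [1, 4, 6, 8, 9] 1 3]),
    (38, [.cons [1, 1, 0] 0 1, .cons [2, 1, 0] 0 1, .cons [2, 1, 1] 0 1, .cons [2, 2, 0] 0 1, .cons [2, 2, 1] 0 1, .cons [3, 1, 1] 0 1, .cons [4, 3, 0] 0 1, .cons [4, 3, 2] 0 1, .cons [5, 1, 0] 0 1, .cons [5, 1, 1] 0 1, .cons [5, 3, 0] 0 1, .cons [5, 3, 1] 0 1, .cons [5, 3, 2] 0 1, .cons [6, 1, 0] 0 1, .cons [6, 2, 0] 0 1, .cons [6, 2, 1] 0 1, .cons [6, 2, 2] 0 1, .pow [4, 6] [2, 4, 7, 8] 1 0, .pow [1, 2, 5] [0, 7, 8, 9] 1 1, .pow [0] [4, 5, 8, 9] 1 2, .pow [4, 8] [1, 4, 6, 8, 9] 1 3, .pow [0, 1, 2, 3, 4, 5, 6] [0, 1, 2, 7] 2 5]),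
    (39, [.cons [2, 1, 0] 0 1, .cons [2, 2, 0] 0 1, .cons [2, 2, 1] 0 1, .cons [2, 2, 2] 0 1, .cons [3, 1, 1] 0 1, .cons [3, 2, 0] 0 1, .cons [3, 2, 1] 0 1, .cons [3, 3, 0] 0 1, .cons [4, 2, 0] 0 1, .cons [4, 2, 2] 0 1, .cons [4, 3, 1] 0 1, .cons [4, 3, 2] 0 1, .cons [4, 3, 3] 0 1, .cons [4, 4, 2] 0 1, .cons [4, 4, 3] 0 1, .cons [5, 1, 0] 0 1, .cons [5, 2, 1] 0 1, .cons [5, 3, 0] 0 1, .cons [5, 3, 1] 0 1, .cons [5, 3, 2] 0 1, .cons [6, 1, 0] 0 1, .cons [6, 2, 1] 0 1, .cons [6, 2, 2] 0 1, .pow [4, 6] [2, 4, 7, 8] 1 0, .pow [2, 6, 7] [5, 8, 9] 1 0, .pow [1, 4] [2, 3, 4, 6] 1 1, .pow [0] [4, 5, 8, 9] 1 2, .pow [4, 8] [1, 4, 6, 8, 9] 1 3, .pow [2, 3, 4, 6, 7, 8] [0, 7, 8] 1 4]),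
    (40, [.cons [2, 1, 1] 0 1, .cons [2, 2, 1] 0 1, .cons [3, 0, 0] 0 1, .cons [3, 2, 0] 0 1, .cons [3, 2, 2] 0 1, .cons [3, 3, 3] 0 1, .cons [4, 2, 0] 0 1, .cons [4, 2, 2] 0 1, .cons [4, 3, 2] 0 1, .cons [5, 2, 1] 0 1, .cons [5, 3, 0] 0 1, .cons [5, 3, 1] 0 1, .cons [5, 3, 2] 0 1, .cons [6, 2, 0] 0 1, .cons [6, 2, 1] 0 1, .cons [6, 2, 2] 0 1]),
    (41, [.cons [2, 0, 0] 0 1, .cons [2, 2, 0] 0 1, .cons [3, 0, 0] 0 1, .cons [3, 2, 2] 0 1, .cons [4, 2, 0] 0 1, .cons [4, 2, 1] 0 1, .cons [4, 2, 2] 0 1, .cons [4, 3, 0] 0 1, .cons [4, 3, 2] 0 1, .cons [5, 1, 0] 0 1, .cons [5, 1, 1] 0 1, .cons [5, 3, 2] 0 1, .cons [5, 3, 3] 0 1]),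
    (42, [.cons [2, 0, 0] 0 1, .cons [2, 2, 1] 0 1, .cons [2, 2, 2] 0 1, .cons [3, 2, 0] 0 1, .cons [3, 2, 2] 0 1, .cons [3, 3, 3] 0 1, .cons [4, 2, 2] 0 1, .cons [4, 3, 0] 0 1, .cons [4, 3, 1] 0 1, .cons [4, 3, 2] 0 1, .cons [4, 4, 3] 0 1, .cons [5, 1, 1] 0 1, .cons [5, 3, 1] 0 1, .cons [6, 1, 0] 0 1, .cons [6, 2, 0] 0 1, .cons [6, 2, 1] 0 1, .cons [6, 2, 2] 0 1]),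
    (43, [.cons [2, 0, 0] 0 1, .cons [2, 2, 0] 0 1, .cons [3, 2, 2] 0 1, .cons [3, 3, 0] 0 1, .cons [3, 3, 3] 0 1, .cons [4, 2, 0] 0 1, .cons [4, 2, 1] 0 1, .cons [4, 2, 2] 0 1, .cons [4, 3, 2] 0 1, .cons [4, 3, 3] 0 1, .cons [4, 4, 3] 0 1, .cons [5, 1, 0] 0 1, .cons [5, 1, 1] 0 1, .cons [5, 3, 2] 0 1, .cons [5, 3, 3] 0 1]),
    (44, [.cons [2, 1, 1] 0 1, .cons [2, 2, 1] 0 1, .cons [3, 0, 0] 0 1, .cons [3, 2, 0] 0 1, .cons [3, 2, 2] 0 1, .cons [3, 3, 3] 0 1, .cons [4, 2, 0] 0 1, .cons [4, 2, 2] 0 1, .cons [4, 3, 2] 0 1, .cons [4, 4, 3] 0 1, .cons [5, 2, 1] 0 1, .cons [5, 3, 0] 0 1, .cons [5, 3, 1] 0 1, .cons [5, 3, 2] 0 1, .cons [6, 2, 0] 0 1, .cons [6, 2, 1] 0 1, .cons [6, 2, 2] 0 1]),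
    (45, [.cons [2, 2, 2] 0 1, .cons [3, 0, 0] 0 1, .cons [3, 2, 0] 0 1, .cons [3, 2, 2] 0 1, .cons [3, 3, 3] 0 1, .cons [5, 2, 1] 0 1, .cons [5, 3, 0] 0 1, .cons [5, 3, 2] 0 1]),
    (46, [.cons [2, 0, 0] 0 1, .cons [2, 1, 1] 0 1, .cons [2, 2, 2] 0 1, .cons [3, 2, 0] 0 1, .cons [3, 2, 2] 0 1, .cons [3, 3, 3] 0 1, .cons [4, 2, 0] 0 1, .cons [4, 2, 2] 0 1, .cons [4, 3, 0] 0 1, .cons [4, 4, 3] 0 1, .cons [5, 3, 0] 0 1, .cons [5, 3, 2] 0 1]),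
    (47, [.cons [2, 2, 2] 0 1, .cons [3, 0, 0] 0 1, .cons [3, 2, 0] 0 1, .cons [3, 2, 2] 0 1, .cons [3, 3, 3] 0 1, .cons [5, 2, 1] 0 1]),
    (48, [.cons [2, 0, 0] 0 1, .cons [2, 2, 2] 0 1, .cons [3, 2, 0] 0 1, .cons [3, 2, 2] 0 1, .cons [3, 3, 3] 0 1, .cons [4, 2, 1] 0 1, .cons [4, 3, 0] 0 1, .cons [4, 4, 3] 0 1, .cons [5, 1, 0] 0 1, .cons [5, 1, 1] 0 1, .cons [5, 2, 1] 0 1, .cons [5, 3, 0] 0 1, .cons [5, 3, 2] 0 1, .cons [5, 3, 3] 0 1]),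
    (49, [.cons [3, 0, 0] 0 1, .cons [3, 2, 0] 0 1, .cons [3, 2, 2] 0 1, .cons [3, 3, 3] 0 1, .cons [4, 2, 2] 0 1, .cons [4, 4, 2] 0 1, .cons [5, 2, 1] 0 1]),
    (50, [.cons [2, 1, 1] 0 1, .cons [2, 2, 1] 0 1, .cons [2, 2, 2] 0 1, .cons [3, 0, 0] 0 1, .cons [3, 2, 0] 0 1, .cons [3, 2, 2] 0 1, .cons [3, 3, 3] 0 1, .cons [4, 2, 1] 0 1, .cons [4, 2, 2] 0 1, .cons [4, 4, 2] 0 1]),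
    (51, [.cons [2, 0, 0] 0 1, .cons [2, 1, 1] 0 1, .cons [2, 2, 2] 0 1, .cons [3, 0, 0] 0 1, .cons [4, 2, 0] 0 1, .cons [4, 2, 1] 0 1, .cons [4, 3, 0] 0 1, .cons [4, 4, 2] 0 1, .cons [4, 4, 3] 0 1, .cons [5, 2, 1] 0 1, .cons [5, 3, 0] 0 1, .cons [5, 3, 2] 0 1, .cons [6, 2, 1] 0 1]),
    (52, [.cons [2, 1, 1] 0 1, .cons [2, 2, 1] 0 1, .cons [2, 2, 2] 0 1, .cons [4, 2, 1] 0 1, .cons [4, 2, 2] 0 1, .cons [4, 4, 2] 0 1]),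
    (53, [.cons [2, 0, 0] 0 1, .cons [2, 2, 0] 0 1, .cons [2, 2, 2] 0 1, .cons [3, 0, 0] 0 1, .cons [3, 2, 2] 0 1, .cons [4, 3, 0] 0 1, .cons [4, 3, 2] 0 1, .cons [5, 3, 3] 0 1]),
    (54, [.cons [2, 0, 0] 0 1, .cons [2, 2, 2] 0 1, .cons [3, 2, 0] 0 1, .cons [3, 2, 2] 0 1, .cons [3, 3, 3] 0 1, .cons [4, 2, 0] 0 1, .cons [4, 2, 2] 0 1, .cons [4, 3, 0] 0 1, .cons [4, 4, 3] 0 1, .cons [5, 3, 0] 0 1, .cons [5, 3, 2] 0 1])]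

/-- Two generators of a Sylow 3-subgroup and an element inverting both. -/
def threeWords : List (List ℕ) := [[0, 1, 2, 0],
    [4, 1, 3, 2, 3, 1, 2, 3, 0, 1, 2, 3, 4, 3],
    [0, 1, 0]]

/-- Two generators of a Sylow 5-subgroup and an element fixing the first and inverting the second. -/
def fiveWords : List (List ℕ) := [[2, 3, 1, 2, 3, 5, 3, 1, 2, 1],
    [2, 3, 6, 3, 2, 6, 3, 2, 4, 0, 3, 5, 4, 1, 5, 2, 5, 2, 3, 1, 3, 1, 4, 2, 5, 2, 3, 2, 3, 1, 2, 3, 5, 1, 0, 2, 3, 1, 2, 3, 6, 3, 0, 1, 2, 3, 5],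
    [1, 2, 3, 5, 3, 1, 2, 3, 5, 2, 3, 2, 3, 5, 3, 2, 3, 1, 2]]

/-- Two generators of a Sylow 7-subgroup and an element mapping them to their 2nd and 4th powers. -/
def sevenWords : List (List ℕ) := [[2, 5, 3, 6, 4, 2, 1, 0, 6, 0, 2, 5, 2, 3, 2, 3, 6, 4, 1, 2, 3, 2, 5, 3, 1, 2, 3, 4, 1, 2, 3, 5, 3, 2],
    [6, 0, 6, 0, 6, 3, 2, 6, 1, 0, 6, 4, 3, 5, 3, 2, 3, 6, 2, 3, 2, 1, 4, 2, 3, 2, 3, 5, 6, 2, 3, 5, 4, 1],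
    [4, 2, 3, 5, 3, 6, 2]]

/-- Points telling the checked elements apart from 1. -/
def testPoints : List ℕ := [0, 7, 100, 555, 1234, 2000]

end Cfsg.Agent.Multiplier.HeData
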