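import Cfsg.Agent.Lib.Multiplier.TailCert

/-!
# Tail certificates in which all tails vanish

* `normal_form_of_rel`: polycyclic relations give normal forms.
* `card_of_rel`: their number.
* `not_stem_two_of_all_tails`: if all tails of a Sylow 2-subgroup are forced to vanish, there is no
  double stem extension.
-/

set_option autoImplicit false

open scoped commutatorElement

namespace Cfsg.Agent.Multiplier.TailCert

universe u v

/-- All tails are derived, and right-hand sides only involve later letters. -/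
def allTails (n : ℕ) (w : List ℕ) (init : ℕ) (ders : List (ℕ × List Fact)) : Bool :=
  match derived n w [] [] ders init with
  | none => false
  | some known =>
    (List.range n).all fun a => (List.range (a + 1)).all fun b =>
      (pairs n).getD (tidx a b) (0, 0) == (a, b) && decide (tidx a b < (pairs n).length) &&
        known.testBit (tidx a b) && (letters n (w.getD (tidx a b) 0)).all (decide <| a < ·)

variable {Γ : Type u} [Group Γ] [Finite Γ] {A : ℕ → Γ} {n : ℕ} {w : List ℕ}

/-- Polycyclic relations give normal forms. -/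
theorem normal_form_of_rel (hrel : ∀ a b, a < n → b ≤ a → A a * A b = pw A (rep n w a b))
    (hw : ∀ a b, a < n → b ≤ a → ∀ i ∈ letters n (w.getD (tidx a b) 0), a < i) :
    ∀ d k, k + d = n → ∀ x ∈ Subgroup.closure (A '' {i | k ≤ i ∧ i < n}),
      ∃ l, l.Sublist (List.range' k d) ∧ x = pw A l
  | 0, k, hd, x, hx => by
    have h0 : A '' {i | k ≤ i ∧ i < n} = ∅ := by
      rw [Set.image_eq_empty, Set.eq_empty_iff_forall_notMem]
      rintro i ⟨h1, h2⟩
      omega
    rw [h0, Subgroup.closure_empty, Subgroup.mem_bot] at hx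
    exact ⟨[], List.nil_sublist _, hx⟩
  | d + 1, k, hd, x, hx => by
    obtain ⟨M, hM⟩ : ∃ M, M = Subgroup.closure (A '' {i | k + 1 ≤ i ∧ i < n}) := ⟨_, rfl⟩
    have hgen : ∀ i, k < i → i < n → A i ∈ M := fun i h1 h2 =>
      hM ▸ Subgroup.subset_closure ⟨i, ⟨h1, h2⟩, rfl⟩
    have hlet : ∀ a b, k ≤ a → a < n → b ≤ a → pw A (letters n (w.getD (tidx a b) 0)) ∈ M := by
      intro a b hka ha hb
      refine Subgroup.list_prod_mem M fun y hy => ?_
      obtain ⟨i, hi, rfl⟩ := List.mem_map.1 hy
      have h1 := hw a b ha hb i hi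
      exact hgen i (by omega) (List.mem_range.1 (List.mem_filter.1 hi).1)
    have hsq : A k * A k ∈ M := by
      rw [hrel k k (by omega) le_rfl, rep, if_pos rfl]
      exact hlet k k le_rfl (by omega) le_rfl
    have hnorm : ∀ m ∈ M, (A k)⁻¹ * m * A k ∈ M := by
      intro m hm
      rw [hM] at hm
      induction hm using Subgroup.closure_induction with
      | mem y hy =>
        obtain ⟨j, ⟨hj1, hj2⟩, rfl⟩ := hy
        have h1 := hrel j k hj2 (by omega)
        rw [rep, if_neg (by omega), pw_cons, pw_cons] at h1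
        rw [mul_assoc, h1, inv_mul_cancel_left]
        exact mul_mem (hgen j (by omega) hj2) (hlet j k (by omega) hj2 (by omega))
      | one => simp
      | mul a b _ _ ha hb =>
        rw [show (A k)⁻¹ * (a * b) * A k = (A k)⁻¹ * a * A k * ((A k)⁻¹ * b * A k) by group]
        exact mul_mem ha hb
      | inv a _ ha =>
        rw [show (A k)⁻¹ * a⁻¹ * A k = ((A k)⁻¹ * a * A k)⁻¹ by group]
        exact inv_mem ha
    have hform : ∃ m ∈ M, x = m ∨ x = A k * m := by
      rw [← Subgroup.mem_toSubmonoid, Subgroup.closure_toSubmonoid_of_finite] at hx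
      induction hx using Submonoid.closure_induction_right with
      | one => exact ⟨1, one_mem M, .inl rfl⟩
      | mul_right y _ z hz ih =>
        obtain ⟨i, ⟨hi1, hi2⟩, rfl⟩ := hz
        obtain ⟨m, hm, h⟩ := ih
        rcases Nat.lt_or_ge k i with hki | hki
        · refine ⟨m * A i, mul_mem hm (hgen i hki hi2), ?_⟩
          rcases h with rfl | rfl
          · exact .inl rfl
          · exact .inr (mul_assoc _ _ _)
        · obtain rfl : i = k := by omega
          rcases h with rfl | rfl
          · exact ⟨(A i)⁻¹ * y * A i, hnorm y hm, .inr (by group)⟩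
          · refine ⟨A i * A i * ((A i)⁻¹ * m * A i), mul_mem hsq (hnorm m hm), .inl ?_⟩
            group
    obtain ⟨m, hm, h⟩ := hform
    obtain ⟨l, hl, rfl⟩ := normal_form_of_rel hrel hw d (k + 1) (by omega) m (hM ▸ hm)
    rcases h with rfl | rfl
    · exact ⟨l, by rw [List.range'_succ]; exact hl.cons _, rfl⟩
    · exact ⟨k :: l, by rw [List.range'_succ]; exact hl.cons_cons _, (pw_cons A k l).symm⟩

/-- Consistent polycyclic generators span a subgroup of order `2 ^ d`. -/
theorem card_of_rel (hrel : ∀ a b, a < n → b ≤ a → A a * A b = pw A (rep n w a b))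
    (hw : ∀ a b, a < n → b ≤ a → ∀ i ∈ letters n (w.getD (tidx a b) 0), a < i)
    (hinj : ∀ l, l.Sublist (List.range n) → pw A l = 1 → l = []) :
    ∀ d k, k + d = n → Nat.card (Subgroup.closure (A '' {i | k ≤ i ∧ i < n})) = 2 ^ d
  | 0, k, hd => by
    rw [show A '' {i | k ≤ i ∧ i < n} = ∅ by
      rw [Set.image_eq_empty, Set.eq_empty_iff_forall_notMem]
      rintro i ⟨h1, h2⟩
      omega, Subgroup.closure_empty, Subgroup.card_bot, pow_zero]
  | d + 1, k, hd => by
    obtain ⟨M, hM⟩ : ∃ M, M = Subgroup.closure (A '' {i | k + 1 ≤ i ∧ i < n}) := ⟨_, rfl⟩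
    obtain ⟨P, hP⟩ : ∃ P, P = Subgroup.closure (A '' {i | k ≤ i ∧ i < n}) := ⟨_, rfl⟩
    have hMP : M ≤ P := by
      rw [hM, hP]
      exact Subgroup.closure_mono (Set.image_mono fun i hi => ⟨by have := hi.1; omega, hi.2⟩)
    have hkP : A k ∈ P := hP ▸ Subgroup.subset_closure ⟨k, ⟨le_rfl, by omega⟩, rfl⟩
    have hkM : A k ∉ M := by
      intro h
      obtain ⟨l, hl, he⟩ := normal_form_of_rel hrel hw d (k + 1) (by omega) (A k)⁻¹ (hM ▸ inv_mem h)
      have h1 : (k :: l).Sublist (List.range n) := by
        have h2 : (k :: l).Sublist (List.range' k (d + 1)) := by rw [List.range'_succ]; exact hl.cons_cons _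
        refine h2.trans ?_
        have h3 := @List.range'_append_1 0 k (d + 1)
        rw [zero_add] at h3
        rw [List.range_eq_range', ← hd, ← h3]
        exact List.sublist_append_right _ _
      exact absurd (hinj _ h1 (by rw [pw_cons, ← he, mul_inv_cancel])) (List.cons_ne_nil _ _)
    have hmemP : ∀ x ∈ P, ∃ m ∈ M, x = m ∨ x = A k * m := by
      intro x hx
      obtain ⟨l, hl, rfl⟩ := normal_form_of_rel hrel hw (d + 1) k hd x (hP ▸ hx)
      rw [List.range'_succ, List.sublist_cons_iff] at hl
      have hlM : ∀ r, r.Sublist (List.range' (k + 1) d) → pw A r ∈ M := fun r hr => by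
        refine Subgroup.list_prod_mem M fun y hy => ?_
        obtain ⟨i, hi, rfl⟩ := List.mem_map.1 hy
        have := List.mem_range'_1.1 (hr.subset hi)
        exact hM ▸ Subgroup.subset_closure ⟨i, ⟨this.1, by omega⟩, rfl⟩
      rcases hl with hl | ⟨r, rfl, hr⟩
      · exact ⟨_, hlM l hl, .inl rfl⟩
      · exact ⟨_, hlM r hr, .inr (pw_cons A k r)⟩
    have hbij : Function.Bijective (fun q : Bool × M =>
        (⟨(if q.1 then A k else 1) * q.2, by
          split
          · exact mul_mem hkP (hMP q.2.2)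
          · rw [one_mul]; exact hMP q.2.2⟩ : P)) := by
      refine ⟨?_, ?_⟩
      · rintro ⟨a, x⟩ ⟨b, y⟩ h
        have h' := congrArg Subtype.val h
        simp only at h'
        cases a <;> cases b <;> simp only [Bool.false_eq_true, if_true, if_false, one_mul] at h'
        · rw [Subtype.ext h']
        · exact absurd (mul_inv_eq_of_eq_mul h' ▸ mul_mem x.2 (inv_mem y.2)) hkM
        · exact absurd (mul_inv_eq_of_eq_mul h'.symm ▸ mul_mem y.2 (inv_mem x.2)) hkM
        · rw [Subtype.ext (mul_left_cancel h')]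
      · rintro ⟨x, hx⟩
        obtain ⟨m, hm, rfl | rfl⟩ := hmemP x hx
        · exact ⟨(false, ⟨_, hm⟩), Subtype.ext (by simp)⟩
        · exact ⟨(true, ⟨_, hm⟩), Subtype.ext (by simp)⟩
    rw [← hP, ← Nat.card_congr (Equiv.ofBijective _ hbij), Nat.card_prod, hM,
      card_of_rel hrel hw hinj d (k + 1) (by omega), Nat.card_eq_fintype_card, Fintype.card_bool, pow_succ']

/-- No double stem extension when all tails vanish. -/
theorem not_stem_two_of_all_tails {G : Type v} [Group G] {σ : Γ →* G} (hσ : Cfsg.IsStemExtension σ)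
    (hK : Nat.card σ.ker = 2) (n : ℕ) (w : List ℕ) (init : ℕ) (ders : List (ℕ × List Fact)) (A : ℕ → Γ)
    (hrelG : ∀ a b, a < n → b ≤ a → σ (A a * A b) = σ (pw A (rep n w a b)))
    (hinit : ∀ a b, a < n → b ≤ a → init.testBit (tidx a b) = true → A a * A b = pw A (rep n w a b))
    (hpow : ∀ d ∈ ders, ∀ a ∈ d.2, ∀ x x' h c, a = Fact.pow x x' h c →
      ∃ g, σ (g * pw A x * g⁻¹) = σ (pw A x'))
    (hinj : ∀ l, l.Sublist (List.range n) → σ (pw A l) = 1 → l = [])
    (hidx : ¬ 2 ∣ (Subgroup.closure (Set.range fun i : Fin n => σ (A i))).index)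
    (h : allTails n w init ders = true) : False := by
  classical
  have htwo : ∀ z ∈ σ.ker, z * z = 1 := fun z hz => by
    have := congrArg Subtype.val (pow_card_eq_one' (x := (⟨z, hz⟩ : σ.ker)))
    rwa [hK, Subgroup.coe_pow, Subgroup.coe_one, pow_two] at this
  have hker : σ.ker ≤ Subgroup.center Γ := hσ.2.1
  rw [allTails] at h
  cases hd : derived n w [] [] ders init with
  | none => rw [hd] at h; simp at h
  | some known =>
  rw [hd] at h
  simp only [Bool.and_eq_true, List.all_eq_true, List.mem_range, decide_eq_true_eq, beq_iff_eq] at h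
  let T : ℕ → Γ := fun k =>
    let q := (pairs n).getD k (0, 0)
    if q.1 < n ∧ q.2 ≤ q.1 ∧ tidx q.1 q.2 = k then (pw A (rep n w q.1 q.2))⁻¹ * (A q.1 * A q.2) else 1
  have hTab : ∀ a b, a < n → b ≤ a → T (tidx a b) = (pw A (rep n w a b))⁻¹ * (A a * A b) := by
    intro a b ha hb
    simp only [T, (h a ha b (by omega)).1.1.1]
    rw [if_pos ⟨ha, hb, trivial⟩]
  have hT : ∀ k, σ (T k) = 1 := fun k => by
    simp only [T]
    split
    · next hq => rw [map_mul, map_inv, hrelG _ _ hq.1 hq.2.1, inv_mul_cancel]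
    · exact map_one σ
  have hc : ∀ k x, x * T k = T k * x := fun k => Subgroup.mem_center_iff.1 (hker (hT k))
  have hsq : ∀ k, T k * T k = 1 := fun k => htwo _ (hT k)
  have hrel : ∀ a b, a < n → b ≤ a → A a * A b = pw A (rep n w a b) * T (tidx a b) := fun a b ha hb => by
    rw [hTab a b ha hb, mul_inv_cancel_left]
  have hN : ∀ a b, a < n → b ≤ a → tidx a b < (pairs n).length := fun a b ha hb =>
    (h a ha b (by omega)).1.1.2
  have hinitT : ∀ k, k < (pairs n).length → init.testBit k = true → T k = 1 := fun k _ hb => by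
    simp only [T]
    split
    · next hq =>
      rw [hinit _ _ hq.1 hq.2.1 (hq.2.2.symm ▸ hb), inv_mul_cancel]
    · rfl
  have hknown := derived_sound hc hsq hrel hN hker htwo (X := []) (Y := []) rfl hT ders init known hpow
    hinitT hd
  have hrel' : ∀ a b, a < n → b ≤ a → A a * A b = pw A (rep n w a b) := fun a b ha hb => by
    rw [hrel a b ha hb, hknown _ (hN a b ha hb) (h a ha b (by omega)).1.2, mul_one]
  obtain ⟨P, hP⟩ : ∃ P, P = Subgroup.closure (A '' {i | 0 ≤ i ∧ i < n}) := ⟨_, rfl⟩
  have hle := ker_le_commutator_closure hσ Nat.prime_two hK ((A '' {i | 0 ≤ i ∧ i < n}) ∪ (σ.ker : Set Γ))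
    Set.subset_union_right (Subgroup.closure (Set.range fun i : Fin n => σ (A i))) (by
      rw [Subgroup.closure_le]
      rintro _ ⟨i, rfl⟩
      exact ⟨A i, Subgroup.subset_closure (Or.inl ⟨i, ⟨Nat.zero_le _, i.2⟩, rfl⟩), rfl⟩) hidx
  have hgenP : ∀ s ∈ A '' {i | 0 ≤ i ∧ i < n}, s ∈ P := fun s hs => hP ▸ Subgroup.subset_closure hs
  have hcomm : ∀ z ∈ σ.ker, ∀ g : Γ, Commute g z := fun z hz => Subgroup.mem_center_iff.1 (hker hz)
  have hle' : σ.ker ≤ P := hle.trans (commutator_closure_le _ P (fun s hs t ht => by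
    rcases hs with hs | hs
    · rcases ht with ht | ht
      · have h1 := hgenP s hs
        have h2 := hgenP t ht
        rw [commutatorElement_def]
        exact mul_mem (mul_mem (mul_mem h1 h2) (inv_mem h1)) (inv_mem h2)
      · rw [commutatorElement_eq_one_iff_commute.2 (hcomm t ht s)]
        exact one_mem P
    · rw [commutatorElement_eq_one_iff_commute.2 (hcomm s hs t).symm]
      exact one_mem P) (fun s hs x hx => by
    rcases hs with hs | hs
    · exact mul_mem (mul_mem (hgenP s hs) hx) (inv_mem (hgenP s hs))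
    · rw [← (hcomm s hs x).eq, mul_inv_cancel_right]
      exact hx))
  have hbot : σ.ker = ⊥ := by
    rw [Subgroup.eq_bot_iff_forall]
    intro z hz
    obtain ⟨l, hl, rfl⟩ := normal_form_of_rel hrel' (fun a b ha hb => (h a ha b (by omega)).2) n 0
      (zero_add n) z (hP ▸ hle' hz)
    rw [hinj l (by rwa [List.range_eq_range']) hz]
    rfl
  rw [hbot, Subgroup.card_bot] at hK
  norm_num at hK

end Cfsg.Agent.Multiplier.TailCert
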