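import Cfsg.Agent.Lib.CosetEnum.BaseHe
import Cfsg.Agent.Lib.Multiplier.HeTables
import Cfsg.Agent.Lib.Multiplier.HeData
import Cfsg.Agent.Lib.Multiplier.TailFull

/-!
# Kernel checks for the multiplier of the Held group

Words in the seven involutions are evaluated on the roots of a chain of orbits.
-/

set_option autoImplicit false
set_option maxRecDepth 100000

namespace Cfsg.Agent.Multiplier.He

open HeData Cfsg.Agent.CosetEnum

attribute [local irreducible] pcWords conjs ders rhs he2058 tbl

/-- The roots of the chain. -/
def roots : List ℕ := [0, 1, 2, 18, 5, 9]

theorem data_facts : he2058.k = 7 ∧ he2058.B = 13 ∧ he2058.lg = 12 ∧ he2058.n = 2058 ∧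
    roots.all (fun b => decide (b < he2058.n)) = true := by
  decide +kernel

/-- All letters are generators. -/
def okW (w : List ℕ) : Bool := w.all (fun a => decide (a < 7))

/-- The image of a point under a word. -/
noncomputable def img (w : List ℕ) (i : ℕ) : ℕ :=
  List.rec (motive := fun _ => ℕ) i (fun a _ ih => force ih fun j => lane 13 (tbl a) j) w

/-- Two words act in the same way on the roots. -/
noncomputable def same (v w : List ℕ) : Bool := okW v && okW w && roots.all fun b => Nat.beq (img v b) (img w b)

/-- Some root is not at home. -/
def moves (pts : List ℕ) : Bool := pts != roots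

/-! ### checks -/

/-- The word of a polycyclic generator. -/
def code (i : ℕ) : List ℕ := pcWords.getD i []

/-- The word of a list of polycyclic generators. -/
def flat (l : List ℕ) : List ℕ := (l.map code).flatten

theorem check_tails : TailCert.allTails 10 rhs init ders = true := by decide +kernel

theorem check_rel : ((List.range 10).all fun a => (List.range (a + 1)).all fun b =>
    same (code a ++ code b) (flat (TailCert.rep 10 rhs a b))) = true := by decide +kernel

theorem check_pow : (ders.all fun d => d.2.all fun f => match f with
    | .pow x x' _ c => decide (∀ i ∈ x, i < 10) && decide (∀ i ∈ x', i < 10) &&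
        same (conjs.getD c [] ++ flat x) (flat x' ++ conjs.getD c [])
    | _ => true) = true := by decide +kernel

theorem check_def :
    ((defs.all fun d => TailCert.rep 10 rhs d.2.1 d.2.2 ==
        if d.2.1 = d.2.2 then [d.1] else [d.2.2, d.2.1, d.1]) &&
    (List.range 10).all fun a => (List.range (a + 1)).all fun b =>
      !init.testBit (TailCert.tidx a b) || (defs.map fun d => d.2).contains (a, b)) = true := by
  decide +kernel

/-- All non-empty products obtained by prepending some of the generators move a root. -/
noncomputable def dfs (l : List ℕ) : List ℕ → Bool → Bool :=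
  List.rec (motive := fun _ => List ℕ → Bool → Bool) (fun pts ne => !ne || moves pts)
    (fun a _ ih pts ne => ih pts ne && ih (pts.map (img (code a))) true) l

theorem check_sub : dfs (List.range 10).reverse roots false = true := by decide +kernel

theorem check_code : (List.range 10).all (fun a => okW (code a)) = true := by decide +kernel

/-- Repetitions of a word. -/
def rpt (n : ℕ) (w : List ℕ) : List ℕ := (List.replicate n w).flatten

/-- The commutator of two words of involutions. -/
def comW (a b : List ℕ) : List ℕ := a ++ b ++ a.reverse ++ b.reverse

/-- The checks for a Sylow subgroup of order `p ^ 3`. -/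
noncomputable def classTwoOK (ws : List (List ℕ)) (p i j : ℕ) : Bool :=
  let a := ws.getD 0 []
  let b := ws.getD 1 []
  let g := ws.getD 2 []
  let w := comW a b
  same (rpt p a) [] && same (rpt p b) [] && same (w ++ a) (a ++ w) && same (w ++ b) (b ++ w) &&
    same (g ++ a) (rpt i a ++ g) && same (g ++ b) (rpt j b ++ g) && same (g ++ w) (rpt (i * j) w ++ g) &&
    okW w && moves (roots.map (img w))

theorem check_three : classTwoOK threeWords 3 2 2 = true := by decide +kernel

theorem check_seven : classTwoOK sevenWords 7 2 4 = true := by decide +kernel

/-- The checks for the Sylow 5-subgroup. -/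
noncomputable def fiveOK : Bool :=
  let a := fiveWords.getD 0 []
  let b := fiveWords.getD 1 []
  let t := fiveWords.getD 2 []
  same (rpt 5 a) [] && same (rpt 5 b) [] && same (a ++ b) (b ++ a) && same (t ++ a) (a ++ t) &&
    same (b ++ t ++ b) t && okW a && moves (roots.map (img a)) && okW b && moves (roots.map (img b))

theorem check_five : fiveOK = true := by decide +kernel

end Cfsg.Agent.Multiplier.He
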