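import Cfsg.Agent.S1695
import Cfsg.Agent.Lib.Multiplier.HeChecks

/-!
# The Held group on the roots of a chain of orbits

* `le_card_perm_fixed` : the bound of a chain, sharpened by a subgroup fixing all roots.
* `el_eq`, `el_ne_one` : elements are told apart by their images of the roots.
-/

set_option autoImplicit false

namespace Cfsg.Agent.CosetEnum

open Data Setup

variable {D : Data}

/-- The bound of a chain, sharpened by a subgroup fixing all roots. -/
theorem le_card_perm_fixed (hp : D.PermFacts) (R : Subgroup (Equiv.Perm (Fin D.n))) : ∀ (l : List OrbitData) (roots : List ℕ), Setup.chainOK D l roots = true →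
    (∀ b ∈ roots, b < D.n) → ∀ (P : Subgroup (Equiv.Perm (Fin D.n))),
    (∀ g : Equiv.Perm (Fin D.n), (∃ w, (∀ a ∈ w, a < D.k) ∧ g = ev (perm D hp) w) →
      (∀ b ∈ roots, ∀ i : Fin D.n, (i : ℕ) = b → g i = i) → g ∈ P) → R ≤ P →
    (∀ g ∈ R, ∀ b ∈ l.map OrbitData.root, ∀ i : Fin D.n, (i : ℕ) = b → g i = i) →
    Setup.chainSize l * Nat.card R ≤ Nat.card P
  | [], _, _, _, P, _, hR, _ => by
    rw [Setup.chainSize, one_mul]; exact Nat.card_le_card_of_injective _ (Subgroup.inclusion_injective hR)
  | O :: l, roots, h, hroots, P, hP, hR, hfixR => by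
    change (D.reachOK O && ((O.words.all fun w => roots.all fun b => Nat.beq (lane D.B (D.trace w) b) b) &&
      chainOK D l (O.root :: roots))) = true at h
    simp only [Bool.and_eq_true, List.all_eq_true, beq_iff] at h
    obtain ⟨hreach, hfix, hrest⟩ := h
    obtain ⟨hrootmem, hcard, hind⟩ := orbit_reach hp hreach
    have hwk : ∀ w ∈ O.words, ∀ a ∈ w, a < D.k := by
      intro w hw
      obtain ⟨j, hj, rfl⟩ := List.getElem_of_mem hw
      unfold Data.reachOK at hreach
      simp only [Bool.and_eq_true, beq_iff, List.all_eq_true] at hreach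
      have := hreach.2.2.2.1 (O.words[j], O.sels[j]'(by have := hreach.1; omega))
        (List.mem_of_getElem (i := j) (h := by simp; have := hreach.1; omega) (by simp))
      unfold Data.orbSelOK at this
      simp only [Bool.and_eq_true, List.all_eq_true, Nat.blt_eq] at this
      exact this.1
    have hwP : ∀ w ∈ O.words, ev (perm D hp) w ∈ P := fun w hw => hP _ ⟨w, hwk w hw, rfl⟩ fun b hb i hi => by
      have := hfix w hw b hb
      rw [trace_eq hp w (hwk w hw), lane_pack hp.hB
        (fun j hj => self_lt_two_pow_of_lt (by have := hp.hlg; omega) (tw_lt hp w (hwk w hw) j hj))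
        (lt_of_lt_of_le (hroots b hb) hp.hnN)] at this
      exact Fin.ext (by rw [ev_perm hp w (hwk w hw), hi, this])
    set r : Fin D.n := ⟨O.root, hrootmem.1⟩
    have horbit : ∀ i ∈ Data.maskSet D O, ∃ x ∈ MulAction.orbit P r, ((x : Fin D.n) : ℕ) = i := by
      refine hind ⟨r, MulAction.mem_orbit_self r, rfl⟩ fun w hw i hi => ?_
      rintro ⟨x, hx, rfl⟩
      refine ⟨ev (perm D hp) w x, ?_, ev_perm hp w (hwk w hw) x⟩
      exact MulAction.mem_orbit_of_mem_orbit (⟨ev (perm D hp) w, hwP w hw⟩ : P) hx
    have horb : O.size ≤ Nat.card (MulAction.orbit P r) := by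
      have hsub : Data.maskSet D O ⊆ (fun x : Fin D.n => (x : ℕ)) '' MulAction.orbit P r := fun i hi => by
        obtain ⟨x, hx, e⟩ := horbit i hi
        exact ⟨x, hx, e⟩
      rw [← hcard, Nat.card_coe_set_eq, ← Set.ncard_image_of_injective _ Fin.val_injective]
      exact Set.ncard_le_ncard hsub (Set.toFinite _)
    let Q : Subgroup (Equiv.Perm (Fin D.n)) := P ⊓ MulAction.stabilizer (Equiv.Perm (Fin D.n)) r
    have hQ := le_card_perm_fixed hp R l (O.root :: roots) hrest
      (fun b hb => by rcases List.mem_cons.mp hb with rfl | hb; exacts [hrootmem.1, hroots b hb]) Q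
      (fun g hg hb => ⟨hP g hg fun b hb' i hi => hb b (List.mem_cons_of_mem _ hb') i hi,
        hb O.root List.mem_cons_self r rfl⟩)
      (fun g hg => ⟨hR hg, hfixR g hg O.root (by simp) r rfl⟩)
      (fun g hg b hb => hfixR g hg b (List.mem_cons_of_mem _ hb))
    have hstab : Nat.card Q ≤ Nat.card (MulAction.stabilizer P r) := by
      refine Nat.card_le_card_of_injective (fun q => ⟨⟨q.1, q.2.1⟩, q.2.2⟩) fun q q' h => ?_
      exact Subtype.ext (congrArg (fun x : MulAction.stabilizer P r => x.1.1) h)
    show O.size * Setup.chainSize l * Nat.card R ≤ Nat.card P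
    rw [mul_assoc]
    calc O.size * (Setup.chainSize l * Nat.card R) ≤ Nat.card (MulAction.orbit P r) * Nat.card (MulAction.stabilizer P r) :=
          Nat.mul_le_mul horb (hQ.trans hstab)
      _ = Nat.card P := by
          rw [← Nat.card_prod]
          exact Nat.card_congr (MulAction.orbitProdStabilizerEquivGroup P r)

end Cfsg.Agent.CosetEnum

namespace Cfsg.Agent.Multiplier.He

open HeData Cfsg.Agent.CosetEnum Cfsg.Agent.CosetEnum.Data Cfsg.Agent.CosetEnum.Setup

/-- The Held group. -/
abbrev G0 : Type := heSetup.G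

/-- The value of a word, read from left to right. -/
noncomputable def el (w : List ℕ) : G0 := ev heSetup.el w.reverse

theorem el_nil : el [] = 1 := rfl

theorem el_append (v w : List ℕ) : el (v ++ w) = el v * el w := by
  rw [el, List.reverse_append, ev_append]; rfl

theorem el_flatten : ∀ l : List (List ℕ), el l.flatten = (l.map el).prod
  | [] => rfl
  | w :: l => by rw [List.flatten_cons, el_append, el_flatten l]; rfl

theorem el_replicate (n : ℕ) (w : List ℕ) : el (List.replicate n w).flatten = el w ^ n := by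
  rw [el_flatten, List.map_replicate, List.prod_replicate]

theorem card_g0 : Nat.card G0 = 4030387200 := S1695.main.2

theorem perm_facts : ∃ (hp : he2058.PermFacts) (φ : G0 →* Equiv.Perm (Fin he2058.n)),
    (∀ x, (∀ b ∈ roots, ∀ i : Fin he2058.n, (i : ℕ) = b → φ x i = i) → x = 1) ∧
    ∀ a < he2058.k, φ (heSetup.el a) = perm he2058 hp a := by
  have T := Cfsg.Agent.S1683.table
  have hch := he2058_chain_check
  simp only [Bool.and_eq_true] at hch
  obtain ⟨hcard, hinj⟩ := Setup.card_eq_of_bounds T.gens T.letters T.perm T.rels he2058_chain hch.1 he_card_le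
    (beq_iff.mp hch.2)
  obtain ⟨φ, hφ⟩ : ∃ φ, φ = hom T.gens T.letters T.perm T.rels := ⟨_, rfl⟩
  rw [← hφ] at hinj
  refine ⟨T.perm, φ, fun x hx => ?_, fun a ha => hφ ▸ Setup.hom_el T.gens T.letters T.perm T.rels ha⟩
  have hroots : he2058_chain.map OrbitData.root = roots := by decide +kernel
  obtain ⟨R, hR⟩ : ∃ R, R = Subgroup.zpowers (φ x) := ⟨_, rfl⟩
  have hle := le_card_perm_fixed T.perm R he2058_chain [] hch.1 (fun b hb => absurd hb List.not_mem_nil) φ.range
    (fun g ⟨w, hw, hg⟩ _ => by rw [hg, hφ]; exact ev_perm_mem_range T.gens T.letters T.perm T.rels w hw)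
    (by rw [hR, Subgroup.zpowers_le]; exact ⟨x, rfl⟩) (fun g hg b hb i hi => by
      rw [hR] at hg
      have hmem : φ x ∈ MulAction.stabilizer (Equiv.Perm (Fin he2058.n)) i := hx b (hroots ▸ hb) i hi
      exact (Subgroup.zpowers_le.2 hmem) hg)
  rw [beq_iff.mp hch.2] at hle
  have hrange : Nat.card φ.range = 4030387200 := by
    rw [← hcard]
    exact (Nat.card_congr (MonoidHom.ofInjective hinj).toEquiv).symm
  rw [hrange] at hle
  have h1 : Nat.card R = 1 := by
    have : 0 < Nat.card R := Nat.card_pos
    omega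
  rw [hR, Nat.card_zpowers, orderOf_eq_one_iff] at h1
  exact hinj (h1.trans (map_one φ).symm)

theorem perm_el (hp : he2058.PermFacts) (φ : G0 →* Equiv.Perm (Fin he2058.n))
    (h : ∀ a < he2058.k, φ (heSetup.el a) = perm he2058 hp a) :
    ∀ w : List ℕ, (∀ a ∈ w, a < he2058.k) → φ (ev heSetup.el w) = ev (perm he2058 hp) w
  | [], _ => map_one φ
  | a :: v, hw => by
    show φ (ev heSetup.el v * heSetup.el a) = _
    rw [map_mul, perm_el hp φ h v (fun b hb => hw b (List.mem_cons_of_mem a hb)),
      h a (hw a List.mem_cons_self)]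
    rfl

theorem okW_lt {w : List ℕ} (h : okW w = true) : ∀ a ∈ w.reverse, a < he2058.k := by
  simp only [okW, List.all_eq_true, decide_eq_true_eq] at h
  intro a ha
  rw [data_facts.1]
  exact h a (List.mem_reverse.1 ha)

theorem lane_tbl {a i : ℕ} (ha : a < 7) (hi : i < he2058.n) : lane 13 (tbl a) i = he2058.act a i := by
  have h := check_tbl
  simp only [List.all_eq_true, List.mem_range] at h
  have h1 := h a ha
  rw [force_eq, beq_iff] at h1
  obtain ⟨-, hB, hlg, hn, -⟩ := data_facts
  rw [← h1]
  show _ = lane he2058.B (applyNet he2058.B (he2058.net a) (ramp he2058.B he2058.lg)) i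
  rw [hB, hlg, lane_def, lane_def]
  refine Nat.eq_of_testBit_eq fun k => ?_
  rw [Nat.testBit_and, Nat.testBit_and, Nat.testBit_two_pow_sub_one]
  by_cases hk : k < 13
  · congr 1
    rw [Nat.testBit_shiftRight, Nat.testBit_shiftRight]
    show (Nat.land _ (Nat.shiftLeft 1 26754 - 1)).testBit _ = _
    rw [show Nat.shiftLeft 1 26754 = 2 ^ 26754 from Nat.one_shiftLeft _]
    show (_ &&& (2 ^ 26754 - 1)).testBit _ = _
    rw [Nat.testBit_and, Nat.testBit_two_pow_sub_one, decide_eq_true (by rw [hn] at hi; omega), Bool.and_true]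
  · simp [hk]

theorem img_eq (hp : he2058.PermFacts) : ∀ (w : List ℕ), okW w = true → ∀ i < he2058.n,
    img w i = he2058.tw w.reverse i ∧ he2058.tw w.reverse i < he2058.n
  | [], _, i, hi => ⟨rfl, hi⟩
  | a :: w, h, i, hi => by
    have h' : a < 7 ∧ okW w = true := by
      simpa [okW] using h
    obtain ⟨e, hlt⟩ := img_eq hp w h'.2 i hi
    have happ : ∀ (u : List ℕ) (j : ℕ), he2058.tw (u ++ [a]) j = he2058.act a (he2058.tw u j) := by
      intro u
      induction u with
      | nil => intro j; rfl
      | cons b u ih => intro j; exact ih _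
    rw [List.reverse_cons, happ]
    refine ⟨?_, hp.act_lt_n a (by rw [data_facts.1]; exact h'.1) _ hlt⟩
    show force (img w i) (fun j => lane 13 (tbl a) j) = _
    rw [force_eq, e, lane_tbl h'.1 hlt]

theorem roots_lt : ∀ b ∈ roots, b < he2058.n := by
  have h := data_facts.2.2.2.2
  simpa [List.all_eq_true] using h

theorem el_apply (hp : he2058.PermFacts) (φ : G0 →* Equiv.Perm (Fin he2058.n))
    (h : ∀ a < he2058.k, φ (heSetup.el a) = perm he2058 hp a) {w : List ℕ} (hw : okW w = true)
    (i : Fin he2058.n) : (φ (el w) i : ℕ) = img w i := by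
  rw [el, perm_el hp φ h _ (okW_lt hw), ev_perm hp _ (okW_lt hw), (img_eq hp w hw i i.2).1]

theorem el_eq {v w : List ℕ} (h : same v w = true) : el v = el w := by
  simp only [same, Bool.and_eq_true, List.all_eq_true] at h
  obtain ⟨⟨hv, hw⟩, he⟩ := h
  obtain ⟨hp, φ, hfix, hφ⟩ := perm_facts
  refine inv_mul_eq_one.1 (hfix _ fun b hb i hi => ?_)
  have h2 : φ (el v) i = φ (el w) i := Fin.ext (by
    rw [el_apply hp φ hφ hv, el_apply hp φ hφ hw, hi]; exact beq_iff.1 (he b hb))
  rw [map_mul, map_inv, Equiv.Perm.mul_apply, ← h2]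
  exact Equiv.symm_apply_apply _ i

theorem el_ne_one {w : List ℕ} (hw : okW w = true) (h : moves (roots.map (img w)) = true) : el w ≠ 1 := by
  intro he
  obtain ⟨hp, φ, -, hφ⟩ := perm_facts
  have h1 : roots.map (img w) = roots := by
    refine (List.map_congr_left fun b hb => ?_).trans (List.map_id _)
    have h2 := el_apply hp φ hφ hw ⟨b, roots_lt b hb⟩
    rw [he, map_one] at h2
    exact h2.symm
  rw [h1] at h
  exact absurd h (by decide +kernel)

end Cfsg.Agent.Multiplier.He
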