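import Cfsg.Prelude.Def_KGroupFacts
import Cfsg.Agent.EqLemmas

/-!
# Quotients of stem extensions with kernel of prime order

* `exists_prime_quotient`: a kernel element generating less than the whole kernel dies in a stem
  extension with kernel of prime order through which the given one maps.
* `hasCyclicSchurMultiplier_two_of_pair`: the multiplier is cyclic of order 2 when there is a
  double cover, and the lifts of some commuting pair with `x² = 1` stay non-commuting in every
  stem extension with kernel of prime order.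
-/

set_option autoImplicit false

open scoped commutatorElement

namespace Cfsg.Agent.Multiplier

universe u v

/-- A proper cyclic subgroup of the kernel dies in a quotient with kernel of prime order. -/
theorem exists_prime_quotient {G : Type v} [Group G] {Γ : Type u} [Group Γ] [Finite Γ] {σ : Γ →* G}
    (hσ : Cfsg.IsStemExtension σ) {c : Γ} (hc : c ∈ σ.ker) (hne : ¬ σ.ker ≤ Subgroup.zpowers c) :
    ∃ (Δ : Type u) (_ : Group Δ) (_ : Finite Δ) (τ : Δ →* G) (π : Γ →* Δ),
      Cfsg.IsStemExtension τ ∧ (Nat.card τ.ker).Prime ∧ τ.comp π = σ ∧ π c = 1 := by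
  have hnb : (Subgroup.zpowers c).subgroupOf σ.ker ≠ ⊤ := fun h =>
    hne (Subgroup.subgroupOf_eq_top.1 h)
  obtain ⟨M, hM, hcM⟩ := (eq_top_or_exists_le_coatom ((Subgroup.zpowers c).subgroupOf σ.ker)).resolve_left hnb
  have hcomm : ∀ x y : σ.ker, x * y = y * x := fun x y =>
    Subtype.ext (Subgroup.mem_center_iff.1 (hσ.2.1 y.2) x.1)
  have : M.Normal := ⟨fun n hn g => by rwa [hcomm g n, mul_inv_cancel_right]⟩
  -- the index of `M` is prime
  have hprime : (M.index).Prime := by
    have hne1 : M.index ≠ 1 := fun h1 => hM.1 (Subgroup.index_eq_one.1 h1)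
    obtain ⟨p, hp, hpd⟩ := Nat.exists_prime_and_dvd hne1
    have := Fact.mk hp
    obtain ⟨q, hq⟩ := exists_prime_orderOf_dvd_card' (G := σ.ker ⧸ M) p hpd
    obtain ⟨x, rfl⟩ := QuotientGroup.mk'_surjective M q
    have hx : x ∉ M := fun hx => by
      rw [QuotientGroup.mk'_apply, (QuotientGroup.eq_one_iff x).2 hx, orderOf_one] at hq
      exact hp.ne_one hq.symm
    have htop : (Subgroup.zpowers (QuotientGroup.mk' M x)) = ⊤ := by
      have hlt : M < (Subgroup.zpowers (QuotientGroup.mk' M x)).comap (QuotientGroup.mk' M) := by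
        refine lt_of_le_of_ne (fun m hm => ?_) fun he => hx ?_
        · rw [Subgroup.mem_comap, show QuotientGroup.mk' M m = 1 from (QuotientGroup.eq_one_iff m).2 hm]
          exact one_mem _
        · rw [he, Subgroup.mem_comap]; exact Subgroup.mem_zpowers _
      have := hM.2 _ hlt
      rw [← Subgroup.map_comap_eq_self_of_surjective (QuotientGroup.mk'_surjective M)
        (Subgroup.zpowers (QuotientGroup.mk' M x)), this,
        Subgroup.map_top_of_surjective _ (QuotientGroup.mk'_surjective M)]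
    have : M.index = p := by
      change Nat.card (σ.ker ⧸ M) = p
      rw [← Subgroup.card_top, ← htop, Nat.card_zpowers, hq]
    rw [this]; exact hp
  let N : Subgroup Γ := M.map σ.ker.subtype
  have hNle : N ≤ σ.ker := Subgroup.map_subtype_le M
  have hNn : N.Normal := ⟨fun n hn g => by
    rw [Subgroup.mem_center_iff.1 (hσ.2.1 (hNle hn)) g, mul_inv_cancel_right]; exact hn⟩
  let τ : Γ ⧸ N →* G := QuotientGroup.lift N σ hNle
  have hker : τ.ker = σ.ker.map (QuotientGroup.mk' N) := QuotientGroup.ker_lift N σ hNle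
  have hstem : Cfsg.IsStemExtension τ := by
    refine ⟨fun g => ?_, ?_, ?_⟩
    · obtain ⟨x, hx⟩ := hσ.1 g
      exact ⟨QuotientGroup.mk' N x, hx⟩
    · rw [hker]
      rintro _ ⟨x, hx, rfl⟩
      rw [Subgroup.mem_center_iff]
      intro g
      obtain ⟨y, rfl⟩ := QuotientGroup.mk'_surjective N g
      rw [← map_mul, ← map_mul, Subgroup.mem_center_iff.1 (hσ.2.1 hx) y]
    · rw [hker]
      refine (Subgroup.map_mono hσ.2.2).trans ?_
      rw [commutator_def, Subgroup.map_commutator]
      exact Subgroup.commutator_mono le_top le_top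
  refine ⟨Γ ⧸ N, inferInstance, inferInstance, τ, QuotientGroup.mk' N, hstem, ?_, rfl, ?_⟩
  · have : Nat.card τ.ker = M.index := by
      let f : σ.ker →* Γ ⧸ N := (QuotientGroup.mk' N).comp σ.ker.subtype
      have hfr : f.range = τ.ker := by
        rw [hker, MonoidHom.range_comp, Subgroup.range_subtype]
      have hfk : f.ker = M := by
        ext x
        rw [MonoidHom.mem_ker, MonoidHom.comp_apply, QuotientGroup.mk'_apply, QuotientGroup.eq_one_iff]
        exact ⟨fun ⟨m, hm, he⟩ => Subtype.ext he ▸ hm, fun hx => ⟨x, hx, rfl⟩⟩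
      rw [← hfr, ← Subgroup.index_ker, hfk]
    rwa [this]
  · exact (QuotientGroup.eq_one_iff c).2
      ⟨⟨c, hc⟩, hcM (Subgroup.mem_subgroupOf.2 (Subgroup.mem_zpowers c)), rfl⟩

/-- Multiplier of order 2 detected by a commuting pair. -/
theorem hasCyclicSchurMultiplier_two_of_pair {G : Type u} [Group G] {x y : G} (hx : x * x = 1)
    (hxy : x * y = y * x)
    (hcov : ∃ (Γ : Type u) (_ : Group Γ) (_ : Finite Γ) (σ : Γ →* G),
      Cfsg.IsStemExtension σ ∧ Nat.card σ.ker = 2)
    (h : ∀ (Γ : Type u) [Group Γ] [Finite Γ] (σ : Γ →* G), Cfsg.IsStemExtension σ →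
      (Nat.card σ.ker).Prime → ∀ a b : Γ, σ a = x → σ b = y → a * b ≠ b * a) :
    Cfsg.HasCyclicSchurMultiplier G 2 := by
  refine ⟨?_, fun Γ _ _ σ hσ => ?_⟩
  · obtain ⟨Γ, i1, i2, σ, hσ, hcard⟩ := hcov
    have : Fact (Nat.Prime 2) := ⟨Nat.prime_two⟩
    have : IsCyclic σ.ker := isCyclic_of_prime_card hcard
    exact ⟨Γ, i1, i2, σ, hσ, ⟨mulEquivOfCyclicCardEq (by rw [hcard, Nat.card_congr Multiplicative.toAdd, Nat.card_zmod])⟩⟩
  obtain ⟨a, ha⟩ := hσ.1 x
  obtain ⟨b, hb⟩ := hσ.1 y
  obtain ⟨c, hc⟩ : ∃ c, c = ⁅a, b⁆ := ⟨_, rfl⟩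
  have hck : c ∈ σ.ker := by
    rw [hc, MonoidHom.mem_ker, map_commutatorElement, ha, hb, commutatorElement_eq_one_iff_mul_comm, hxy]
  have hgen : σ.ker ≤ Subgroup.zpowers c := by
    by_contra hne
    obtain ⟨Δ, i1, i2, τ, π, hτ, hp, hcomp, hπc⟩ := exists_prime_quotient hσ hck hne
    refine h Δ τ hτ hp (π a) (π b) ?_ ?_ ?_
    · rw [← ha, ← hcomp]; rfl
    · rw [← hb, ← hcomp]; rfl
    · rw [← commutatorElement_eq_one_iff_mul_comm, ← map_commutatorElement, ← hc, hπc]
  have hc2 : c * c = 1 := by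
    have haa : a * a ∈ Subgroup.center Γ := hσ.2.1 (by rw [MonoidHom.mem_ker, map_mul, ha, hx])
    have hcc : ∀ g, g * c = c * g := Subgroup.mem_center_iff.1 (hσ.2.1 hck)
    have hab : a * b = c * (b * a) := by rw [hc, commutatorElement_def]; group
    have h2 : a * a * b = c * c * (b * (a * a)) := by
      calc a * a * b = a * (c * (b * a)) := by rw [mul_assoc, hab]
        _ = c * (a * b * a) := by rw [← mul_assoc, hcc a]; simp only [mul_assoc]
        _ = c * c * (b * (a * a)) := by rw [hab]; simp only [mul_assoc]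
    rw [Subgroup.mem_center_iff.1 haa b] at h2
    exact mul_eq_right.1 h2.symm
  let f : Multiplicative (ZMod 2) →* σ.ker :=
    { toFun := fun t => if t.toAdd = 0 then 1 else ⟨c, hck⟩
      map_one' := by simp
      map_mul' := fun s t => by
        have key : ∀ s t : ZMod 2, (if s + t = 0 then (1 : σ.ker) else ⟨c, hck⟩) =
            (if s = 0 then 1 else ⟨c, hck⟩) * (if t = 0 then 1 else ⟨c, hck⟩) := by
          intro s t
          have hcases : ∀ u : ZMod 2, u = 0 ∨ u = 1 := by decide
          have h11 : (1 : ZMod 2) + 1 = 0 := by decide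
          have hcc : (⟨c, hck⟩ : σ.ker) * ⟨c, hck⟩ = 1 := Subtype.ext hc2
          rcases hcases s with rfl | rfl <;> rcases hcases t with rfl | rfl <;>
            simp [h11, hcc]
        exact key s.toAdd t.toAdd }
  refine ⟨f, fun z => ?_⟩
  obtain ⟨m, hm⟩ := Subgroup.mem_zpowers_iff.1 (hgen z.2)
  rcases Int.even_or_odd m with ⟨k, rfl⟩ | ⟨k, rfl⟩
  · refine ⟨1, Subtype.ext ?_⟩
    rw [← hm, map_one, Subgroup.coe_one, ← two_mul, zpow_mul, zpow_two, hc2, one_zpow]
  · refine ⟨Multiplicative.ofAdd 1, Subtype.ext ?_⟩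
    rw [← hm, zpow_add, zpow_mul, zpow_two, hc2, one_zpow, one_mul, zpow_one]
    rfl

end Cfsg.Agent.Multiplier
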