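import Cfsg.Agent.Lib.Multiplier.M12Data
import Cfsg.Agent.Lib.Multiplier.MathieuCert
import Cfsg.Agent.Lib.Golay.Dodecad
import Cfsg.Agent.Lib.Multiplier.PrimeQuotient

/-!
# The Schur multiplier of M12 has order at most 2

* `not_commute_lifts`: in a stem extension of M12 with kernel of prime order the lifts of the
  chosen commuting pair do not commute.
-/

set_option autoImplicit false
open Cfsg MulAction
open scoped Pointwise

namespace Cfsg.Agent.Multiplier.M12Cert

open Cfsg.Agent.Golay MathieuCert M12Data

/-- The coded permutations in M12. -/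
def ok (d : ℕ) : Bool := isAut d && imgMask d dodecad0 == dodecad0

theorem ok_sound : ∀ d, ok d = true → validPerm d = true ∧ toPerm d ∈ Cfsg.Spor.M12 := by
  intro d h
  simp only [ok, Bool.and_eq_true, beq_iff_eq] at h
  refine ⟨validPerm_of_isAut h.1, Subgroup.mem_inf.2 ⟨toPerm_mem_M24 h.1, ?_⟩⟩
  rw [mem_stabilizer_iff, ← pts_dodecad0, ← pts_imgMask (validPerm_of_isAut h.1), h.2]

theorem natCard_m12 : Nat.card ↥Cfsg.Spor.M12 = 95040 :=
  natCard_inf_stabilizer_dodecad (pts_dodecad0 ▸ dodecad0_mem)

/-- The list `elems` of words in `gens` is closed and has no repetition. -/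
def groupOK (gens : List ℕ) (elems : List (List ℕ)) : Bool :=
  gens.all ok && elems.contains [] && (elems.all fun l => l.all gens.contains) &&
  (elems.all fun l => gens.all fun g => elems.any fun r => eqW (l ++ [g]) r) &&
  (List.range elems.length).all fun i => (List.range i).all fun j =>
    !eqW (elems.getD i []) (elems.getD j [])

theorem natCard_closure_of_groupOK {gens : List ℕ} {elems : List (List ℕ)}
    (h : groupOK gens elems = true) :
    Nat.card (Subgroup.closure {x | ∃ g ∈ gens, word ok_sound [g] = x}) = elems.length := by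
  classical
  simp only [groupOK, Bool.and_eq_true, List.all_eq_true, List.any_eq_true, Bool.not_eq_true',
    List.contains_iff_mem, List.mem_range] at h
  obtain ⟨⟨⟨⟨hok, hone⟩, hsub⟩, hclosed⟩, hnodup⟩ := h
  have helem : ∀ l ∈ elems, ∀ d ∈ l, ok d = true := fun l hl d hd => hok d (hsub l hl d hd)
  obtain ⟨P, hP⟩ : ∃ P, P = Subgroup.closure {x | ∃ g ∈ gens, word ok_sound [g] = x} := ⟨_, rfl⟩
  have hmemP : ∀ l ∈ elems, word ok_sound l ∈ P := by
    intro l hl
    refine Subgroup.list_prod_mem P ?_
    simp only [List.mem_map, forall_exists_index, and_imp]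
    rintro x d hd rfl
    rw [← word_single ok_sound d, hP]
    exact Subgroup.subset_closure ⟨d, hsub l hl d hd, rfl⟩
  let f : Fin elems.length → P := fun i => ⟨word ok_sound (elems.get i), hmemP _ (List.get_mem _ _)⟩
  have hinj : Function.Injective f := by
    intro i j hij
    by_contra hne
    have hij' : word ok_sound (elems.get i) = word ok_sound (elems.get j) := congrArg Subtype.val hij
    have key : ∀ i j : Fin elems.length, j < i →
        word ok_sound (elems.get i) ≠ word ok_sound (elems.get j) := by
      intro i j hlt he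
      have h1 := (word_eq_iff ok_sound (helem _ (List.get_mem _ _)) (helem _ (List.get_mem _ _))).1 he
      have h2 := hnodup i.val i.isLt j.val hlt
      simp [List.getD_eq_getElem?_getD] at h2
      simp [h2] at h1
    rcases lt_or_gt_of_ne hne with h | h
    · exact key j i h hij'.symm
    · exact key i j h hij'
  have hsurj : Function.Surjective f := by
    rintro ⟨x, hx⟩
    suffices H : ∃ l ∈ elems, word ok_sound l = x by
      obtain ⟨l, hl, rfl⟩ := H
      obtain ⟨i, hi⟩ := List.get_of_mem hl
      exact ⟨i, Subtype.ext (by simp [f, ← hi])⟩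
    rw [hP, ← Subgroup.mem_toSubmonoid, Subgroup.closure_toSubmonoid_of_finite] at hx
    induction hx using Submonoid.closure_induction_right with
    | one => exact ⟨[], hone, word_nil ok_sound⟩
    | mul_right x _ y hy ih =>
      obtain ⟨l, hl, rfl⟩ := ih
      obtain ⟨g, hg, rfl⟩ := hy
      obtain ⟨r, hr, he⟩ := hclosed l hl g hg
      refine ⟨r, hr, ?_⟩
      rw [← word_append]
      refine ((word_eq_iff ok_sound (fun d hd => ?_) (helem r hr)).2 he).symm
      rcases List.mem_append.1 hd with h | h
      · exact helem l hl d h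
      · exact List.mem_singleton.1 h ▸ hok g hg
  rw [← hP, ← Nat.card_congr (Equiv.ofBijective f ⟨hinj, hsurj⟩), Nat.card_fin]

/-- The code of a polycyclic generator. -/
def code (i : ℕ) : ℕ := pcGens.getD i 0

/-- The words of the 64 elements of the Sylow 2-subgroup. -/
def twoElems : List (List ℕ) := (List.range 64).map fun e => (TailCert.letters 6 e).map code

/-- The relations and conjugations in M12 used by the tail certificate. -/
def sideOK : Bool :=
  pcGens.all ok && conjs.all ok &&
  ((List.range 6).all fun a => (List.range (a + 1)).all fun b =>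
    eqW [code a, code b] ((TailCert.rep 6 rhs a b).map code)) &&
  (ders.all fun d => d.2.all fun f => match f with
    | .pow x x' _ c => decide (∀ i ∈ x, i < 6) && decide (∀ i ∈ x', i < 6) && decide (c < conjs.length) &&
        eqW (conjs.getD c 0 :: x.map code) (x'.map code ++ [conjs.getD c 0])
    | _ => true) &&
  eqW ((pairX ++ pairX).map code) [] &&
  eqW ((pairX ++ pairY).map code) ((pairY ++ pairX).map code) &&
  (List.range 64).all fun e => e == 0 || !eqW ((TailCert.letters 6 e).map code) []

theorem check_side : sideOK = true := by decide +kernel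
theorem check_tails : TailCert.check 6 3 rhs pairX pairY init ders = true := by decide +kernel
theorem check_group_two : groupOK pcGens twoElems = true := by decide +kernel
theorem check_three :
    check3 ok false three.1 three.2.1 three.2.2 threeElems = true := by decide +kernel

theorem code_ok {i : ℕ} (hi : i < 6) : ok (code i) = true := by
  have h : (List.range 6).all (fun i => ok (code i)) = true := by decide +kernel
  exact List.all_eq_true.1 h i (List.mem_range.2 hi)

/-- A letter as an element of M12. -/
noncomputable def gen (i : ℕ) : ↥Cfsg.Spor.M12 := word ok_sound [code i]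

/-- The image of a word. -/
theorem pw_gen (l : List ℕ) : TailCert.pw gen l = word ok_sound (l.map code) := by
  induction l with
  | nil => rw [List.map_nil, word_nil]; rfl
  | cons a l ih => rw [TailCert.pw_cons, ih, List.map_cons, word_cons, gen, word_single]

theorem rep_lt (a b : ℕ) (ha : a < 6) (hb : b ≤ a) : ∀ i ∈ TailCert.rep 6 rhs a b, i < 6 := by
  intro i hi
  rw [TailCert.rep] at hi
  split at hi
  · exact List.mem_range.1 (List.mem_filter.1 hi).1
  · rcases List.mem_cons.1 hi with rfl | hi
    · omega
    rcases List.mem_cons.1 hi with rfl | hi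
    · exact ha
    · exact List.mem_range.1 (List.mem_filter.1 hi).1

theorem ok_map {l : List ℕ} (h : ∀ i ∈ l, i < 6) : ∀ d ∈ l.map code, ok d = true := by
  intro d hd
  obtain ⟨i, hi, rfl⟩ := List.mem_map.1 hd
  exact code_ok (h i hi)

/-- The first element of the pair. -/
noncomputable def pairx : ↥Cfsg.Spor.M12 := TailCert.pw gen pairX

/-- The second element of the pair. -/
noncomputable def pairy : ↥Cfsg.Spor.M12 := TailCert.pw gen pairY

theorem pairx_sq : pairx * pairx = 1 := by
  have h := check_side
  simp only [sideOK, Bool.and_eq_true] at h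
  rw [pairx, ← TailCert.pw_append, pw_gen, ← word_nil ok_sound]
  exact (word_eq_iff ok_sound (ok_map (by decide)) (by simp)).2 h.1.1.2

theorem pairx_comm : pairx * pairy = pairy * pairx := by
  have h := check_side
  simp only [sideOK, Bool.and_eq_true] at h
  rw [pairx, pairy, ← TailCert.pw_append, ← TailCert.pw_append, pw_gen, pw_gen]
  exact (word_eq_iff ok_sound (ok_map (by decide)) (ok_map (by decide))).2 h.1.2

theorem rep_init : TailCert.rep 6 rhs 1 0 = [0, 1, 3] ∧ TailCert.rep 6 rhs 2 1 = [1, 2, 5] ∧
    TailCert.rep 6 rhs 2 0 = [0, 2, 3, 4, 5] := by decide +kernel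

universe u

/-- The lifts of the pair do not commute in a stem extension with kernel of prime order. -/
theorem not_commute_lifts (Γ : Type u) [Group Γ] [Finite Γ] (σ : Γ →* ↥Cfsg.Spor.M12)
    (hσ : Cfsg.IsStemExtension σ) (hprime : (Nat.card σ.ker).Prime) (a b : Γ) (ha : σ a = pairx)
    (hb : σ b = pairy) : a * b ≠ b * a := by
  intro hab
  obtain ⟨p, hpdef⟩ : ∃ p, p = Nat.card σ.ker := ⟨_, rfl⟩
  by_cases h2 : p = 2
  · rw [hpdef] at h2
    -- lifts of the polycyclic generators
    obtain ⟨a0, ha0⟩ := hσ.1 (gen 0)
    obtain ⟨a1, ha1⟩ := hσ.1 (gen 1)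
    obtain ⟨a2, ha2⟩ := hσ.1 (gen 2)
    obtain ⟨a3, ha3⟩ : ∃ a3, a3 = (a0 * a1)⁻¹ * (a1 * a0) := ⟨_, rfl⟩
    obtain ⟨a5, ha5⟩ : ∃ a5, a5 = (a1 * a2)⁻¹ * (a2 * a1) := ⟨_, rfl⟩
    obtain ⟨a4, ha4⟩ : ∃ a4, a4 = a3⁻¹ * (a0 * a2)⁻¹ * (a2 * a0) * a5⁻¹ := ⟨_, rfl⟩
    obtain ⟨A, hA⟩ : ∃ A : ℕ → Γ, A = fun i => [a0, a1, a2, a3, a4, a5].getD i 1 := ⟨_, rfl⟩
    have hside := check_side
    simp only [sideOK, Bool.and_eq_true, List.all_eq_true, List.mem_range] at hside
    obtain ⟨⟨⟨⟨⟨⟨-, hconjs⟩, hrel⟩, hpow⟩, -⟩, -⟩, hinj⟩ := hside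
    have hrelg : ∀ c d, c < 6 → d ≤ c →
        gen c * gen d = TailCert.pw gen (TailCert.rep 6 rhs c d) := by
      intro c d hc hd
      rw [pw_gen, gen, gen, ← word_append]
      exact (word_eq_iff ok_sound (by
        simp only [List.singleton_append, List.mem_cons, List.not_mem_nil, or_false,
          forall_eq_or_imp, forall_eq]
        exact ⟨code_ok hc, code_ok (by omega)⟩) (ok_map (rep_lt c d hc hd))).2 (hrel c hc d (by omega))
    have e10 : σ a3 = gen 3 := by
      rw [ha3, map_mul, map_inv, map_mul, map_mul, ha0, ha1, hrelg 1 0 (by omega) (by omega)]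
      simp [rep_init.1, TailCert.pw, mul_assoc]
    have e21 : σ a5 = gen 5 := by
      rw [ha5, map_mul, map_inv, map_mul, map_mul, ha1, ha2, hrelg 2 1 (by omega) (by omega)]
      simp [rep_init.2.1, TailCert.pw, mul_assoc]
    have e20 : σ a4 = gen 4 := by
      rw [ha4, map_mul, map_mul, map_mul, map_inv, map_inv, map_inv, map_mul, map_mul, ha0, ha2, e10, e21,
        hrelg 2 0 (by omega) (by omega)]
      simp [rep_init.2.2, TailCert.pw]; group
    have hAg : ∀ i < 6, σ (A i) = gen i := by
      intro i hi
      rcases (show i = 0 ∨ i = 1 ∨ i = 2 ∨ i = 3 ∨ i = 4 ∨ i = 5 by omega) with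
        rfl | rfl | rfl | rfl | rfl | rfl <;> simp [hA, ha0, ha1, ha2, e10, e20, e21]
    have hpwA : ∀ l : List ℕ, (∀ i ∈ l, i < 6) → σ (TailCert.pw A l) = TailCert.pw gen l := by
      intro l hl
      rw [TailCert.pw, TailCert.pw, map_list_prod, List.map_map]
      exact congrArg List.prod (List.map_congr_left fun i hi => hAg i (hl i hi))
    refine TailCert.not_stem_two_of_tails hσ h2 6 3 rhs pairX pairY init ders A ?_ ?_ ?_ ?_ ?_ ?_
      (by norm_num) check_tails
    · intro c d hc hd
      rw [map_mul, hAg c hc, hAg d (by omega), hpwA _ (rep_lt c d hc hd), hrelg c d hc hd]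
    · intro c d hc hd hbit
      have hcd : (c = 1 ∧ d = 0) ∨ (c = 2 ∧ d = 0) ∨ (c = 2 ∧ d = 1) := by
        have hall : ((List.range 6).all fun c => (List.range (c + 1)).all fun d =>
            !init.testBit (TailCert.tidx c d) ||
              (c == 1 && d == 0 || c == 2 && d == 0 || c == 2 && d == 1)) = true := by decide +kernel
        simp only [List.all_eq_true, List.mem_range, Bool.or_eq_true, Bool.not_eq_true',
          Bool.and_eq_true, beq_iff_eq] at hall
        have := hall c hc d (by omega)
        rw [hbit] at this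
        tauto
      rcases hcd with ⟨rfl, rfl⟩ | ⟨rfl, rfl⟩ | ⟨rfl, rfl⟩
      · simp [rep_init.1, TailCert.pw, hA, ha3]; group
      · simp [rep_init.2.2, TailCert.pw, hA, ha4]; group
      · simp [rep_init.2.1, TailCert.pw, hA, ha5]; group
    · intro d hd f hf x x' h c he
      subst he
      have := hpow d hd _ hf
      simp only [Bool.and_eq_true, decide_eq_true_eq] at this
      obtain ⟨⟨⟨hx, hx'⟩, hc⟩, heq⟩ := this
      have hcok : ok (conjs.getD c 0) = true := by
        rw [List.getD_eq_getElem?_getD, List.getElem?_eq_getElem hc, Option.getD_some]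
        exact hconjs _ (List.getElem_mem hc)
      obtain ⟨g, hg⟩ := hσ.1 (word ok_sound [conjs.getD c 0])
      refine ⟨g, ?_⟩
      rw [map_mul, map_mul, map_inv, hg, hpwA x hx, hpwA x' hx', pw_gen, pw_gen, mul_inv_eq_iff_eq_mul,
        ← word_append, ← word_append, List.singleton_append]
      exact (word_eq_iff ok_sound (fun e he => by
        rcases List.mem_cons.1 he with rfl | he
        · exact hcok
        · exact ok_map hx e he) (fun e he => by
        rcases List.mem_append.1 he with he | he
        · exact ok_map hx' e he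
        · exact List.mem_singleton.1 he ▸ hcok)).2 heq
    · intro e he h1
      have hl : ∀ i ∈ TailCert.letters 6 e, i < 6 := fun i hi => List.mem_range.1 (List.mem_filter.1 hi).1
      rw [hpwA _ hl, pw_gen, ← word_nil ok_sound, word_eq_iff ok_sound (ok_map hl) (by simp)] at h1
      have := hinj e (by simpa using he)
      simpa [h1] using this
    · have hcard := natCard_closure_of_groupOK check_group_two
      have hset : Set.range (fun i : Fin 6 => σ (A i)) = {x | ∃ g ∈ pcGens, word ok_sound [g] = x} := by
        ext x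
        constructor
        · rintro ⟨i, rfl⟩
          refine ⟨code i, ?_, ?_⟩
          · have : ∀ i : Fin 6, code i ∈ pcGens := by decide
            exact this i
          · show word ok_sound [code i] = σ (A i)
            rw [hAg i i.2, gen]
        · rintro ⟨g, hg, rfl⟩
          have : ∀ g ∈ pcGens, ∃ i : Fin 6, code i = g := by decide
          obtain ⟨i, rfl⟩ := this g hg
          exact ⟨i, hAg i i.2⟩
      rw [hset]
      intro hd
      have hmul := (Subgroup.closure {x | ∃ g ∈ pcGens, word ok_sound [g] = x}).card_mul_index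
      rw [hcard, natCard_m12, show twoElems.length = 64 from rfl] at hmul
      omega
    · have hX : σ a = σ (TailCert.pw A pairX) := by rw [ha, hpwA _ (by decide), pairx]
      have hY : σ b = σ (TailCert.pw A pairY) := by rw [hb, hpwA _ (by decide), pairy]
      rw [← commutatorElement_eq_one_iff_mul_comm, ← commutator_congr hσ.2.1 hX hY,
        commutatorElement_eq_one_iff_mul_comm]
      exact hab
  by_cases h3 : p = 3
  · exact MathieuCert.not_stem_three_of_check ok_sound false _ _ _ _ 3520
      (by rw [natCard_m12]; decide +kernel) (by norm_num) check_three σ hσ (by rw [← hpdef, h3])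
  rw [← hpdef] at hprime
  refine Multiplier.not_stem_of_not_sq_dvd hσ hprime ?_ hpdef.symm
  rw [natCard_m12]
  intro hd
  have hp : p ∣ 95040 := (dvd_pow_self p two_ne_zero).trans hd
  have hle : p ∈ Nat.primeFactors 95040 := Nat.mem_primeFactors.2 ⟨hprime, hp, by norm_num⟩
  have hpf : Nat.primeFactors 95040 = {2, 3, 5, 11} := by
    rw [show 95040 = 2 ^ 6 * (3 ^ 3 * (5 * 11)) by norm_num, Nat.primeFactors_mul (by norm_num) (by norm_num),
      Nat.primeFactors_prime_pow (by norm_num) Nat.prime_two,
      Nat.primeFactors_mul (by norm_num) (by norm_num),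
      Nat.primeFactors_prime_pow (by norm_num) Nat.prime_three,
      Nat.primeFactors_mul (by norm_num) (by norm_num), Nat.Prime.primeFactors (by norm_num),
      Nat.Prime.primeFactors (by norm_num)]
    rfl
  rw [hpf] at hle
  simp only [Finset.mem_insert, Finset.mem_singleton] at hle
  rcases hle with rfl | rfl | rfl | rfl
  exacts [h2 rfl, h3 rfl, by norm_num at hd, by norm_num at hd]

end Cfsg.Agent.Multiplier.M12Cert
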