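import Cfsg.Agent.Lib.Multiplier.M12Bound

/-!
# The double cover of M12

The signed permutations of the twelve coordinates that preserve the signed supports of the weight 6
words of the ternary code, paired with their action on the dodecad.

* `exists_double_cover`: a stem extension of M12 with kernel of order 2.
-/

set_option autoImplicit false
open Cfsg MulAction
open scoped Pointwise commutatorElement
set_option maxRecDepth 8000

namespace Cfsg.Agent.Multiplier.M12Cert

-- the certificate literals are only unfolded by the kernel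
attribute [local irreducible] M12Data.hexWords M12Data.neg M12Data.lifts M12Data.links

open Cfsg.Agent.Golay MathieuCert M12Data

/-- The point of the dodecad under a signed coordinate. -/
def projIdx (i : ℕ) : ℕ := dodPts.getD (i / 2) 0

/-- The point of the dodecad under a signed coordinate. -/
def proj (p : GolayPt) : GolayPt := pt (projIdx (idx p))

/-- The signed hexads. -/
def hexSets : Finset (Finset GolayPt) := (hexWords.map pts).toFinset

theorem projIdx_lt : ∀ i < 24, projIdx i < 24 := by decide +kernel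

theorem projIdx_eq : ∀ i < 24, ∀ j < 24, projIdx i = projIdx j → i / 2 = j / 2 := by decide +kernel

theorem idx_div_of_proj {p q : GolayPt} (h : proj p = proj q) : idx p / 2 = idx q / 2 := by
  have h' := congrArg idx h
  rw [proj, proj, idx_pt (projIdx_lt _ (idx_lt p)), idx_pt (projIdx_lt _ (idx_lt q))] at h'
  exact projIdx_eq _ (idx_lt p) _ (idx_lt q) h'

/-- The covering group. -/
def cov : Subgroup (Equiv.Perm GolayPt × ↥Cfsg.Spor.M12) where
  carrier := {x | x.1 • hexSets = hexSets ∧ ∀ p, proj (x.1 p) = (x.2 : Equiv.Perm GolayPt) (proj p)}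
  one_mem' := ⟨one_smul _ _, fun _ => rfl⟩
  mul_mem' := fun {a b} ha hb => ⟨by rw [Prod.fst_mul, mul_smul, hb.1, ha.1], fun p => by
    rw [Prod.fst_mul, Prod.snd_mul, Equiv.Perm.mul_apply, Subgroup.coe_mul, Equiv.Perm.mul_apply, ha.2, hb.2]⟩
  inv_mem' := fun {a} ha => ⟨by rw [Prod.fst_inv, inv_smul_eq_iff, ha.1], fun p => by
    rw [Prod.fst_inv, Prod.snd_inv, Subgroup.coe_inv]
    have h := ha.2 (a.1⁻¹ p)
    rw [Equiv.Perm.inv_def, Equiv.apply_symm_apply] at h
    rw [h, Equiv.Perm.inv_def, Equiv.Perm.inv_def, Equiv.symm_apply_apply]⟩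

/-- The projection to M12. -/
def covMap : ↥cov →* ↥Cfsg.Spor.M12 := (MonoidHom.snd _ _).comp cov.subtype

/-- A lift is correct. -/
def liftOK (q : ℕ × ℕ) : Bool :=
  validPerm q.1 && ok q.2 && (hexWords.all fun r => hexWords.contains (imgMask q.1 r)) &&
    (List.range 24).all fun i => projIdx (fn q.1 i) == fn q.2 (projIdx i)

theorem check_lifts : validPerm neg = true ∧
    M12Data.lifts.all liftOK = true := by decide +kernel

theorem smul_hexSets {d : ℕ} (hd : validPerm d = true)
    (h : ∀ r ∈ hexWords, imgMask d r ∈ hexWords) : toPerm d • hexSets = hexSets := by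
  refine Finset.eq_of_subset_of_card_le ?_ (by rw [Finset.card_smul_finset])
  intro x hx
  obtain ⟨y, hy, rfl⟩ := Finset.mem_smul_finset.1 hx
  rw [hexSets, List.mem_toFinset, List.mem_map] at hy ⊢
  obtain ⟨r, hr, rfl⟩ := hy
  exact ⟨_, h r hr, pts_imgMask hd r⟩

theorem mem_cov_of_liftOK {q : ℕ × ℕ} (h : liftOK q = true) :
    (toPerm q.1, word ok_sound [q.2]) ∈ cov := by
  simp only [liftOK, Bool.and_eq_true, List.all_eq_true, List.contains_iff_mem, List.mem_range,
    beq_iff_eq] at h
  obtain ⟨⟨⟨hv, hok⟩, hhex⟩, hproj⟩ := h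
  refine ⟨smul_hexSets hv hhex, fun p => idx_injective ?_⟩
  show idx (proj (toPerm q.1 p)) = idx ((word ok_sound [q.2] : Equiv.Perm GolayPt) (proj p))
  rw [idx_word ok_sound (by simpa using hok)]
  show idx (pt (projIdx (idx (toPerm q.1 p)))) = fn q.2 (idx (pt (projIdx (idx p))))
  rw [idx_pt (projIdx_lt _ (idx_lt _)), idx_pt (projIdx_lt _ (idx_lt _)), idx_toPerm hv,
    hproj _ (idx_lt p)]

theorem neg_check : (validPerm neg && (hexWords.all fun r => hexWords.contains (imgMask neg r)) &&
    (List.range 24).all fun i => fn neg i == i ^^^ 1) = true := by decide +kernel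

theorem neg_valid : validPerm neg = true := by
  have h := neg_check
  simp only [Bool.and_eq_true] at h
  exact h.1.1

theorem idx_neg (p : GolayPt) : idx (toPerm neg p) = idx p ^^^ 1 := by
  have h := neg_check
  simp only [Bool.and_eq_true, List.all_eq_true, List.mem_range, beq_iff_eq] at h
  rw [idx_toPerm neg_valid, h.2 _ (idx_lt p)]

theorem flip_div : ∀ i < 24, (i ^^^ 1) / 2 = i / 2 ∧ i ^^^ 1 ≠ i ∧ i ^^^ 1 ^^^ 1 = i := by decide +kernel

theorem pair_cases : ∀ i < 24, ∀ j < 24, i / 2 = j / 2 → j = i ∨ j = i ^^^ 1 := by decide +kernel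

theorem neg_mem : (toPerm neg, (1 : ↥Cfsg.Spor.M12)) ∈ cov := by
  have h := neg_check
  simp only [Bool.and_eq_true, List.all_eq_true, List.contains_iff_mem] at h
  have hs : toPerm neg • hexSets = hexSets := smul_hexSets neg_valid fun r hr => h.1.2 r hr
  refine ⟨hs, fun p => ?_⟩
  show pt (projIdx (idx (toPerm neg p))) = pt (projIdx (idx p))
  rw [idx_neg, projIdx, projIdx, (flip_div _ (idx_lt p)).1]

/-- The sign change as an element of the cover. -/
noncomputable def negC : ↥cov := ⟨_, neg_mem⟩

theorem fibre {p q : GolayPt} (h : proj p = proj q) : q = p ∨ q = toPerm neg p := by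
  rcases pair_cases _ (idx_lt p) _ (idx_lt q) (idx_div_of_proj h) with h' | h'
  · exact Or.inl (idx_injective h')
  · exact Or.inr (idx_injective (h'.trans (idx_neg p).symm))

theorem neg_ne (p : GolayPt) : toPerm neg p ≠ p := fun h => by
  have := congrArg idx h
  rw [idx_neg] at this
  exact (flip_div _ (idx_lt p)).2.1 this

theorem neg_neg' (p : GolayPt) : toPerm neg (toPerm neg p) = p :=
  idx_injective (by rw [idx_neg, idx_neg]; exact (flip_div _ (idx_lt p)).2.2)

theorem proj_neg (p : GolayPt) : proj (toPerm neg p) = proj p := by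
  show pt (projIdx (idx (toPerm neg p))) = pt (projIdx (idx p))
  rw [idx_neg, projIdx, projIdx, (flip_div _ (idx_lt p)).1]

theorem neg_central (x : ↥cov) : x * negC = negC * x := by
  refine Subtype.ext (Prod.ext ?_ (by simp [negC]))
  refine Equiv.ext fun p => ?_
  show x.1.1 (toPerm neg p) = toPerm neg (x.1.1 p)
  have h1 := x.2.2 (toPerm neg p)
  rw [proj_neg, ← x.2.2 p] at h1
  rcases fibre h1.symm with h | h
  · exact absurd (x.1.1.injective h) (neg_ne p)
  · exact h

/-- The linking words force a diagonal symmetry fixing the first coordinate to be trivial. -/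
def linksOK : Bool :=
  (List.range 11).all fun k =>
    let l := links.getD k (0, 0, 0)
    hexWords.contains l.1 && l.1.testBit l.2.1 && l.1.testBit l.2.2 && !l.1.testBit (l.2.2 ^^^ 1) &&
      l.2.1 == 2 * k && l.2.2 / 2 == k + 1 &&
      hexWords.all fun s => !s.testBit l.2.1 ||
        (s ||| imgMask neg s) != (l.1 ||| imgMask neg l.1) || s == l.1

theorem check_links : linksOK = true := by decide +kernel

theorem hexWords_lt : ∀ r ∈ hexWords, r < 2 ^ 24 := by
  have h : hexWords.all (fun r => decide (r < 2 ^ 24)) = true := by decide +kernel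
  exact fun r hr => of_decide_eq_true (List.all_eq_true.1 h r hr)

theorem diag_eq_one {m : Equiv.Perm GolayPt} (hH : m • hexSets = hexSets)
    (hdiag : ∀ p, proj (m p) = proj p) (h0 : m (pt 0) = pt 0) : m = 1 := by
  have hcases : ∀ p, m p = p ∨ m p = toPerm neg p := fun p => fibre (hdiag p).symm
  have hother : ∀ p, m p = p → m (toPerm neg p) = toPerm neg p := fun p hp => by
    rcases hcases (toPerm neg p) with h | h
    · exact h
    · rw [neg_neg'] at h
      exact absurd (m.injective (h.trans hp.symm)) (neg_ne p)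
  have hfixpair : ∀ k, (∃ i, i < 24 ∧ i / 2 = k ∧ m (pt i) = pt i) →
      ∀ j, j < 24 → j / 2 = k → m (pt j) = pt j := by
    rintro k ⟨i, hi, rfl, hfix⟩ j hj hjk
    rcases pair_cases i hi j hj hjk.symm with rfl | rfl
    · exact hfix
    · have hpt : pt (i ^^^ 1) = toPerm neg (pt i) :=
        idx_injective (by rw [idx_pt hj, idx_neg, idx_pt hi])
      rw [hpt]
      exact hother _ hfix
  have hall : ∀ k, k < 12 → ∀ j, j < 24 → j / 2 = k → m (pt j) = pt j := by
    intro k
    induction k with
    | zero => exact fun _ => hfixpair 0 ⟨0, by norm_num, rfl, h0⟩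
    | succ k ih =>
      intro hk
      have hl := check_links
      simp only [linksOK, List.all_eq_true, List.mem_range, Bool.and_eq_true, List.contains_iff_mem,
        Bool.not_eq_true', beq_iff_eq, Bool.or_eq_true, bne_iff_ne] at hl
      have hlk := hl k (by omega)
      generalize hL : links.getD k (0, 0, 0) = l at hlk
      obtain ⟨r, a, b⟩ := l
      dsimp only at hlk
      obtain ⟨⟨⟨⟨⟨⟨hr, hra⟩, hrb⟩, hrb'⟩, ha⟩, hb⟩, huniq⟩ := hlk
      refine hfixpair (k + 1) ⟨b, by omega, hb, ?_⟩
      have hb24 : b < 24 := by omega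
      have hfa : m (pt a) = pt a := ih (by omega) a (by omega) (by omega)
      -- the image of the linking word
      have hmem : m • pts r ∈ hexSets := by
        rw [← hH]
        exact Finset.smul_mem_smul_finset (by rw [hexSets, List.mem_toFinset]; exact List.mem_map_of_mem hr)
      rw [hexSets, List.mem_toFinset, List.mem_map] at hmem
      obtain ⟨s, hs, hse⟩ := hmem
      have hsa : s.testBit a = true := by
        have h1 : m (pt a) ∈ m • pts r :=
          Finset.mem_smul_finset.2 ⟨pt a, mem_pts.2 (by rwa [idx_pt (by omega)]), rfl⟩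
        rwa [← hse, hfa, mem_pts, idx_pt (by omega)] at h1
      have hsupp : pts (s ||| imgMask neg s) = pts (r ||| imgMask neg r) := by
        rw [pts_or, pts_or, pts_imgMask neg_valid, pts_imgMask neg_valid, hse]
        ext q
        simp only [Finset.mem_union, Finset.mem_smul_finset, Equiv.Perm.smul_def]
        constructor
        · rintro (⟨p, hp, rfl⟩ | ⟨u, ⟨p, hp, rfl⟩, rfl⟩)
          · rcases hcases p with h | h <;> rw [h]
            · exact Or.inl hp
            · exact Or.inr ⟨p, hp, rfl⟩
          · rcases hcases p with h | h <;> rw [h]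
            · exact Or.inr ⟨p, hp, rfl⟩
            · rw [neg_neg']; exact Or.inl hp
        · rintro (hp | ⟨p, hp, rfl⟩)
          · rcases hcases q with h | h
            · exact Or.inl ⟨q, hp, h⟩
            · exact Or.inr ⟨_, ⟨q, hp, rfl⟩, by rw [h, neg_neg']⟩
          · rcases hcases p with h | h
            · exact Or.inr ⟨_, ⟨p, hp, rfl⟩, by rw [h]⟩
            · exact Or.inl ⟨p, hp, h⟩
      have hlt : ∀ t ∈ hexWords, t ||| imgMask neg t < 2 ^ 24 := fun t ht =>
        Nat.or_lt_two_pow (hexWords_lt t ht) (imgMask_lt neg_valid t)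
      rcases huniq s hs with (h | h) | h
      · rw [hsa] at h; exact absurd h (by simp)
      · exact absurd (pts_injOn (hlt s hs) (hlt r hr) hsupp) h
      · subst h
        have h1 : m (pt b) ∈ pts s := by
          rw [hse]
          exact Finset.mem_smul_finset.2 ⟨pt b, mem_pts.2 (by rwa [idx_pt hb24]), rfl⟩
        rcases hcases (pt b) with h | h
        · exact h
        · rw [h, mem_pts, idx_neg, idx_pt hb24, hrb'] at h1
          exact absurd h1 (by simp)
  refine Equiv.ext fun p => ?_
  have hp := hall (idx p / 2) (by have := idx_lt p; omega) (idx p) (idx_lt p) rfl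
  rwa [pt_idx] at hp

theorem eq_one_or_neg {x : ↥cov} (hx : covMap x = 1) : x = 1 ∨ x = negC := by
  have hx2 : x.1.2 = 1 := hx
  have hdiag : ∀ p, proj (x.1.1 p) = proj p := fun p => by
    have := x.2.2 p
    rwa [hx2] at this
  rcases fibre (hdiag (pt 0)).symm with h | h
  · exact Or.inl (Subtype.ext (Prod.ext (diag_eq_one x.2.1 hdiag h) hx2))
  · refine Or.inr (Subtype.ext (Prod.ext ?_ hx2))
    have hmem : (toPerm neg * x.1.1, (1 : ↥Cfsg.Spor.M12) * x.1.2) ∈ cov := (negC * x).2
    have h1 : toPerm neg * x.1.1 = 1 := diag_eq_one (m := toPerm neg * x.1.1) hmem.1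
      (fun p => by rw [Equiv.Perm.mul_apply, proj_neg, hdiag]) (by rw [Equiv.Perm.mul_apply, h, neg_neg'])
    refine Equiv.ext fun p => ?_
    have h2 : toPerm neg (x.1.1 p) = p := DFunLike.congr_fun h1 p
    show x.1.1 p = toPerm neg p
    conv_rhs => rw [← h2, neg_neg']

theorem covMap_surjective : Function.Surjective covMap := by
  have hmem : ∀ q ∈ M12Data.lifts, word ok_sound [q.2] ∈ covMap.range := fun q hq =>
    ⟨⟨_, mem_cov_of_liftOK (List.all_eq_true.1 check_lifts.2 q hq)⟩, rfl⟩
  have hin : ∀ gens : List ℕ, (gens.all fun g => M12Data.lifts.any fun q => q.2 == g) = true →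
      Subgroup.closure {x | ∃ g ∈ gens, word ok_sound [g] = x} ≤ covMap.range := by
    intro gens h
    rw [Subgroup.closure_le]
    rintro x ⟨g, hg, rfl⟩
    simp only [List.all_eq_true, List.any_eq_true, beq_iff_eq] at h
    obtain ⟨q, hq, rfl⟩ := h g hg
    exact hmem q hq
  have hord : ∀ (g p : ℕ), p.Prime → (ok g && (List.range 24).all (fun i => app (List.replicate p g) i == i) &&
      !eqW [g] [] && M12Data.lifts.any (fun q => q.2 == g)) = true → p ∣ Nat.card covMap.range := by
    intro g p hp h
    simp only [Bool.and_eq_true, Bool.not_eq_true', List.any_eq_true, beq_iff_eq] at h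
    obtain ⟨⟨⟨hok, hpow⟩, hne⟩, q, hq, rfl⟩ := h
    have h1 : word ok_sound [q.2] ^ p = 1 := by
      have e : ∀ n, word ok_sound (List.replicate n q.2) = word ok_sound [q.2] ^ n := by
        intro n
        induction n with
        | zero => rw [List.replicate_zero, word_nil, pow_zero]
        | succ n ih => rw [List.replicate_succ, word_cons, ih, pow_succ', word_single]
      rw [← e, ← word_nil ok_sound, word_eq_iff ok_sound (fun d hd => (List.eq_of_mem_replicate hd) ▸ hok)
        (by simp)]
      exact hpow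
    have := Fact.mk hp
    have h2 : orderOf (word ok_sound [q.2]) = p := orderOf_eq_prime h1 (fun h3 => by
      rw [← word_nil ok_sound, word_eq_iff ok_sound (by simpa using hok) (by simp), hne] at h3
      simp at h3)
    rw [← h2]
    exact Subgroup.orderOf_dvd_natCard _ (hmem q hq)
  have h64 : 64 ∣ Nat.card covMap.range := by
    have := Subgroup.card_dvd_of_le (hin pcGens (by decide +kernel))
    rwa [natCard_closure_of_groupOK check_group_two] at this
  have h27 : 27 ∣ Nat.card covMap.range := by
    have hg : groupOK [three.1, three.2.1] threeElems = true := by decide +kernel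
    have := Subgroup.card_dvd_of_le (hin [three.1, three.2.1] (by decide +kernel))
    rwa [natCard_closure_of_groupOK hg] at this
  have h5 := hord five 5 (by norm_num) (by decide +kernel)
  have h11 := hord eleven 11 (by norm_num) (by decide +kernel)
  have hall : 95040 ∣ Nat.card covMap.range := by
    have a := Nat.Coprime.mul_dvd_of_dvd_of_dvd (by norm_num : Nat.Coprime 64 27) h64 h27
    have b := Nat.Coprime.mul_dvd_of_dvd_of_dvd (by norm_num : Nat.Coprime 5 11) h5 h11
    exact Nat.Coprime.mul_dvd_of_dvd_of_dvd (by norm_num : Nat.Coprime (64 * 27) (5 * 11)) a b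
  rw [← MonoidHom.range_eq_top]
  refine Subgroup.eq_top_of_le_card _ ?_
  rw [natCard_m12]
  exact Nat.le_of_dvd Nat.card_pos hall

/-- A lift as an element of the cover. -/
noncomputable def liftQ (q : ℕ × ℕ) (h : liftOK q = true) : ↥cov :=
  ⟨(toPerm q.1, word ok_sound [q.2]), mem_cov_of_liftOK h⟩

theorem negC_mem_of_lifts (q1 q2 q3 q4 : ℕ × ℕ)
    (h : (liftOK q1 && liftOK q2 && liftOK q3 && liftOK q4 &&
      eqW [q2.1, q1.1, q3.1, q4.1] [neg, q1.1, q3.1, q4.1, q2.1] &&
      eqW [q2.2, q1.2, q3.2, q4.2] [q1.2, q3.2, q4.2, q2.2]) = true) : negC ∈ commutator ↥cov := by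
  simp only [Bool.and_eq_true] at h
  obtain ⟨⟨⟨⟨⟨l1, l2⟩, l3⟩, l4⟩, e1⟩, e2⟩ := h
  have hvo : ∀ q : ℕ × ℕ, liftOK q = true → validPerm q.1 = true ∧ ok q.2 = true := fun q hq => by
    simp only [liftOK, Bool.and_eq_true] at hq
    exact ⟨hq.1.1.1, hq.1.1.2⟩
  obtain ⟨v1, o1⟩ := hvo q1 l1
  obtain ⟨v2, o2⟩ := hvo q2 l2
  obtain ⟨v3, o3⟩ := hvo q3 l3
  obtain ⟨v4, o4⟩ := hvo q4 l4
  have v5 := neg_valid
  have hv : ∀ d, validPerm d = true → validPerm d = true ∧ toPerm d ∈ (⊤ : Subgroup (Equiv.Perm GolayPt)) :=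
    fun d h => ⟨h, trivial⟩
  obtain ⟨X, hX⟩ : ∃ X, X = liftQ q2 l2 := ⟨_, rfl⟩
  obtain ⟨Y, hY⟩ : ∃ Y, Y = liftQ q1 l1 * liftQ q3 l3 * liftQ q4 l4 := ⟨_, rfl⟩
  have hfst : (X * Y).1.1 = (negC * (Y * X)).1.1 := by
    have h := (word_eq_iff hv (by simp [v1, v2, v3, v4]) (by simp [v1, v2, v3, v4, v5])).2 e1
    simp only [word_cons, word_nil, mul_one] at h
    have h' := congrArg Subtype.val h
    simp only [Subgroup.coe_mul, el, dif_pos, v1, v2, v3, v4, v5] at h'
    rw [hX, hY]
    show toPerm q2.1 * (toPerm q1.1 * toPerm q3.1 * toPerm q4.1) =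
      toPerm neg * (toPerm q1.1 * toPerm q3.1 * toPerm q4.1 * toPerm q2.1)
    simp only [mul_assoc]
    exact h'
  have hsnd : (X * Y).1.2 = (negC * (Y * X)).1.2 := by
    have h := (word_eq_iff ok_sound (l := [q2.2, q1.2, q3.2, q4.2]) (r := [q1.2, q3.2, q4.2, q2.2])
      (by simp [o1, o2, o3, o4]) (by simp [o1, o2, o3, o4])).2 e2
    simp only [word_cons, word_nil, mul_one] at h
    rw [hX, hY]
    show word ok_sound [q2.2] * (word ok_sound [q1.2] * word ok_sound [q3.2] * word ok_sound [q4.2]) =
      1 * (word ok_sound [q1.2] * word ok_sound [q3.2] * word ok_sound [q4.2] * word ok_sound [q2.2])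
    simp only [word_single, one_mul, mul_assoc]
    exact h
  have hrel : X * Y = negC * (Y * X) := Subtype.ext (Prod.ext hfst hsnd)
  have : negC = ⁅X, Y⁆ := by
    rw [commutatorElement_def, hrel]
    group
  rw [this, commutator_def]
  exact Subgroup.commutator_mem_commutator (Subgroup.mem_top _) (Subgroup.mem_top _)

theorem negC_mem_commutator : negC ∈ commutator ↥cov :=
  negC_mem_of_lifts (M12Data.lifts.getD 1 (0, 0)) (M12Data.lifts.getD 2 (0, 0))
    (M12Data.lifts.getD 3 (0, 0)) (M12Data.lifts.getD 4 (0, 0)) (by decide +kernel)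

/-- The double cover of M12. -/
theorem exists_double_cover : ∃ (Γ : Type) (_ : Group Γ) (_ : Finite Γ) (σ : Γ →* ↥Cfsg.Spor.M12),
    Cfsg.IsStemExtension σ ∧ Nat.card σ.ker = 2 := by
  refine ⟨↥cov, inferInstance, inferInstance, covMap, ⟨covMap_surjective, fun x hx => ?_, fun x hx => ?_⟩, ?_⟩
  · rcases eq_one_or_neg (MonoidHom.mem_ker.1 hx) with rfl | rfl
    · exact one_mem _
    · exact Subgroup.mem_center_iff.2 neg_central
  · rcases eq_one_or_neg (MonoidHom.mem_ker.1 hx) with rfl | rfl
    · exact one_mem _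
    · exact negC_mem_commutator
  · rw [Nat.card_eq_two_iff]
    refine ⟨1, ⟨negC, rfl⟩, fun h => ?_, Set.eq_univ_of_forall fun x => ?_⟩
    · have h1 := congrArg (fun z : covMap.ker => z.1.1.1 (pt 0)) h
      exact neg_ne (pt 0) h1.symm
    · rcases eq_one_or_neg (MonoidHom.mem_ker.1 x.2) with h | h
      · exact Or.inl (Subtype.ext h)
      · exact Or.inr (Subtype.ext h)

end Cfsg.Agent.Multiplier.M12Cert
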