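import Cfsg.Agent.Lib.Multiplier.MathieuCert

/-!
# Certificate data for the multiplier of M23
-/

set_option autoImplicit false

namespace Cfsg.Agent.Multiplier.M23Data

/-- The certificate for the 2-part. -/
def cert : MathieuCert.Cert where
  v₀ := 0xb9e086be3593a6952d94b10a618820
  a := 0xbda6aaacb048da8951ec31e2470820
  b := 0xbb6a83aa305bac97c9949986428801
  c := []
  u := 0xbc12ba18ad946c79b11553dc418820
  ra := 0xbc1669262dabaca79e74620a418041
  rb := 0xbc1669262dabaca79e74620a418041
  rc := 0xbc12ba18ad946c79b11553dc418820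
  x := 0xb9e086be3593a6952d94b10a618820
  y := 0xb99b28523343aaa4b16f258a718820
  w := 0xbc92655a2c3b9706cea47d0a818820
  conj := [0xbdab49ca307b9ac5a928398a418820,
    0xbd136819d37c56a6b2a83c8a410c20,
    0xbbd949a5c7b451559a4d8284419420,
    0xbc2954c9d6345ac41e6b53ca418440,
    0xbb4cb9a5d0446caa324f3d4a418801,
    0xbae4d8563343a8cb28cf3a4a410c01,
    0xba14b9ca276b9e6a55368304419401,
    0xbc1669262dabaca79e74620a418041,
    0xbb5e84ce365ba07ab246550a418402,
    0xbd90f94dcda46073293562ca418022,
    0xbbd366ae32a38ca81d1564ca400c22,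
    0xba9079ca2b638cf85935a3424180a2,
    0xbbeb45b5c6b464c99d09540a400823,
    0xbd9945a22a7b9359c1b231c4401423,
    0xb9a954362f83a4c4a9733d8a400443,
    0xb99335960f8da4ca29153b9a300824,
    0xbcaaba46c6735ea99d286160300824,
    0xba0eb934d3b554928d8fa01c180891]
  elems := [[],
    [0xbda6aaacb048da8951ec31e2470820],
    [0xbb6a83aa305bac97c9949986428801],
    [0xbda6aaacb048da8951ec31e2470820,0xbb6a83aa305bac97c9949986428801],
    [0xbb6a83aa305bac97c9949986428801,0xbda6aaacb048da8951ec31e2470820],
    [0xbda6aaacb048da8951ec31e2470820,0xbb6a83aa305bac97c9949986428801,0xbda6aaacb048da8951ec31e2470820],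
    [0xbb6a83aa305bac97c9949986428801,0xbda6aaacb048da8951ec31e2470820,0xbb6a83aa305bac97c9949986428801],
    [0xbda6aaacb048da8951ec31e2470820,0xbb6a83aa305bac97c9949986428801,0xbda6aaacb048da8951ec31e2470820,0xbb6a83aa305bac97c9949986428801]]
  order := 10200960

/-- The generators of the Sylow 3-subgroup and the inverting element. -/
def three : ℕ × ℕ × ℕ := (0xbc12ba18ad946c79b11553dc418820, 0xba176699d59152c82a743be2408c40, 0xbcd0d816548bd6ab1ea9638c010c24)

/-- The elements of the Sylow 3-subgroup. -/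
def threeElems : List (List ℕ) := [[],
    [0xbc12ba18ad946c79b11553dc418820],
    [0xba176699d59152c82a743be2408c40],
    [0xbc12ba18ad946c79b11553dc418820,0xbc12ba18ad946c79b11553dc418820],
    [0xbc12ba18ad946c79b11553dc418820,0xba176699d59152c82a743be2408c40],
    [0xba176699d59152c82a743be2408c40,0xba176699d59152c82a743be2408c40],
    [0xbc12ba18ad946c79b11553dc418820,0xbc12ba18ad946c79b11553dc418820,0xba176699d59152c82a743be2408c40],
    [0xbc12ba18ad946c79b11553dc418820,0xba176699d59152c82a743be2408c40,0xba176699d59152c82a743be2408c40],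
    [0xbc12ba18ad946c79b11553dc418820,0xbc12ba18ad946c79b11553dc418820,0xba176699d59152c82a743be2408c40,0xba176699d59152c82a743be2408c40]]

end Cfsg.Agent.Multiplier.M23Data
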