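import Cfsg.Agent.Lib.Multiplier.O8Checks
import Cfsg.Agent.Lib.Multiplier.OddPart

/-!
# Upper bound for the multiplier of O8+(2)

* `not_commute_lifts`: in a stem extension with kernel of prime order, one of two commuting pairs of
  root elements has non-commuting lifts.
-/

set_option autoImplicit false

open scoped commutatorElement

namespace Cfsg.Agent.Multiplier.O8

open O8Data Cfsg.Agent.BitMat

/-- A polycyclic generator. -/
noncomputable def pc (i : ℕ) : G0 := el (code i)

theorem rho_pc {i : ℕ} (hi : i < 12) : rho (pc i) = toMat e8 (pcCol i) := by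
  have h := List.all_eq_true.1 check_pc i (List.mem_range.2 hi)
  rw [beq_iff_eq] at h
  rw [pc, rho_el, h]

theorem pcCol_length {i : ℕ} (hi : i < 12) : (pcCol i).length = 8 := by
  have h := List.all_eq_true.1 check_pc i (List.mem_range.2 hi)
  rw [beq_iff_eq] at h
  rw [← h, length_cw]

theorem pw_pc (l : List ℕ) : TailCert.pw pc l = el (flat l) := by
  rw [flat, el_flatten, List.map_map]; rfl

theorem rep_lt {a b : ℕ} (ha : a < 12) (hb : b ≤ a) : ∀ i ∈ TailCert.rep 12 rhs a b, i < 12 := by
  intro i hi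
  rw [TailCert.rep] at hi
  split at hi
  · exact List.mem_range.1 (List.mem_filter.1 hi).1
  · rcases List.mem_cons.1 hi with rfl | hi
    · omega
    rcases List.mem_cons.1 hi with rfl | hi
    · exact ha
    · exact List.mem_range.1 (List.mem_filter.1 hi).1

theorem pc_rel (a b : ℕ) (ha : a < 12) (hb : b ≤ a) :
    pc a * pc b = TailCert.pw pc (TailCert.rep 12 rhs a b) := by
  have h := check_rel
  simp only [List.all_eq_true, List.mem_range, same, beq_iff_eq] at h
  rw [pw_pc, pc, pc, ← el_append]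
  exact el_eq (h a ha b (by omega))

theorem subCols_spec : ∀ (L l : List ℕ), (∀ i ∈ L, i < 12) → l.Sublist L → l ≠ [] →
    ∃ C ∈ subCols L, C.length = 8 ∧ rho (TailCert.pw pc l) = toMat e8 C
  | [], l, _, hl, hne => absurd (List.sublist_nil.1 hl) hne
  | a :: L, l, hL, hl, hne => by
    have hL' : ∀ i ∈ L, i < 12 := fun i hi => hL i (List.mem_cons_of_mem _ hi)
    rcases List.sublist_cons_iff.1 hl with hl | ⟨r, rfl, hr⟩
    · obtain ⟨C, hC, h⟩ := subCols_spec L l hL' hl hne
      exact ⟨C, List.mem_append_left _ hC, h⟩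
    · have ha := hL a List.mem_cons_self
      by_cases hr0 : r = []
      · subst hr0
        exact ⟨pcCol a, List.mem_append_right _ List.mem_cons_self, pcCol_length ha, by
          rw [TailCert.pw_cons, show TailCert.pw pc [] = 1 from rfl, mul_one, rho_pc ha]⟩
      · obtain ⟨C, hC, hlen, h⟩ := subCols_spec L r hL' hr hr0
        refine ⟨mulB (pcCol a) C, List.mem_append_right _ (List.mem_cons_of_mem _
          (List.mem_map_of_mem hC)), by rw [length_mulB, hlen], ?_⟩
        rw [TailCert.pw_cons, map_mul, h, rho_pc ha, toMat_mulB e8 (pcCol_length ha) hlen]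

theorem pc_injective (l : List ℕ) (hl : l.Sublist (List.range 12)) (h : TailCert.pw pc l = 1) : l = [] := by
  by_contra hne
  obtain ⟨C, hC, -, hrho⟩ := subCols_spec _ l (fun i hi => List.mem_range.1 hi) hl hne
  have h1 := List.all_eq_true.1 check_sub C hC
  rw [isId_of_el_eq (by rw [← hrho, h, map_one])] at h1
  simp at h1

theorem rhs_above : ∀ a b, a < 12 → b ≤ a → ∀ i ∈ TailCert.letters 12 (rhs.getD (TailCert.tidx a b) 0), a < i := by
  intro a b ha hb
  have h := check_tails
  rw [TailCert.allTails] at h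
  split at h
  · simp at h
  · simp only [Bool.and_eq_true, List.all_eq_true, List.mem_range, decide_eq_true_eq] at h
    exact (h a ha b (by omega)).2

theorem two_index : ¬ 2 ∣ (Subgroup.closure (Set.range fun i : Fin 12 => pc i)).index := by
  have hset : (Set.range fun i : Fin 12 => pc i) = pc '' {i | 0 ≤ i ∧ i < 12} := by
    ext x
    constructor
    · rintro ⟨i, rfl⟩; exact ⟨i, ⟨Nat.zero_le _, i.2⟩, rfl⟩
    · rintro ⟨i, ⟨-, hi⟩, rfl⟩; exact ⟨⟨i, hi⟩, rfl⟩
  have hmul := (Subgroup.closure (pc '' {i | 0 ≤ i ∧ i < 12})).card_mul_index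
  rw [TailCert.card_of_rel pc_rel rhs_above pc_injective 12 0 rfl, natCard_g0] at hmul
  rw [hset]
  omega

theorem card_of_table {gw : List (List ℕ)} {tbl : List (List ℕ)} {nx : ℕ → ℕ → ℕ} {par : ℕ → ℕ × ℕ}
    {n : ℕ} (h : tblOK ((List.range n).map fun k => cw (gw.getD k [])) tbl nx par = true) :
    Nat.card (Subgroup.closure {x : G0 | ∃ k < n, el (gw.getD k []) = x}) = tbl.length := by
  classical
  simp only [tblOK, Bool.and_eq_true, List.all_eq_true, List.mem_range, decide_eq_true_eq, beq_iff_eq,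
    Bool.or_eq_true, List.length_map, List.length_range] at h
  obtain ⟨⟨⟨⟨⟨hpos, hone⟩, hnodup⟩, hcan⟩, hclosed⟩, hpar⟩ := h
  obtain ⟨P, hP⟩ : ∃ P, P = Subgroup.closure {x : G0 | ∃ k < n, el (gw.getD k []) = x} := ⟨_, rfl⟩
  have hlen : ∀ e < tbl.length, (tbl.getD e []).length = 8 ∧ ∀ c ∈ tbl.getD e [], c < 256 := fun e he => by
    rw [List.getD_eq_getElem _ _ he]
    exact hcan _ (List.getElem_mem _)
  have hgc : ∀ k < n, ((List.range n).map fun k => cw (gw.getD k [])).getD k [] = cw (gw.getD k []) :=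
    fun k hk => by rw [List.getD_eq_getElem _ _ (by simpa using hk)]; simp
  have hreach : ∀ e < tbl.length, ∃ x ∈ P, rho x = toMat e8 (tbl.getD e []) := by
    intro e
    induction e using Nat.strongRecOn with
    | _ e ih =>
      intro he
      rcases hpar e he with h0 | ⟨⟨hp1, hp2⟩, hp3⟩
      · subst h0
        refine ⟨1, one_mem P, ?_⟩
        rw [map_one]
        refine (toMat_idB e8).symm.trans (congrArg _ ?_)
        have h8 := hlen 0 hpos
        refine List.ext_getElem (by rw [length_idB, h8.1]) fun j hj hj' => ?_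
        rw [length_idB] at hj
        simp only [isId, List.all_eq_true, List.mem_range, beq_iff_eq] at hone
        apply Nat.eq_of_testBit_eq
        intro i
        simp only [idB, List.getElem_map, List.getElem_range, Nat.testBit_two_pow]
        by_cases hi : i < 8
        · have h1 := hone j hj i hi
          rw [List.getD_eq_getElem (l := tbl.getD 0 []) 0 (by rw [h8.1]; exact hj)] at h1
          rw [h1]
          exact decide_eq_decide.2 eq_comm
        · rw [Nat.testBit_eq_false_of_lt ((h8.2 _ (List.getElem_mem _)).trans_le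
            (by calc (256 : ℕ) = 2 ^ 8 := by norm_num
                  _ ≤ 2 ^ i := Nat.pow_le_pow_right (by norm_num) (by omega)))]
          simp
          omega
      · obtain ⟨x, hx, hxe⟩ := ih _ hp1 (by omega)
        refine ⟨x * el (gw.getD (par e).2 []), mul_mem hx (hP ▸ Subgroup.subset_closure ⟨_, hp2, rfl⟩), ?_⟩
        have h1 := (hclosed (par e).1 (by omega) (par e).2 hp2).2
        rw [hp3, hgc _ hp2] at h1
        rw [h1, map_mul, hxe, rho_el, toMat_mulB e8 (hlen _ (by omega)).1 (length_cw _)]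
  have hinj : ∀ i < tbl.length, ∀ j < tbl.length, toMat e8 (tbl.getD i []) = toMat e8 (tbl.getD j []) → i = j := by
    intro i hi j hj hij
    have hL : tbl.getD i [] = tbl.getD j [] := by
      obtain ⟨hli, hbi⟩ := hlen i hi
      obtain ⟨hlj, hbj⟩ := hlen j hj
      refine List.ext_getElem (by rw [hli, hlj]) fun r hr hr' => Nat.eq_of_testBit_eq fun s => ?_
      by_cases hs : s < 8
      · have h1 := congrFun (congrFun hij (e8.symm ⟨s, hs⟩)) (e8.symm ⟨r, hli ▸ hr⟩)
        simp only [toMat, Equiv.apply_symm_apply, bitVal, List.getD_eq_getElem _ _ hr,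
          List.getD_eq_getElem _ _ hr'] at h1
        revert h1
        cases (tbl.getD i [])[r].testBit s <;> cases (tbl.getD j [])[r].testBit s <;> simp
      · have h256 : (256 : ℕ) ≤ 2 ^ s := by
          calc (256 : ℕ) = 2 ^ 8 := by norm_num
            _ ≤ 2 ^ s := Nat.pow_le_pow_right (by norm_num) (by omega)
        rw [Nat.testBit_eq_false_of_lt ((hbi _ (List.getElem_mem _)).trans_le h256),
          Nat.testBit_eq_false_of_lt ((hbj _ (List.getElem_mem _)).trans_le h256)]
    have hnd : ∀ L : List ℕ, nodupB L = true → L.Nodup := by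
      intro L
      induction L with
      | nil => intro _; exact List.nodup_nil
      | cons a L ih =>
        intro h
        simp only [nodupB, Bool.and_eq_true, List.all_eq_true, bne_iff_ne] at h
        exact List.nodup_cons.2 ⟨fun hm => h.1 a hm rfl, ih h.2⟩
    have hk := hnd _ hnodup
    refine (List.Nodup.getElem_inj_iff hk (hi := by simpa using hi) (hj := by simpa using hj)).1 ?_
    simp only [List.getElem_map]
    rw [← List.getD_eq_getElem _ [] hi, ← List.getD_eq_getElem _ [] hj, hL]
  choose f hfP hf using hreach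
  let F : Fin tbl.length → P := fun i => ⟨f i i.2, hfP i i.2⟩
  have hFi : Function.Injective F := fun i j hij => Fin.ext (hinj i i.2 j j.2 (by
    rw [← hf i i.2, ← hf j j.2, show f i i.2 = f j j.2 from congrArg Subtype.val hij]))
  have hFs : Function.Surjective F := by
    rintro ⟨x, hx⟩
    suffices H : ∃ e, ∃ he : e < tbl.length, f e he = x by
      obtain ⟨e, he, rfl⟩ := H
      exact ⟨⟨e, he⟩, rfl⟩
    rw [hP, ← Subgroup.mem_toSubmonoid, Subgroup.closure_toSubmonoid_of_finite] at hx
    induction hx using Submonoid.closure_induction_right with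
    | one =>
      refine ⟨0, hpos, rho_injective ?_⟩
      rw [hf, map_one]
      ext i j
      simp only [isId, List.all_eq_true, List.mem_range, beq_iff_eq] at hone
      rw [toMat, bitVal, hone _ (e8 j).2 _ (e8 i).2, Matrix.one_apply]
      simp [← Fin.ext_iff]
    | mul_right x _ y hy ih =>
      obtain ⟨e, he, rfl⟩ := ih
      obtain ⟨k, hk, rfl⟩ := hy
      obtain ⟨h1, h2⟩ := hclosed e he k hk
      refine ⟨nx e k, h1, rho_injective ?_⟩
      rw [hf, map_mul, hf, rho_el, h2, hgc k hk, toMat_mulB e8 (hlen e he).1 (length_cw _)]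
  rw [← hP, ← Nat.card_congr (Equiv.ofBijective F ⟨hFi, hFs⟩), Nat.card_fin]

theorem el_eq_of_same {v w : List ℕ} (h : same v w = true) : el v = el w := el_eq (beq_iff_eq.1 h)

theorem conj_eq {x y z : G0} (h : x * y = z * x) : x * y * x⁻¹ = z := by
  rw [h, mul_inv_cancel_right]

theorem conj_inv {x t : G0} (h : x * t * x = t) : t * x * t⁻¹ = x⁻¹ := by
  rw [mul_inv_eq_iff_eq_mul, eq_inv_mul_iff_mul_eq, ← mul_assoc]
  exact h

universe u

variable {Γ : Type u} [Group Γ] [Finite Γ] (σ : Γ →* G0)

/-- No triple stem extension. -/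
theorem not_stem_three (hσ : Cfsg.IsStemExtension σ) : Nat.card σ.ker ≠ 3 := by
  have h := check_small
  simp only [smallOK, List.all_eq_true, List.mem_cons, List.not_mem_nil, or_false, forall_eq_or_imp,
    forall_eq, id] at h
  obtain ⟨ha, hs, hsa, hsb, hab, hta, htb, had, hta', htd', hsd, hus, hud, -, -, -⟩ := h
  have e := fun {v w : List ℕ} (h : same v w = true) => el_eq_of_same h
  refine not_stem_three_wreath_times hσ (a := el (threeWords.getD 0 [])) (b := el (threeWords.getD 1 []))
    (c := el (threeWords.getD 2 [])) (d := el (threeWords.getD 4 [])) (s := el (threeWords.getD 3 []))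
    (t := el (threeInv.getD 0 [])) (t' := el (threeInv.getD 1 [])) (u := el (threeInv.getD 2 []))
    (by rw [← el_append, ← el_append]; exact e ha) (by rw [← el_append, ← el_append]; exact e hs)
    (conj_eq (by simpa only [el_append] using e hsa)) (conj_eq (by simpa only [el_append] using e hsb))
    (show _ = _ by simpa only [el_append] using e hab)
    (conj_inv (by simpa only [el_append] using e hta)) (conj_eq (by simpa only [el_append] using e htb))
    ?_ (show _ = _ by simpa only [el_append] using e had)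
    (conj_eq (by simpa only [el_append] using e hta')) (conj_inv (by simpa only [el_append] using e htd'))
    (show _ = _ by simpa only [el_append] using e hsd) (conj_eq (by simpa only [el_append] using e hus))
    (conj_inv (by simpa only [el_append] using e hud)) ?_
  · intro i j k hi hj hk he
    by_contra hne
    have hI := check_indep
    simp only [List.all_eq_true, List.mem_range, Bool.or_eq_true, beq_iff_eq] at hI
    rcases hI (i + 3 * j + 9 * k) (by omega) with h0 | h0
    · omega
    · have hrho : rho (el (threeWords.getD 0 []) ^ i * el (threeWords.getD 1 []) ^ j *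
          el (threeWords.getD 2 []) ^ k) = toMat e8 (threeCols.getD (i + 3 * j + 9 * k) []) := by
        have hall : ∀ i < 3, ∀ j < 3, ∀ k < 3, cw ((List.replicate i (threeWords.getD 0 [])).flatten ++
            (List.replicate j (threeWords.getD 1 [])).flatten ++
            (List.replicate k (threeWords.getD 2 [])).flatten) = threeCols.getD (i + 3 * j + 9 * k) [] := by
          decide +kernel
        rw [← hall i hi j hj k hk, ← rho_el, el_append, el_append, el_flatten, el_flatten, el_flatten]
        simp only [List.map_replicate, List.prod_replicate]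
      rw [he, map_one] at hrho
      rw [isId_of_el_eq hrho.symm] at h0
      simp at h0
  · have hset : ({el (threeWords.getD 0 []), el (threeWords.getD 1 []), el (threeWords.getD 2 []),
        el (threeWords.getD 3 []), el (threeWords.getD 4 [])} : Set G0) =
        {x | ∃ k < 5, el (threeWords.getD k []) = x} := by
      ext x
      simp only [Set.mem_insert_iff, Set.mem_singleton_iff, Set.mem_ofPred_eq]
      constructor
      · rintro (rfl | rfl | rfl | rfl | rfl)
        exacts [⟨0, by omega, rfl⟩, ⟨1, by omega, rfl⟩, ⟨2, by omega, rfl⟩, ⟨3, by omega, rfl⟩, ⟨4, by omega, rfl⟩]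
      · rintro ⟨k, hk, rfl⟩
        interval_cases k <;> simp
    have hmul := (Subgroup.closure {x : G0 | ∃ k < 5, el (threeWords.getD k []) = x}).card_mul_index
    rw [card_of_table check_three, show threeCols.length = 243 by decide +kernel, natCard_g0] at hmul
    rw [hset]
    omega

/-- No quintuple stem extension. -/
theorem not_stem_five (hσ : Cfsg.IsStemExtension σ) : Nat.card σ.ker ≠ 5 := by
  have h := check_small
  simp only [smallOK, List.all_eq_true, List.mem_cons, List.not_mem_nil, or_false, forall_eq_or_imp,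
    forall_eq, id] at h
  obtain ⟨-, -, -, -, -, -, -, -, -, -, -, -, -, hfg, hhg, hfh⟩ := h
  refine not_stem_abelian hσ (by norm_num) (by norm_num) (a := el (fiveWords.getD 1 []))
    (b := el (fiveWords.getD 0 [])) (t := el (fiveWords.getD 2 []))
    (show _ = _ by simpa only [el_append] using (el_eq_of_same hfg).symm)
    (conj_eq (by simpa only [el_append] using el_eq_of_same hhg))
    (conj_inv (by simpa only [el_append] using el_eq_of_same hfh)) ?_
  have hset : ({el (fiveWords.getD 1 []), el (fiveWords.getD 0 [])} : Set G0) =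
      {x | ∃ k < 2, el (fiveWords.getD k []) = x} := by
    ext x
    simp only [Set.mem_insert_iff, Set.mem_singleton_iff, Set.mem_ofPred_eq]
    constructor
    · rintro (rfl | rfl)
      exacts [⟨1, by omega, rfl⟩, ⟨0, by omega, rfl⟩]
    · rintro ⟨k, hk, rfl⟩
      interval_cases k <;> simp
  have hmul := (Subgroup.closure {x : G0 | ∃ k < 2, el (fiveWords.getD k []) = x}).card_mul_index
  rw [card_of_table check_five, show fiveCols.length = 25 by decide +kernel, natCard_g0] at hmul
  rw [hset]
  omega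

/-- No double stem extension in which both pairs of lifts commute. -/
theorem not_stem_two (hσ : Cfsg.IsStemExtension σ) (hK : Nat.card σ.ker = 2) (a0 a2 a3 : Γ)
    (h0 : σ a0 = pc 0) (h2 : σ a2 = pc 2) (h3 : σ a3 = pc 3) (h02 : a0 * a2 = a2 * a0)
    (h03 : a0 * a3 = a3 * a0) : False := by
  obtain ⟨a1, h1⟩ := hσ.1 (pc 1)
  obtain ⟨a4, ha4⟩ : ∃ x, x = (a0 * a1)⁻¹ * (a1 * a0) := ⟨_, rfl⟩
  obtain ⟨a5, ha5⟩ : ∃ x, x = (a1 * a2)⁻¹ * (a2 * a1) := ⟨_, rfl⟩
  obtain ⟨a6, ha6⟩ : ∃ x, x = (a1 * a3)⁻¹ * (a3 * a1) := ⟨_, rfl⟩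
  obtain ⟨a7, ha7⟩ : ∃ x, x = (a2 * a4)⁻¹ * (a4 * a2) := ⟨_, rfl⟩
  obtain ⟨a8, ha8⟩ : ∃ x, x = (a3 * a4)⁻¹ * (a4 * a3) := ⟨_, rfl⟩
  obtain ⟨a9, ha9⟩ : ∃ x, x = (a3 * a5)⁻¹ * (a5 * a3) := ⟨_, rfl⟩
  obtain ⟨a10, ha10⟩ : ∃ x, x = (a3 * a7)⁻¹ * (a7 * a3) := ⟨_, rfl⟩
  obtain ⟨a11, ha11⟩ : ∃ x, x = (a6 * a7)⁻¹ * (a7 * a6) := ⟨_, rfl⟩
  obtain ⟨A, hA⟩ : ∃ A : ℕ → Γ,
      A = fun i => [a0, a1, a2, a3, a4, a5, a6, a7, a8, a9, a10, a11].getD i 1 := ⟨_, rfl⟩
  have hd := check_def
  simp only [Bool.and_eq_true, List.all_eq_true, List.mem_range, beq_iff_eq] at hd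
  obtain ⟨⟨⟨hdefs, hr20⟩, hr30⟩, hinit⟩ := hd
  have hdef : ∀ {x y z : Γ} (k j i : ℕ), (k, j, i) ∈ defs → j < 12 → i ≤ j →
      σ x = pc i → σ y = pc j → z = (x * y)⁻¹ * (y * x) → σ z = pc k := by
    intro x y z k j i hmem hj hi hx hy hz
    rw [hz, map_mul, map_inv, map_mul, map_mul, hx, hy, pc_rel j i hj hi, hdefs _ hmem]
    simp [TailCert.pw, mul_assoc]
  have e4 : σ a4 = pc 4 := hdef 4 1 0 (by decide) (by omega) (by omega) h0 h1 ha4
  have e5 : σ a5 = pc 5 := hdef 5 2 1 (by decide) (by omega) (by omega) h1 h2 ha5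
  have e6 : σ a6 = pc 6 := hdef 6 3 1 (by decide) (by omega) (by omega) h1 h3 ha6
  have e7 : σ a7 = pc 7 := hdef 7 4 2 (by decide) (by omega) (by omega) h2 e4 ha7
  have e8 : σ a8 = pc 8 := hdef 8 4 3 (by decide) (by omega) (by omega) h3 e4 ha8
  have e9 : σ a9 = pc 9 := hdef 9 5 3 (by decide) (by omega) (by omega) h3 e5 ha9
  have e10 : σ a10 = pc 10 := hdef 10 7 3 (by decide) (by omega) (by omega) h3 e7 ha10
  have e11 : σ a11 = pc 11 := hdef 11 7 6 (by decide) (by omega) (by omega) e6 e7 ha11
  have hAg : ∀ i < 12, σ (A i) = pc i := by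
    intro i hi
    interval_cases i <;> simp [hA, h0, h1, h2, h3, e4, e5, e6, e7, e8, e9, e10, e11]
  have hpwA : ∀ l : List ℕ, (∀ i ∈ l, i < 12) → σ (TailCert.pw A l) = TailCert.pw pc l := by
    intro l hl
    rw [TailCert.pw, TailCert.pw, map_list_prod, List.map_map]
    exact congrArg List.prod (List.map_congr_left fun i hi => hAg i (hl i hi))
  refine TailCert.not_stem_two_of_all_tails hσ hK 12 rhs init ders A ?_ ?_ ?_ ?_ ?_ check_tails
  · intro c d hc hd
    rw [map_mul, hAg c hc, hAg d (by omega), hpwA _ (rep_lt hc hd), pc_rel c d hc hd]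
  · intro c d hc hd hbit
    have hcd := hinit c hc d (by omega)
    rw [hbit] at hcd
    simp [defs] at hcd
    rcases hcd with (⟨rfl, rfl⟩ | ⟨rfl, rfl⟩) | hcd
    · rw [hr20]; simp [TailCert.pw, hA, h02]
    · rw [hr30]; simp [TailCert.pw, hA, h03]
    · rcases hcd with ⟨rfl, rfl⟩ | ⟨rfl, rfl⟩ | ⟨rfl, rfl⟩ | ⟨rfl, rfl⟩ | ⟨rfl, rfl⟩ | ⟨rfl, rfl⟩ |
        ⟨rfl, rfl⟩ | ⟨rfl, rfl⟩
      · rw [hdefs (4, 1, 0) (by decide)]; simp [TailCert.pw, hA, ha4, mul_assoc]
      · rw [hdefs (5, 2, 1) (by decide)]; simp [TailCert.pw, hA, ha5, mul_assoc]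
      · rw [hdefs (6, 3, 1) (by decide)]; simp [TailCert.pw, hA, ha6, mul_assoc]
      · rw [hdefs (7, 4, 2) (by decide)]; simp [TailCert.pw, hA, ha7, mul_assoc]
      · rw [hdefs (8, 4, 3) (by decide)]; simp [TailCert.pw, hA, ha8, mul_assoc]
      · rw [hdefs (9, 5, 3) (by decide)]; simp [TailCert.pw, hA, ha9, mul_assoc]
      · rw [hdefs (10, 7, 3) (by decide)]; simp [TailCert.pw, hA, ha10, mul_assoc]
      · rw [hdefs (11, 7, 6) (by decide)]; simp [TailCert.pw, hA, ha11, mul_assoc]
  · intro d hd f hf x x' h c he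
    subst he
    have hp := check_pow
    simp only [List.all_eq_true] at hp
    have := hp d hd _ hf
    simp only [Bool.and_eq_true, decide_eq_true_eq] at this
    obtain ⟨⟨hx, hx'⟩, heq⟩ := this
    obtain ⟨g, hg⟩ := hσ.1 (el (conjs.getD c []))
    refine ⟨g, ?_⟩
    rw [map_mul, map_mul, map_inv, hg, hpwA x hx, hpwA x' hx', pw_pc, pw_pc]
    exact conj_eq (by simpa only [el_append] using el_eq_of_same heq)
  · intro l hl h
    exact pc_injective l hl (by rw [← hpwA l fun i hi => List.mem_range.1 (hl.subset hi)]; exact h)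
  · rw [show (fun i : Fin 12 => σ (A i)) = fun i : Fin 12 => pc i from funext fun i => hAg i i.2]
    exact two_index

/-- In a stem extension with kernel of prime order one of the two pairs has non-commuting lifts. -/
theorem not_commute_lifts (hσ : Cfsg.IsStemExtension σ) (hprime : (Nat.card σ.ker).Prime) (a b c : Γ)
    (ha : σ a = pc 0) (hb : σ b = pc 2) (hc : σ c = pc 3) : a * b ≠ b * a ∨ a * c ≠ c * a := by
  by_contra h
  push Not at h
  by_cases h2 : Nat.card σ.ker = 2
  · exact not_stem_two σ hσ h2 a b c ha hb hc h.1 h.2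
  by_cases h3 : Nat.card σ.ker = 3
  · exact not_stem_three σ hσ h3
  by_cases h5 : Nat.card σ.ker = 5
  · exact not_stem_five σ hσ h5
  refine not_stem_of_not_sq_dvd hσ hprime (fun hd => ?_) rfl
  rw [natCard_g0] at hd
  have hle : (Nat.card σ.ker) ^ 2 ∣ 174182400 := hd
  generalize Nat.card σ.ker = p at *
  have hdvd : p ∣ 2 ^ 12 * 3 ^ 5 * 5 ^ 2 * 7 := by
    refine (dvd_pow_self p two_ne_zero).trans ?_
    norm_num
    exact hle
  have hsplit : p = 2 ∨ p = 3 ∨ p = 5 ∨ p = 7 := by
    rcases (Nat.Prime.dvd_mul hprime).1 hdvd with h | h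
    · rcases (Nat.Prime.dvd_mul hprime).1 h with h | h
      · rcases (Nat.Prime.dvd_mul hprime).1 h with h | h
        · exact .inl ((Nat.prime_dvd_prime_iff_eq hprime Nat.prime_two).1 (hprime.dvd_of_dvd_pow h))
        · exact .inr (.inl ((Nat.prime_dvd_prime_iff_eq hprime Nat.prime_three).1 (hprime.dvd_of_dvd_pow h)))
      · exact .inr (.inr (.inl ((Nat.prime_dvd_prime_iff_eq hprime (by norm_num)).1 (hprime.dvd_of_dvd_pow h))))
    · exact .inr (.inr (.inr ((Nat.prime_dvd_prime_iff_eq hprime (by norm_num)).1 h)))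
  rcases hsplit with rfl | rfl | rfl | rfl <;> omega

end Cfsg.Agent.Multiplier.O8
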