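import Cfsg.Agent.Lib.Multiplier.O8Mat
import Cfsg.Agent.Lib.Multiplier.O8Tables
import Cfsg.Agent.Lib.Multiplier.TailFull

/-!
# Kernel checks for the multiplier of O8+(2)

* `check_tails`, `check_rel`, `check_pow`, `check_def`: the tail certificate.
* `check_sub`: no non-empty ordered product of the root elements is trivial.
* `check_three`, `check_five`: tables of Sylow 3- and 5-subgroups.
* `check_small`: the equations used for the odd primes.
-/

set_option autoImplicit false
set_option maxRecDepth 100000

namespace Cfsg.Agent.Multiplier.O8

open O8Data Cfsg.Agent.BitMat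

attribute [local irreducible] pcCols threeCols fiveCols ders rhs

/-- The word of a polycyclic generator. -/
def code (i : ℕ) : List ℕ := pcWords.getD i []

/-- The word of a list of polycyclic generators. -/
def flat (l : List ℕ) : List ℕ := (l.map code).flatten

/-- The columns of a polycyclic generator. -/
def pcCol (i : ℕ) : List ℕ := pcCols.getD i []

/-- The columns of the non-empty ordered products. -/
def subCols : List ℕ → List (List ℕ)
  | [] => []
  | a :: l => let r := subCols l; r ++ pcCol a :: r.map (mulB (pcCol a))

/-- No repetition. -/
def nodupB : List ℕ → Bool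
  | [] => true
  | a :: l => l.all (fun b => a != b) && nodupB l

/-- A number coding eight columns. -/
def key (L : List ℕ) : ℕ := L.foldl (fun m c => 256 * m + c) 0

/-- `tbl` lists a subgroup without repetition, closed under and reached by the generators. -/
def tblOK (gc tbl : List (List ℕ)) (nx : ℕ → ℕ → ℕ) (par : ℕ → ℕ × ℕ) : Bool :=
  decide (0 < tbl.length) && isId (tbl.getD 0 []) && nodupB (tbl.map key) &&
  (tbl.all fun L => L.length == 8 && L.all (fun c => decide (c < 256))) &&
  ((List.range tbl.length).all fun e => (List.range gc.length).all fun k =>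
    decide (nx e k < tbl.length) && tbl.getD (nx e k) [] == mulB (tbl.getD e []) (gc.getD k [])) &&
  (List.range tbl.length).all fun e =>
    e == 0 || decide ((par e).1 < e) && decide ((par e).2 < gc.length) && nx (par e).1 (par e).2 == e

/-- A digit in base 3. -/
def dig (e t : ℕ) : ℕ := e / 3 ^ t % 3

/-- Adding one to a digit in base 3. -/
def bump (e t : ℕ) : ℕ := if dig e t == 2 then e - 2 * 3 ^ t else e + 3 ^ t

/-- Right multiplication in the Sylow 3-subgroup. -/
def threeNext (e k : ℕ) : ℕ := bump e (if k < 3 then (k + dig e 4) % 3 else if k == 3 then 4 else 3)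

/-- The last factor in the Sylow 3-subgroup. -/
def threePar (e : ℕ) : ℕ × ℕ :=
  if 81 ≤ e then (e - 81, 3) else if 27 ≤ e then (e - 27, 4) else if 9 ≤ e then (e - 9, 2)
  else if 3 ≤ e then (e - 3, 1) else (e - 1, 0)

/-- Right multiplication in the Sylow 5-subgroup. -/
def fiveNext (e k : ℕ) : ℕ :=
  if k == 0 then e / 5 * 5 + (e % 5 + 1) % 5 else (e / 5 + 1) % 5 * 5 + e % 5

/-- The last factor in the Sylow 5-subgroup. -/
def fivePar (e : ℕ) : ℕ × ℕ := if 5 ≤ e then (e - 5, 1) else (e - 1, 0)

/-- Equality of the values of two words, tested on columns. -/
def same (v w : List ℕ) : Bool := cw v == cw w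

theorem check_pc : (List.range 12).all (fun i => cw (code i) == pcCol i) = true := by decide +kernel

theorem check_tails : TailCert.allTails 12 rhs init ders = true := by decide +kernel

theorem check_rel : ((List.range 12).all fun a => (List.range (a + 1)).all fun b =>
    same (code a ++ code b) (flat (TailCert.rep 12 rhs a b))) = true := by decide +kernel

theorem check_pow : (ders.all fun d => d.2.all fun f => match f with
    | .pow x x' _ c => decide (∀ i ∈ x, i < 12) && decide (∀ i ∈ x', i < 12) &&
        same (conjs.getD c [] ++ flat x) (flat x' ++ conjs.getD c [])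
    | _ => true) = true := by decide +kernel

theorem check_def :
    ((defs.all fun d => TailCert.rep 12 rhs d.2.1 d.2.2 == [d.2.2, d.2.1, d.1]) &&
    TailCert.rep 12 rhs 2 0 == [0, 2] && TailCert.rep 12 rhs 3 0 == [0, 3] &&
    (List.range 12).all fun a => (List.range (a + 1)).all fun b =>
      !init.testBit (TailCert.tidx a b) ||
        ((a, b) == (2, 0) || (a, b) == (3, 0) || (defs.map fun d => d.2).contains (a, b))) = true := by
  decide +kernel

theorem check_sub : (subCols (List.range 12)).all (fun L => !isId L) = true := by decide +kernel

theorem check_three : tblOK ((List.range 5).map fun k => cw (threeWords.getD k [])) threeCols threeNext threePar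
    = true := by decide +kernel

theorem check_five : tblOK ((List.range 2).map fun k => cw (fiveWords.getD k [])) fiveCols fiveNext fivePar
    = true := by decide +kernel

/-- The small equations for the odd primes. -/
def smallOK : Bool :=
  let a := threeWords.getD 0 []
  let b := threeWords.getD 1 []
  let c := threeWords.getD 2 []
  let s := threeWords.getD 3 []
  let d := threeWords.getD 4 []
  let t := threeInv.getD 0 []
  let t' := threeInv.getD 1 []
  let u := threeInv.getD 2 []
  let f := fiveWords.getD 0 []
  let g := fiveWords.getD 1 []
  let h := fiveWords.getD 2 []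
  [same (a ++ a ++ a) [], same (s ++ s ++ s) [], same (s ++ a) (b ++ s), same (s ++ b) (c ++ s),
    same (a ++ b) (b ++ a), same (a ++ t ++ a) t, same (t ++ b) (b ++ t), same (a ++ d) (d ++ a),
    same (t' ++ a) (a ++ t'), same (d ++ t' ++ d) t', same (s ++ d) (d ++ s), same (u ++ s) (s ++ u),
    same (d ++ u ++ d) u, same (f ++ g) (g ++ f), same (h ++ g) (g ++ h), same (f ++ h ++ f) h].all id

theorem check_small : smallOK = true := by decide +kernel

theorem check_indep : ((List.range 27).all fun e => e == 0 ||
    !isId (threeCols.getD e [])) = true := by decide +kernel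

end Cfsg.Agent.Multiplier.O8
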