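import Cfsg.Agent.Lib.Multiplier.O8Data

/-!
# Lattice data for the covers of O8+(2)
-/

set_option autoImplicit false

namespace Cfsg.Agent.Multiplier.O8Data

/-- The inverse of `roots`. -/
def rootsInv : List (List ℤ) := [[1, 0, 1, 1, 3, 1, 2, 5],
    [0, 1, 0, 0, 0, 1, 0, 0],
    [1, 0, 2, 1, 4, 2, 3, 7],
    [0, 0, 0, 2, 3, 0, 2, 5],
    [0, 1, 0, 1, 2, 1, 1, 3],
    [0, 0, 1, 0, 2, 2, 1, 3],
    [0, 0, 0, 1, 2, 0, 2, 3],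
    [0, 0, 0, 0, 0, 0, 0, 1]]

/-- Upper triangular half of the Gram matrix. -/
def halfGram : List (List ℤ) := [[2, -2, 6, 2, 11, 4, 8, 18],
    [0, 2, -4, -2, -8, -1, -6, -14],
    [0, 0, 6, 0, 16, 10, 11, 26],
    [0, 0, 0, 4, 12, -4, 10, 19],
    [0, 0, 0, 0, 20, 8, 30, 64],
    [0, 0, 0, 0, 0, 6, 4, 12],
    [0, 0, 0, 0, 0, 0, 12, 48],
    [0, 0, 0, 0, 0, 0, 0, 52]]

/-- Linear forms in a sum of squares for the Gram matrix. -/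
def sosRows : List (List ℤ) := [[4, -2, 6, 2, 11, 4, 8, 18],
    [0, 6, -2, -2, -5, 2, -4, -10],
    [0, 0, 8, -10, -4, 13, -5, -8],
    [0, 0, 0, 10, 16, -1, 13, 20],
    [0, 0, 0, 0, 6, 4, 3, 10],
    [0, 0, 0, 0, 0, 2, -3, -1],
    [0, 0, 0, 0, 0, 0, 2, -1],
    [0, 0, 0, 0, 0, 0, 0, 1]]

/-- Their weights. -/
def sosWeights : List ℤ := [30, 10, 5, 3, 2, 10, 15, 15]

/-- The common denominator. -/
def sosDen : ℤ := 120

/-- A left inverse of `sosRows` up to a factor. -/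
def sosLeft : List (List ℤ) := [[30, 10, -20, -24, 4, 40, 60, -60],
    [0, 20, 5, 9, -4, -40, -60, 0],
    [0, 0, 15, 15, -30, -30, -60, 30],
    [0, 0, 0, 12, -32, 70, 75, 225],
    [0, 0, 0, 0, 20, -40, -90, -330],
    [0, 0, 0, 0, 0, 60, 90, 150],
    [0, 0, 0, 0, 0, 0, 60, 60],
    [0, 0, 0, 0, 0, 0, 0, 120]]

/-- The factor. -/
def sosFactor : ℤ := 120

/-- `(j, i)`: simple root `j` is joined to `i`, which comes earlier. -/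
def parents : List (ℕ × ℕ) := [(1, 0), (2, 1), (3, 2), (4, 3), (5, 4), (6, 5), (7, 2)]

/-- The product of two lifts, M 2. -/
def halfM2 : List (List ℤ) := [[-1, 0, -4, 2, -2, -4, -3, -2],
    [0, 1, 2, -2, 0, 4, 0, -2],
    [0, 2, 3, -6, -5, 6, -4, -9],
    [3, -4, 6, -3, 4, 2, 4, 12],
    [-4, 6, -8, 2, -9, -2, -10, -21],
    [2, -4, 2, 2, 6, -3, 6, 14],
    [0, -2, 0, 0, 0, -2, 1, 2],
    [2, -2, 4, 0, 6, 2, 6, 11]]

/-- Its square, lifting root element 2. -/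
def pcM2 : List (List ℤ) := [[3, -2, 4, 4, 12, 2, 8, 20],
    [-2, 1, -4, 0, -6, -4, -4, -10],
    [-4, 4, -7, -2, -12, -4, -8, -21],
    [0, 4, 0, -1, 0, 4, 3, -4],
    [0, -2, 0, 0, -1, -2, -6, 2],
    [2, 0, 4, 0, 6, 5, 6, 8],
    [0, 0, 0, 0, 0, 0, 1, 0],
    [0, 0, 0, 0, 0, 0, 2, -1]]

/-- The product of two lifts, M 3. -/
def halfM3 : List (List ℤ) := [[1, -4, 0, 4, 6, -4, 5, 12],
    [0, 1, 2, -2, 0, 4, 0, -2],
    [0, 2, 3, -5, -3, 6, -2, -6],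
    [-2, 6, -4, -7, -14, 2, -14, -20],
    [4, -10, 8, 11, 25, -2, 24, 38],
    [-2, 4, -6, -2, -10, -3, -10, -14],
    [-2, 2, -4, -2, -8, -2, -7, -12],
    [-1, 4, -2, -4, -8, 2, -8, -13]]

/-- Its square, lifting root element 3. -/
def pcM3 : List (List ℤ) := [[3, -2, 4, 0, 4, 2, 2, 8],
    [-2, 1, -4, 2, -2, -4, 0, -4],
    [-4, 4, -7, -1, -10, -4, -6, -18],
    [0, 4, 0, -1, 0, 4, -2, -4],
    [0, -2, 0, -2, -5, -2, -2, -4],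
    [2, 0, 4, 0, 6, 5, 2, 8],
    [0, 0, 0, 0, 0, 0, -1, 0],
    [0, 0, 0, 2, 4, 0, 3, 5]]

/-- The product of two lifts, N 2. -/
def halfN2 : List (List ℤ) := [[-1, -2, 2, -4, -4, 2, -4, -5],
    [0, 3, -2, 0, -2, 0, -2, -4],
    [-2, 4, -5, 0, -6, -2, -4, -12],
    [0, -2, 0, 9, 13, -4, 14, 16],
    [-4, 4, -6, -14, -29, 0, -26, -40],
    [2, -4, 4, 7, 15, -1, 14, 22],
    [2, -2, 4, 2, 8, 2, 7, 12],
    [2, -1, 2, 6, 12, 0, 10, 17]]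

/-- Its square, lifting root element 2. -/
def pcN2 : List (List ℤ) := [[-1, 1, -2, 0, -2, 0, -2, -4],
    [0, 1, 0, 0, 0, 0, 0, 0],
    [0, 0, 1, -2, -2, 0, 0, -2],
    [0, 0, -2, -5, -12, -4, -6, -16],
    [0, 0, 4, 4, 15, 8, 8, 20],
    [0, 0, -2, -2, -7, -3, -4, -10],
    [0, 0, 0, -2, -4, 0, -3, -6],
    [0, 0, -2, 0, -4, -4, -2, -5]]

/-- The product of two lifts, N 3. -/
def halfN3 : List (List ℤ) := [[-1, 0, -2, 0, -4, -4, 0, -6],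
    [2, -1, 4, 0, 6, 4, 3, 10],
    [0, 2, -1, 0, 0, 1, -2, 0],
    [-6, 2, -16, 7, -10, -16, -8, -16],
    [8, 0, 18, -8, 11, 18, 10, 18],
    [-4, 0, -10, 5, -6, -11, -4, -10],
    [-2, 0, -4, 2, -2, -4, -1, -4],
    [-2, -1, -4, 2, -2, -4, -3, -3]]

/-- Its square, lifting root element 3. -/
def pcN3 : List (List ℤ) := [[-3, 2, -4, 0, -4, -2, -2, -8],
    [2, -1, 4, -2, 2, 4, 0, 4],
    [4, -4, 7, 1, 10, 4, 6, 18],
    [0, -4, 0, 1, 0, -4, 2, 4],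
    [0, 2, 0, 2, 5, 2, 2, 4],
    [-2, 0, -4, 0, -6, -5, -2, -8],
    [0, 0, 0, 0, 0, 0, 1, 0],
    [0, 0, 0, -2, -4, 0, -3, -5]]

end Cfsg.Agent.Multiplier.O8Data
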