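import Cfsg.Agent.Lib.Multiplier.O8Bound
import Cfsg.Agent.Lib.Multiplier.O8Lattice
import Cfsg.Agent.Lib.AutPOmega.Basic
import Cfsg.Prelude.Def_KGroupFacts

/-!
# A fourfold cover of O8+(2)

Pairs of isometries of the lattice E8, congruent modulo 2 to an element and to its image under
triality.

* `exists_four_cover`: a stem extension of O8+(2) with kernel a four-group.
-/

set_option autoImplicit false
set_option maxRecDepth 20000
set_option linter.style.haveILetI false

open scoped commutatorElement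

namespace Cfsg.Agent.Multiplier.O8

open O8Data Cfsg.Agent.BitMat Cfsg.Agent.Triality Cfsg.Agent.Orth Cfsg.Agent.AutPOmega Matrix

attribute [local irreducible] liftsM liftsN gens images

/-- Integral matrices of size 8. -/
abbrev Z8 : Type := Matrix (Fin 8) (Fin 8) ℤ

/-- The matrix of a list of rows. -/
def toZ (L : List (List ℤ)) : Z8 := Matrix.of fun i j => (L.getD i []).getD j 0

/-- The lift of a generator. -/
def zM (i : Fin 12) : Z8 := toZ (liftsM.getD i [])

/-- The lift of the image of a generator. -/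
def zN (i : Fin 12) : Z8 := toZ (liftsN.getD i [])

theorem zM_sq : ∀ i, zM i * zM i = 1 := by decide +kernel
theorem zN_sq : ∀ i, zN i * zN i = 1 := by decide +kernel
theorem zM_isom : ∀ i, (zM i)ᵀ * toZ gram * zM i = toZ gram := by decide +kernel
theorem zN_isom : ∀ i, (zN i)ᵀ * toZ gram * zN i = toZ gram := by decide +kernel

theorem z_mod : ∀ (i : Fin 12) (a b : Fin 8),
    ((zM i a b : ℤ) : ZMod 2) = bitVal ((col i).getD (b : ℕ) 0) (a : ℕ) ∧
    ((zN i a b : ℤ) : ZMod 2) = bitVal ((colImg i).getD (b : ℕ) 0) (a : ℕ) := by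
  decide +kernel

theorem zM_mod (i : Fin 12) (r c : IJ) : ((zM i (e8 r) (e8 c) : ℤ) : ZMod 2) = toMat e8 (col i) r c :=
  (z_mod i _ _).1

theorem zN_mod (i : Fin 12) (r c : IJ) : ((zN i (e8 r) (e8 c) : ℤ) : ZMod 2) = toMat e8 (colImg i) r c :=
  (z_mod i _ _).2

/-- The lift as a unit. -/
def uM (i : Fin 12) : Z8ˣ := ⟨zM i, zM i, zM_sq i, zM_sq i⟩

/-- The lift of the image as a unit. -/
def uN (i : Fin 12) : Z8ˣ := ⟨zN i, zN i, zN_sq i, zN_sq i⟩

/-- The generators of the cover. -/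
def cgen (i : Fin 12) : Z8ˣ × Z8ˣ := (uM i, uN i)

/-- The cover. -/
def cov : Subgroup (Z8ˣ × Z8ˣ) := Subgroup.closure (Set.range cgen)

/-- Reduction modulo 2 in the coordinates of the quadratic form. -/
noncomputable def red : Z8ˣ →* GL IJ (ZMod 2) :=
  Units.map ((Matrix.reindexAlgEquiv (ZMod 2) (ZMod 2) e8.symm).toRingEquiv.toRingHom.comp
    (Int.castRingHom (ZMod 2)).mapMatrix).toMonoidHom

theorem red_apply (u : Z8ˣ) (r c : IJ) :
    (red u : Matrix IJ IJ (ZMod 2)) r c = ((u : Z8) (e8 r) (e8 c) : ZMod 2) := rfl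

/-- The inclusion in the general linear group. -/
noncomputable def incl : G0 →* GL IJ (ZMod 2) :=
  (isometryGroup (ZMod 2) ⇑(Q4 (ZMod 2))).subtype.comp (Omega (ZMod 2) ⇑(Q4 (ZMod 2))).subtype

theorem incl_injective : Function.Injective incl := fun _ _ h => Subtype.ext (Subtype.ext h)

theorem red_uM (i : Fin 12) : red (uM i) = incl (gen i) := by
  refine Units.ext (Matrix.ext fun r c => ?_)
  rw [red_apply, show (uM i : Z8) = zM i from rfl, zM_mod, ← rho_gen]
  rfl

theorem red_uN (i : Fin 12) : red (uN i) = incl (img i) := by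
  refine Units.ext (Matrix.ext fun r c => ?_)
  rw [red_apply, show (uN i : Z8) = zN i from rfl, zN_mod, ← rho_img]
  rfl

theorem red_mem_range : ∀ x ∈ cov, red x.1 ∈ incl.range := by
  intro x hx
  induction hx using Subgroup.closure_induction with
  | mem y hy => obtain ⟨i, rfl⟩ := hy; exact ⟨gen i, (red_uM i).symm⟩
  | one => simp
  | mul a b _ _ ha hb => rw [Prod.fst_mul, map_mul]; exact mul_mem ha hb
  | inv a _ ha => rw [Prod.fst_inv, map_inv]; exact inv_mem ha

/-- The map onto O8+(2). -/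
noncomputable def covMap : ↥cov →* G0 :=
  (MonoidHom.ofInjective incl_injective).symm.toMonoidHom.comp
    (((red.comp (MonoidHom.fst _ _)).comp cov.subtype).codRestrict incl.range fun x => red_mem_range x x.2)

theorem incl_covMap (x : ↥cov) : incl (covMap x) = red x.1.1 := by
  have h := (MonoidHom.ofInjective incl_injective).apply_symm_apply
    ⟨red x.1.1, red_mem_range x x.2⟩
  exact congrArg Subtype.val h

/-- A generator of the cover as an element. -/
def celem (i : Fin 12) : ↥cov := ⟨cgen i, Subgroup.subset_closure ⟨i, rfl⟩⟩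

theorem covMap_celem (i : Fin 12) : covMap (celem i) = gen i :=
  incl_injective (by rw [incl_covMap]; exact red_uM i)

theorem covMap_surjective : Function.Surjective covMap := by
  rw [← MonoidHom.range_eq_top, eq_top_iff, ← closure_gen, Subgroup.closure_le]
  rintro _ ⟨i, rfl⟩
  exact ⟨celem i, covMap_celem i⟩

/-- O8+(2) is its own projective group. -/
noncomputable def toP : G0 ≃* POmega (ZMod 2) ⇑(Q4 (ZMod 2)) :=
  MulEquiv.ofBijective (QuotientGroup.mk' _)
    ⟨(MonoidHom.ker_eq_bot_iff _).1 (by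
      rw [QuotientGroup.ker_mk']
      exact center_omega_eq_bot base4.nd (by simp) base4.hE (.inr (by decide))),
      QuotientGroup.mk'_surjective _⟩

theorem toP_eq (x : G0) : toP x = om (x : Iso8) := (om_of_mem x.2).symm

/-- Triality on O8+(2). -/
noncomputable def tau : G0 →* G0 :=
  (toP.symm.toMonoidHom.comp (triality (ZMod 2)).toMonoidHom).comp toP.toMonoidHom

theorem triality_root (i : Fin 12) :
    triality (ZMod 2) (om (root (pairOf idx i))) = om (root (pairOf imgIdx i)) := by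
  have key : ∀ {p1 p2 p3 : IJ × IJ} {t2 t3 : ZMod 2}, t2 = 1 →
      TriEq (rt p1.1 p1.2 1 : Iso8) (rt p2.1 p2.2 t2) (rt p3.1 p3.2 t3) →
      triality (ZMod 2) (om (root p1)) = om (root p2) := by
    intro p1 p2 p3 t2 t3 ht h
    have h' := triality_om (mem_TriK_rt h)
    rw [ht] at h'
    exact h'
  have hn : (-1 : ZMod 2) = 1 := by decide
  fin_cases i
  · show triality (ZMod 2) (om (root (.inl 0, .inl 1))) = om (root (.inr 2, .inr 3))
    exact key (p1 := (.inl 0, .inl 1)) (p2 := (.inr 2, .inr 3)) (p3 := (.inl 1, .inr 0)) rfl (tri_gen_01 1)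
  · show triality (ZMod 2) (om (root (.inl 0, .inl 2))) = om (root (.inr 1, .inr 3))
    exact key (p1 := (.inl 0, .inl 2)) (p2 := (.inr 1, .inr 3)) (p3 := (.inl 2, .inr 0)) hn (tri_gen_02 1)
  · show triality (ZMod 2) (om (root (.inl 0, .inl 3))) = om (root (.inr 1, .inr 2))
    exact key (p1 := (.inl 0, .inl 3)) (p2 := (.inr 1, .inr 2)) (p3 := (.inl 3, .inr 0)) rfl (tri_gen_03 1)
  · show triality (ZMod 2) (om (root (.inl 0, .inr 1))) = om (root (.inr 0, .inr 1))
    exact key (p1 := (.inl 0, .inr 1)) (p2 := (.inr 0, .inr 1)) (p3 := (.inl 2, .inl 3)) hn (tri_gen_05 1)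
  · show triality (ZMod 2) (om (root (.inl 0, .inr 2))) = om (root (.inr 0, .inr 2))
    exact key (p1 := (.inl 0, .inr 2)) (p2 := (.inr 0, .inr 2)) (p3 := (.inl 1, .inl 3)) hn (tri_gen_06 1)
  · show triality (ZMod 2) (om (root (.inl 0, .inr 3))) = om (root (.inr 0, .inr 3))
    exact key (p1 := (.inl 0, .inr 3)) (p2 := (.inr 0, .inr 3)) (p3 := (.inl 1, .inl 2)) hn (tri_gen_07 1)
  · show triality (ZMod 2) (om (root (.inr 0, .inl 1))) = om (root (.inl 0, .inl 1))
    exact key (p1 := (.inr 0, .inl 1)) (p2 := (.inl 0, .inl 1)) (p3 := (.inr 2, .inr 3)) hn (tri_gen_41 1)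
  · show triality (ZMod 2) (om (root (.inr 0, .inl 2))) = om (root (.inl 0, .inl 2))
    exact key (p1 := (.inr 0, .inl 2)) (p2 := (.inl 0, .inl 2)) (p3 := (.inr 1, .inr 3)) hn (tri_gen_42 1)
  · show triality (ZMod 2) (om (root (.inr 0, .inl 3))) = om (root (.inl 0, .inl 3))
    exact key (p1 := (.inr 0, .inl 3)) (p2 := (.inl 0, .inl 3)) (p3 := (.inr 1, .inr 2)) hn (tri_gen_43 1)
  · show triality (ZMod 2) (om (root (.inr 0, .inr 1))) = om (root (.inl 2, .inl 3))
    exact key (p1 := (.inr 0, .inr 1)) (p2 := (.inl 2, .inl 3)) (p3 := (.inl 0, .inr 1)) rfl (tri_gen_45 1)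
  · show triality (ZMod 2) (om (root (.inr 0, .inr 2))) = om (root (.inl 1, .inl 3))
    exact key (p1 := (.inr 0, .inr 2)) (p2 := (.inl 1, .inl 3)) (p3 := (.inl 0, .inr 2)) hn (tri_gen_46 1)
  · show triality (ZMod 2) (om (root (.inr 0, .inr 3))) = om (root (.inl 1, .inl 2))
    exact key (p1 := (.inr 0, .inr 3)) (p2 := (.inl 1, .inl 2)) (p3 := (.inl 0, .inr 3)) rfl (tri_gen_47 1)

theorem tau_gen (i : Fin 12) : tau (gen i) = img i := by
  show toP.symm (triality (ZMod 2) (toP (gen i))) = img i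
  rw [MulEquiv.symm_apply_eq, toP_eq, toP_eq]
  exact triality_root i

theorem red_snd : ∀ x ∈ cov, ∃ g, incl g = red x.1 ∧ incl (tau g) = red x.2 := by
  intro x hx
  induction hx using Subgroup.closure_induction with
  | mem y hy =>
    obtain ⟨i, rfl⟩ := hy
    exact ⟨gen i, (red_uM i).symm, by rw [tau_gen]; exact (red_uN i).symm⟩
  | one => exact ⟨1, by simp, by simp⟩
  | mul a b _ _ ha hb =>
    obtain ⟨g, hg1, hg2⟩ := ha
    obtain ⟨h, hh1, hh2⟩ := hb
    exact ⟨g * h, by simp [hg1, hh1], by simp [hg2, hh2]⟩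
  | inv a _ ha =>
    obtain ⟨g, hg1, hg2⟩ := ha
    exact ⟨g⁻¹, by simp [hg1], by simp [hg2]⟩

theorem isom_of_mem : ∀ x ∈ cov, (x.1 : Z8)ᵀ * toZ gram * (x.1 : Z8) = toZ gram ∧
    (x.2 : Z8)ᵀ * toZ gram * (x.2 : Z8) = toZ gram := by
  intro x hx
  have hmul : ∀ {a b : Z8}, aᵀ * toZ gram * a = toZ gram → bᵀ * toZ gram * b = toZ gram →
      (a * b)ᵀ * toZ gram * (a * b) = toZ gram := by
    intro a b ha hb
    rw [Matrix.transpose_mul, show bᵀ * aᵀ * toZ gram * (a * b) = bᵀ * (aᵀ * toZ gram * a) * b by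
      simp only [Matrix.mul_assoc], ha, hb]
  have hinv : ∀ {a : Z8ˣ}, (a : Z8)ᵀ * toZ gram * (a : Z8) = toZ gram →
      ((a⁻¹ : Z8ˣ) : Z8)ᵀ * toZ gram * ((a⁻¹ : Z8ˣ) : Z8) = toZ gram := by
    intro a ha
    have h1 : (a : Z8) * ((a⁻¹ : Z8ˣ) : Z8) = 1 := a.mul_inv
    conv_lhs => rw [← ha]
    rw [show ((a⁻¹ : Z8ˣ) : Z8)ᵀ * ((a : Z8)ᵀ * toZ gram * (a : Z8)) * ((a⁻¹ : Z8ˣ) : Z8) =
      ((a : Z8) * ((a⁻¹ : Z8ˣ) : Z8))ᵀ * toZ gram * ((a : Z8) * ((a⁻¹ : Z8ˣ) : Z8)) by
      simp only [Matrix.transpose_mul, Matrix.mul_assoc], h1]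
    simp
  induction hx using Subgroup.closure_induction with
  | mem y hy => obtain ⟨i, rfl⟩ := hy; exact ⟨zM_isom i, zN_isom i⟩
  | one => simp
  | mul a b _ _ ha hb => exact ⟨hmul ha.1 hb.1, hmul ha.2 hb.2⟩
  | inv a _ ha => exact ⟨hinv ha.1, hinv ha.2⟩

theorem sos_facts : (toZ sosRows)ᵀ * Matrix.diagonal (fun i : Fin 8 => sosWeights.getD i 0) * toZ sosRows =
      sosDen • toZ gram ∧ toZ sosLeft * toZ sosRows = sosFactor • 1 ∧
    (∀ i : Fin 8, 0 < sosWeights.getD i 0) ∧ 0 < sosDen ∧ 0 < sosFactor ∧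
    toZ gram = toZ halfGram + (toZ halfGram)ᵀ := by decide +kernel

theorem roots_facts : toZ roots * toZ rootsInv = 1 ∧
    (∀ j : Fin 8, ((toZ roots)ᵀ * toZ gram * toZ roots) j j = 2) ∧
    parents.all (fun q => decide (q.1 < 8 ∧ q.2 < 8)) ∧
    (∀ j : Fin 8, j ≠ 0 → ∃ i : Fin 8, ((j : ℕ), (i : ℕ)) ∈ parents ∧ i < j ∧
      ((toZ roots)ᵀ * toZ gram * toZ roots) i j ≠ 0) := by decide +kernel

theorem norm_eq_zero {v : Fin 8 → ℤ} (h : v ⬝ᵥ toZ gram *ᵥ v = 0) : v = 0 := by
  obtain ⟨hsos, hleft, hpos, -, hfac, -⟩ := sos_facts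
  obtain ⟨u, hu⟩ : ∃ u, u = toZ sosRows *ᵥ v := ⟨_, rfl⟩
  have h1 : u ⬝ᵥ Matrix.diagonal (fun i : Fin 8 => sosWeights.getD i 0) *ᵥ u = 0 := by
    have h2 := congrArg (fun M => v ⬝ᵥ M *ᵥ v) hsos
    simp only [Matrix.smul_mulVec, dotProduct_smul, h, smul_zero] at h2
    rw [← Matrix.mulVec_mulVec, ← Matrix.mulVec_mulVec, Matrix.dotProduct_mulVec v,
      Matrix.vecMul_transpose, ← hu] at h2
    exact h2
  have hu0 : u = 0 := by
    funext i
    simp only [dotProduct, Matrix.mulVec_diagonal] at h1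
    have hterm : ∀ j ∈ (Finset.univ : Finset (Fin 8)), 0 ≤ u j * (sosWeights.getD j 0 * u j) := by
      intro j _
      rw [show u j * (sosWeights.getD j 0 * u j) = sosWeights.getD j 0 * (u j * u j) by ring]
      exact mul_nonneg (hpos j).le (mul_self_nonneg _)
    have := (Finset.sum_eq_zero_iff_of_nonneg hterm).1 h1 i (Finset.mem_univ i)
    rcases mul_eq_zero.1 this with h0 | h0
    · exact h0
    · exact (mul_eq_zero.1 h0).resolve_left (hpos i).ne'
  have h2 : sosFactor • v = 0 := by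
    rw [← Matrix.one_mulVec v, ← Matrix.smul_mulVec, ← hleft, ← Matrix.mulVec_mulVec, ← hu, hu0,
      Matrix.mulVec_zero]
  exact (smul_eq_zero.1 h2).resolve_left hfac.ne'

theorem norm_even (v : Fin 8 → ℤ) : 2 ∣ v ⬝ᵥ toZ gram *ᵥ v ∧ 0 ≤ v ⬝ᵥ toZ gram *ᵥ v := by
  obtain ⟨hsos, -, hpos, hden, -, hhalf⟩ := sos_facts
  refine ⟨⟨v ⬝ᵥ toZ halfGram *ᵥ v, ?_⟩, ?_⟩
  · rw [hhalf, Matrix.add_mulVec, dotProduct_add, Matrix.mulVec_transpose,
      dotProduct_comm v (v ᵥ* toZ halfGram), ← Matrix.dotProduct_mulVec]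
    ring
  · have h2 := congrArg (fun M => v ⬝ᵥ M *ᵥ v) hsos
    simp only [Matrix.smul_mulVec, dotProduct_smul, smul_eq_mul] at h2
    rw [← Matrix.mulVec_mulVec, ← Matrix.mulVec_mulVec, Matrix.dotProduct_mulVec v,
      Matrix.vecMul_transpose] at h2
    refine nonneg_of_mul_nonneg_right (a := sosDen) ?_ hden
    rw [← h2]
    refine Finset.sum_nonneg fun j _ => ?_
    rw [Matrix.mulVec_diagonal, mul_left_comm]
    exact mul_nonneg (hpos j).le (mul_self_nonneg _)

theorem gram_symm : (toZ gram)ᵀ = toZ gram := by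
  rw [sos_facts.2.2.2.2.2, Matrix.transpose_add, Matrix.transpose_transpose, add_comm]

/-- An isometry of the lattice congruent to 1 modulo 2 is `1` or `-1`. -/
theorem eq_one_or_neg_of_red {U : Z8ˣ} (hU : (U : Z8)ᵀ * toZ gram * (U : Z8) = toZ gram) (hr : red U = 1) :
    U = 1 ∨ U = -1 := by
  obtain ⟨hinv, hdiag, -, hadj⟩ := roots_facts
  obtain ⟨B, hB⟩ : ∃ B : (Fin 8 → ℤ) → (Fin 8 → ℤ) → ℤ, B = fun v w => v ⬝ᵥ toZ gram *ᵥ w := ⟨_, rfl⟩
  have hBU : ∀ v w, B ((U : Z8) *ᵥ v) ((U : Z8) *ᵥ w) = B v w := by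
    intro v w
    simp only [hB]
    rw [Matrix.mulVec_mulVec, ← Matrix.vecMul_transpose, ← Matrix.dotProduct_mulVec, Matrix.mulVec_mulVec,
      ← Matrix.mul_assoc, hU]
  obtain ⟨r, hrdef⟩ : ∃ r : Fin 8 → Fin 8 → ℤ, r = fun j i => toZ roots i j := ⟨_, rfl⟩
  have hBr : ∀ i j, B (r i) (r j) = ((toZ roots)ᵀ * toZ gram * toZ roots) i j := by
    intro i j
    rw [Matrix.mul_assoc]
    simp only [hB, hrdef, Matrix.mul_apply, Matrix.transpose_apply, dotProduct, Matrix.mulVec]
  have hsign : ∀ j, (U : Z8) *ᵥ r j = r j ∨ (U : Z8) *ᵥ r j = -r j := by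
    intro j
    have heven : ∀ i, 2 ∣ ((U : Z8) *ᵥ r j) i - r j i := by
      intro i
      have hmod : ∀ a b, ((((U : Z8) a b : ℤ)) : ZMod 2) = if a = b then 1 else 0 := by
        intro a b
        have h1 := congrArg (fun M : GL IJ (ZMod 2) => (M : Matrix IJ IJ (ZMod 2)) (e8.symm a) (e8.symm b)) hr
        simp only [red_apply, Equiv.apply_symm_apply] at h1
        rw [h1, Units.val_one, Matrix.one_apply]
        simp
      have h2 : (2 : ℤ) = ((2 : ℕ) : ℤ) := rfl
      rw [h2, ← ZMod.intCast_zmod_eq_zero_iff_dvd]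
      simp only [Matrix.mulVec, dotProduct, Int.cast_sub, Int.cast_sum, Int.cast_mul, hmod, ite_mul,
        one_mul, zero_mul, Finset.sum_ite_eq, Finset.mem_univ, if_true, sub_self]
    choose d hd using heven
    have hd' : (U : Z8) *ᵥ r j = r j + (2 : ℤ) • d := by
      funext i
      have := hd i
      simp only [Pi.add_apply, Pi.smul_apply, smul_eq_mul]
      omega
    have hadd : ∀ a b c, B (a + b) c = B a c + B b c := fun a b c => by simp [hB, add_dotProduct]
    have hadd' : ∀ a b c, B a (b + c) = B a b + B a c := fun a b c => by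
      simp [hB, Matrix.mulVec_add, dotProduct_add]
    have hsm : ∀ (t : ℤ) a b, B (t • a) b = t * B a b := fun t a b => by simp only [hB, smul_dotProduct, smul_eq_mul]
    have hsm' : ∀ (t : ℤ) a b, B a (t • b) = t * B a b := fun t a b => by
      simp only [hB, Matrix.mulVec_smul, dotProduct_smul, smul_eq_mul]
    have hcomm : ∀ a b, B a b = B b a := fun a b => by
      simp only [hB]
      rw [dotProduct_comm, ← Matrix.vecMul_transpose, gram_symm, Matrix.dotProduct_mulVec]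
    have h2 : B (r j) (r j) = 2 := (hBr j j).trans (hdiag j)
    have hnorm : B (r j + (2 : ℤ) • d) (r j + (2 : ℤ) • d) = 2 := by rw [← hd', hBU, h2]
    simp only [hadd, hadd', hsm, hsm', hcomm d (r j), h2] at hnorm
    have hw : B (r j + d) (r j + d) + B d d = 2 := by
      simp only [hadd, hadd', hcomm d (r j), h2]
      omega
    have hd2 := norm_even d
    have hw2 := norm_even (r j + d)
    have hBd : ∀ x, B x x = x ⬝ᵥ toZ gram *ᵥ x := fun x => by rw [hB]
    rw [← hBd] at hd2 hw2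
    obtain ⟨⟨p, hp⟩, hp0⟩ := hd2
    obtain ⟨⟨q, hq⟩, hq0⟩ := hw2
    rcases (show B d d = 0 ∨ B (r j + d) (r j + d) = 0 by omega) with h0 | h0 <;>
      rw [hBd] at h0 <;> have h0' := norm_eq_zero h0
    · exact .inl (by rw [hd', h0', smul_zero, add_zero])
    · refine .inr ?_
      rw [hd', eq_neg_of_add_eq_zero_right h0']
      simp [two_smul]
  have hsame : ∀ (s : ℤ), (s = 1 ∨ s = -1) → (U : Z8) *ᵥ r 0 = s • r 0 →
      ∀ j, (U : Z8) *ᵥ r j = s • r j := by
    intro s hs h0 j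
    induction j using WellFoundedLT.induction with
    | _ j ih =>
      by_cases hj : j = 0
      · rw [hj]; exact h0
      obtain ⟨i, -, hij, hne⟩ := hadj j hj
      obtain ⟨t, ht, htj⟩ : ∃ t : ℤ, (t = 1 ∨ t = -1) ∧ (U : Z8) *ᵥ r j = t • r j := by
        rcases hsign j with h | h
        · exact ⟨1, .inl rfl, by rw [one_smul, h]⟩
        · exact ⟨-1, .inr rfl, by rw [neg_one_smul, h]⟩
      have h1 := hBU (r i) (r j)
      rw [ih i hij, htj] at h1
      rw [← hBr] at hne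
      simp only [hB, smul_dotProduct, Matrix.mulVec_smul, dotProduct_smul, smul_eq_mul] at h1 hne
      rw [htj]
      rcases hs with rfl | rfl <;> rcases ht with rfl | rfl <;> first | rfl | (exfalso; omega)
  obtain ⟨s, hs, h0⟩ : ∃ s : ℤ, (s = 1 ∨ s = -1) ∧ (U : Z8) *ᵥ r 0 = s • r 0 := by
    rcases hsign 0 with h | h
    · exact ⟨1, .inl rfl, by rw [one_smul, h]⟩
    · exact ⟨-1, .inr rfl, by rw [neg_one_smul, h]⟩
  have hUR : (U : Z8) * toZ roots = s • toZ roots := by
    ext i j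
    have := congrFun (hsame s hs h0 j) i
    simpa [hrdef, Matrix.mulVec, dotProduct, Matrix.mul_apply] using this
  have hU' : (U : Z8) = s • (1 : Z8) := by
    calc (U : Z8) = (U : Z8) * (toZ roots * toZ rootsInv) := by rw [hinv, mul_one]
      _ = s • (toZ roots * toZ rootsInv) := by rw [← mul_assoc, hUR, smul_mul_assoc]
      _ = s • (1 : Z8) := by rw [hinv]
  rcases hs with rfl | rfl
  · exact .inl (Units.ext (by rw [hU', one_smul, Units.val_one]))
  · exact .inr (Units.ext (by rw [hU', neg_one_smul, Units.val_neg, Units.val_one]))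

theorem kernel_cases {x : ↥cov} (hx : covMap x = 1) :
    (x.1.1 = 1 ∨ x.1.1 = -1) ∧ (x.1.2 = 1 ∨ x.1.2 = -1) := by
  have h1 : red x.1.1 = 1 := by rw [← incl_covMap, hx, map_one]
  obtain ⟨g, hg1, hg2⟩ := red_snd x.1 x.2
  have hg : g = 1 := incl_injective (by rw [hg1, h1, map_one])
  rw [hg, map_one, map_one] at hg2
  exact ⟨eq_one_or_neg_of_red (isom_of_mem x.1 x.2).1 h1, eq_one_or_neg_of_red (isom_of_mem x.1 x.2).2 hg2.symm⟩

theorem pair_chain : code 0 = [3] ∧ code 2 = [1, 8, 1, 8] ∧ code 3 = [1, 11, 1, 11] := by decide +kernel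

theorem pair_products :
    zM 1 * zM 8 = toZ halfM2 ∧ zM 1 * zM 11 = toZ halfM3 ∧ zN 1 * zN 8 = toZ halfN2 ∧ zN 1 * zN 11 = toZ halfN3 ∧
    toZ halfM2 * toZ halfM2 = toZ pcM2 ∧ toZ halfM3 * toZ halfM3 = toZ pcM3 ∧
    toZ halfN2 * toZ halfN2 = toZ pcN2 ∧ toZ halfN3 * toZ halfN3 = toZ pcN3 ∧
    zM 3 * toZ pcM2 = -(toZ pcM2 * zM 3) ∧ zM 3 * toZ pcM3 = -(toZ pcM3 * zM 3) ∧
    zN 3 * toZ pcN2 = toZ pcN2 * zN 3 ∧ zN 3 * toZ pcN3 = -(toZ pcN3 * zN 3) := by decide +kernel

/-- A lift of a word. -/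
def cel (w : List ℕ) : ↥cov := ((w.map letter).map celem).prod

theorem covMap_cel (w : List ℕ) : covMap (cel w) = el w := by
  rw [cel, el, map_list_prod, List.map_map]
  congr 1
  exact List.map_congr_left fun i _ => covMap_celem i

theorem commutator_pairs : ((⁅cel (code 0), cel (code 2)⁆ : ↥cov) : Z8ˣ × Z8ˣ) = (-1, 1) ∧
    ((⁅cel (code 0), cel (code 3)⁆ : ↥cov) : Z8ˣ × Z8ˣ) = (-1, -1) := by
  obtain ⟨h1, h2, h3, h4, h5, h6, h7, h8, h9, h10, h11, h12⟩ := pair_products
  obtain ⟨c0, c2, c3⟩ := pair_chain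
  have key : ∀ {X Y : Z8ˣ}, (X : Z8) * Y = -((Y : Z8) * X) → ⁅X, Y⁆ = -1 := by
    intro X Y h
    have h' : X * Y = -1 * (Y * X) := Units.ext (by
      rw [Units.val_mul, Units.val_mul, Units.val_neg, Units.val_one, Units.val_mul, h, neg_one_mul])
    rw [commutatorElement_def, h']
    group
  have key' : ∀ {X Y : Z8ˣ}, (X : Z8) * Y = (Y : Z8) * X → ⁅X, Y⁆ = 1 := by
    intro X Y h
    exact commutatorElement_eq_one_iff_mul_comm.2 (Units.ext h)
  have e0 : (cel (code 0) : Z8ˣ × Z8ˣ) = (uM 3, uN 3) := by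
    rw [c0]; simp [cel, celem, cgen, letter]
  have e2 : (cel (code 2) : Z8ˣ × Z8ˣ) = (uM 1 * uM 8 * (uM 1 * uM 8), uN 1 * uN 8 * (uN 1 * uN 8)) := by
    rw [c2]; simp [cel, celem, cgen, letter, mul_assoc]
  have e3 : (cel (code 3) : Z8ˣ × Z8ˣ) =
      (uM 1 * uM 11 * (uM 1 * uM 11), uN 1 * uN 11 * (uN 1 * uN 11)) := by
    rw [c3]; simp [cel, celem, cgen, letter, mul_assoc]
  refine ⟨?_, ?_⟩
  · rw [← Subgroup.coe_subtype, map_commutatorElement, Subgroup.coe_subtype, e0, e2]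
    refine Prod.ext (key ?_) (key' ?_) <;>
      simp only [Units.val_mul, show ∀ i, (uM i : Z8) = zM i from fun _ => rfl,
        show ∀ i, (uN i : Z8) = zN i from fun _ => rfl, h1, h3, h5, h7]
    · exact h9
    · exact h11
  · rw [← Subgroup.coe_subtype, map_commutatorElement, Subgroup.coe_subtype, e0, e3]
    refine Prod.ext (key ?_) (key ?_) <;>
      simp only [Units.val_mul, show ∀ i, (uM i : Z8) = zM i from fun _ => rfl,
        show ∀ i, (uN i : Z8) = zN i from fun _ => rfl, h2, h4, h6, h8]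
    · exact h10
    · exact h12

/-- The first central element. -/
def c2el : ↥cov := ⁅cel (code 0), cel (code 2)⁆

/-- The second central element. -/
def c3el : ↥cov := ⁅cel (code 0), cel (code 3)⁆

theorem kernel_elems {x : ↥cov} (hx : covMap x = 1) : x = 1 ∨ x = c2el ∨ x = c3el ∨ x = c2el * c3el := by
  obtain ⟨h2, h3⟩ := commutator_pairs
  obtain ⟨ha, hb⟩ := kernel_cases hx
  rcases ha with ha | ha <;> rcases hb with hb | hb
  · exact .inl (Subtype.ext (Prod.ext ha hb))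
  · refine .inr (.inr (.inr (Subtype.ext ?_)))
    rw [Subgroup.coe_mul, c2el, c3el, h2, h3]
    exact Prod.ext (by simp [ha]) (by simp [hb])
  · exact .inr (.inl (Subtype.ext (by rw [c2el, h2]; exact Prod.ext ha hb)))
  · exact .inr (.inr (.inl (Subtype.ext (by rw [c3el, h3]; exact Prod.ext ha hb))))

theorem neg_one_ne_one : (-1 : Z8ˣ) ≠ 1 := by
  intro h
  have := congrArg (fun u : Z8ˣ => (u : Z8) 0 0) h
  simp at this

theorem ceq (x : ↥cov) (h : (x : Z8ˣ × Z8ˣ) ∈ ({(-1, 1), (-1, -1), (1, -1)} : Set (Z8ˣ × Z8ˣ))) :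
    x * x = 1 ∧ ∀ g, g * x = x * g := by
  refine ⟨Subtype.ext ?_, fun g => Subtype.ext ?_⟩ <;>
    rcases h with h | h | h <;> (try rw [Set.mem_singleton_iff] at h) <;>
    rw [Subgroup.coe_mul] <;> (try rw [Subgroup.coe_mul]) <;> rw [h] <;> ext : 1 <;> simp

theorem gens_mem_ker : covMap c2el = 1 ∧ covMap c3el = 1 := by
  have hc : ∀ j, j = 2 ∨ j = 3 → pc 0 * pc j = pc j * pc 0 := by
    intro j hj
    have hd := check_def
    simp only [Bool.and_eq_true, List.all_eq_true, List.mem_range, beq_iff_eq] at hd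
    rcases hj with rfl | rfl
    · rw [pc_rel 2 0 (by omega) (by omega), hd.1.1.2]; simp [TailCert.pw]
    · rw [pc_rel 3 0 (by omega) (by omega), hd.1.2]; simp [TailCert.pw]
  refine ⟨?_, ?_⟩
  · rw [c2el, map_commutatorElement, covMap_cel, covMap_cel, commutatorElement_eq_one_iff_mul_comm]
    exact hc 2 (.inl rfl)
  · rw [c3el, map_commutatorElement, covMap_cel, covMap_cel, commutatorElement_eq_one_iff_mul_comm]
    exact hc 3 (.inr rfl)

theorem covMap_stem : Cfsg.IsStemExtension covMap := by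
  have h2 : (c2el : Z8ˣ × Z8ˣ) = (-1, 1) := commutator_pairs.1
  have h3 : (c3el : Z8ˣ × Z8ˣ) = (-1, -1) := commutator_pairs.2
  have h23 : ((c2el * c3el : ↥cov) : Z8ˣ × Z8ˣ) = (1, -1) := by rw [Subgroup.coe_mul, h2, h3]; simp
  refine ⟨covMap_surjective, fun x hx => ?_, fun x hx => ?_⟩ <;>
    rcases kernel_elems (MonoidHom.mem_ker.1 hx) with rfl | rfl | rfl | rfl
  · exact one_mem _
  · exact Subgroup.mem_center_iff.2 (ceq _ (by rw [h2]; simp)).2
  · exact Subgroup.mem_center_iff.2 (ceq _ (by rw [h3]; simp)).2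
  · exact Subgroup.mem_center_iff.2 (ceq _ (by rw [h23]; simp)).2
  · exact one_mem _
  · exact Subgroup.commutator_mem_commutator (Subgroup.mem_top _) (Subgroup.mem_top _)
  · exact Subgroup.commutator_mem_commutator (Subgroup.mem_top _) (Subgroup.mem_top _)
  · exact mul_mem (Subgroup.commutator_mem_commutator (Subgroup.mem_top _) (Subgroup.mem_top _))
      (Subgroup.commutator_mem_commutator (Subgroup.mem_top _) (Subgroup.mem_top _))

/-- `1` or `c`. -/
def sel (t : ZMod 2) (c : ↥cov) : ↥cov := if t = 0 then 1 else c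

theorem four_mem (q : Multiplicative (ZMod 2 × ZMod 2)) :
    sel q.toAdd.1 c2el * sel q.toAdd.2 c3el ∈ covMap.ker := by
  obtain ⟨k2, k3⟩ := gens_mem_ker
  rw [MonoidHom.mem_ker, map_mul, sel, sel]
  split <;> split <;> simp [k2, k3]

/-- The elements of the kernel. -/
def four (q : Multiplicative (ZMod 2 × ZMod 2)) : covMap.ker := ⟨_, four_mem q⟩

/-- O8+(2) has a stem extension with kernel a four-group. -/
theorem exists_four_cover : ∃ (C : Type) (_ : Group C) (_ : Finite C) (τ : C →* G0),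
    Cfsg.IsStemExtension τ ∧ Nonempty (τ.ker ≃* Multiplicative (ZMod 2 × ZMod 2)) := by
  have h2 : (c2el : Z8ˣ × Z8ˣ) = (-1, 1) := commutator_pairs.1
  have h3 : (c3el : Z8ˣ × Z8ˣ) = (-1, -1) := commutator_pairs.2
  obtain ⟨f, hf⟩ : ∃ f, f = four := ⟨_, rfl⟩
  have hval : ∀ q, (((f q : covMap.ker) : ↥cov) : Z8ˣ × Z8ˣ) =
      ((if q.toAdd.1 + q.toAdd.2 = 0 then 1 else -1), (if q.toAdd.2 = 0 then 1 else -1)) := by
    intro q
    have hcases : ∀ u : ZMod 2, u = 0 ∨ u = 1 := by decide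
    have h11 : (1 : ZMod 2) + 1 = 0 := by decide
    rw [hf, four]
    show ((sel q.toAdd.1 c2el * sel q.toAdd.2 c3el : ↥cov) : Z8ˣ × Z8ˣ) = _
    rw [Subgroup.coe_mul, sel, sel]
    rcases hcases q.toAdd.1 with h | h <;> rcases hcases q.toAdd.2 with h' | h' <;>
      simp [h, h', h2, h3, h11, Prod.ext_iff]
  have hinj : Function.Injective f := by
    intro q q' h
    have e := (hval q).symm.trans ((congrArg (fun z : covMap.ker => ((z : ↥cov) : Z8ˣ × Z8ˣ)) h).trans (hval q'))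
    rw [Prod.ext_iff] at e
    have hne := neg_one_ne_one
    have key : ∀ u v : ZMod 2, (if u = 0 then (1 : Z8ˣ) else -1) = (if v = 0 then 1 else -1) → u = v := by
      have hcases : ∀ u : ZMod 2, u = 0 ∨ u = 1 := by decide
      intro u v
      rcases hcases u with rfl | rfl <;> rcases hcases v with rfl | rfl <;> simp [hne, hne.symm]
    have e2 := key _ _ e.2
    have e1 := key _ _ e.1
    rw [e2] at e1
    exact Multiplicative.toAdd.injective (Prod.ext (add_right_cancel e1) e2)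
  have hsurj : Function.Surjective f := by
    have h11 : (1 : ZMod 2) + 1 = 0 := by decide
    rintro ⟨x, hx⟩
    rcases kernel_elems (MonoidHom.mem_ker.1 hx) with rfl | rfl | rfl | rfl
    · exact ⟨Multiplicative.ofAdd (0, 0), Subtype.ext (Subtype.ext ((hval _).trans (by simp)))⟩
    · exact ⟨Multiplicative.ofAdd (1, 0), Subtype.ext (Subtype.ext ((hval _).trans (by simp [h2])))⟩
    · exact ⟨Multiplicative.ofAdd (0, 1), Subtype.ext (Subtype.ext ((hval _).trans (by simp [h3])))⟩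
    · exact ⟨Multiplicative.ofAdd (1, 1), Subtype.ext (Subtype.ext ((hval _).trans
        (by simp [h2, h3, h11])))⟩
  have hmul : ∀ q q', f (q * q') = f q * f q' := by
    intro q q'
    refine Subtype.ext (Subtype.ext ?_)
    rw [hval, Subgroup.coe_mul, Subgroup.coe_mul, hval, hval, toAdd_mul]
    have hadd : ∀ u v : ZMod 2, (if u + v = 0 then (1 : Z8ˣ) else -1) =
        (if u = 0 then 1 else -1) * (if v = 0 then 1 else -1) := by
      have hcases : ∀ u : ZMod 2, u = 0 ∨ u = 1 := by decide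
      have h11 : (1 : ZMod 2) + 1 = 0 := by decide
      intro u v
      rcases hcases u with rfl | rfl <;> rcases hcases v with rfl | rfl <;> simp [h11]
    rw [Prod.mk_mul_mk, ← hadd, ← hadd, Prod.fst_add, Prod.snd_add]
    refine Prod.ext ?_ rfl
    show _ = _
    rw [add_add_add_comm]
  let e : Multiplicative (ZMod 2 × ZMod 2) ≃* covMap.ker :=
    MulEquiv.ofBijective (MonoidHom.mk' f hmul) ⟨hinj, hsurj⟩
  have hkf : Finite covMap.ker := Finite.of_equiv _ e.toEquiv
  have hqf : Finite (↥cov ⧸ covMap.ker) := Finite.of_injective (QuotientGroup.kerLift covMap)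
    (QuotientGroup.kerLift_injective covMap)
  have hfin : Finite ↥cov := Finite.of_equiv _ (Subgroup.groupEquivQuotientProdSubgroup (s := covMap.ker)).symm
  exact ⟨↥cov, inferInstance, hfin, covMap, covMap_stem, ⟨e.symm⟩⟩

end Cfsg.Agent.Multiplier.O8
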