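import Cfsg.Agent.Lib.Multiplier.Basic

/-!
# Sylow subgroups of class two with an inverting element

* `not_stem_of_inverting`: no stem extension of odd prime degree when a Sylow subgroup is generated
  by two elements of that order with a central commutator and some element inverts both.
* `card_closure_of_list`: the order of a generated subgroup from a list of words.
-/

set_option autoImplicit false

open scoped commutatorElement

namespace Cfsg.Agent.Multiplier

universe u v

variable {G : Type v} [Group G] {Γ : Type u} [Group Γ] [Finite Γ] {σ : Γ →* G}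

theorem eq_one_of_odd {k : Γ} {p : ℕ} (hp : Odd p) (h2 : k = k⁻¹) (hk : k ^ p = 1) : k = 1 := by
  obtain ⟨m, rfl⟩ := hp
  rwa [pow_succ, pow_mul, pow_two, eq_inv_iff_mul_eq_one.1 h2, one_pow, one_mul] at hk

/-- No stem extension of odd prime degree `p` when a Sylow subgroup is `⟨a, b⟩` of class at most 2,
`a ^ p = 1` and some element inverts both generators. -/
theorem not_stem_of_inverting (hσ : Cfsg.IsStemExtension σ) {p : ℕ} (hp : p.Prime) (hp2 : p ≠ 2)
    {a b g : G} (ha : a ^ p = 1) (hca : Commute ⁅a, b⁆ a) (hcb : Commute ⁅a, b⁆ b) (hcne : ⁅a, b⁆ ≠ 1)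
    (hga : g * a * g⁻¹ = a⁻¹) (hgb : g * b * g⁻¹ = b⁻¹)
    (hidx : ¬ p ∣ (Subgroup.closure {a, b}).index) : Nat.card σ.ker ≠ p := by
  intro hK
  have hodd : Odd p := hp.odd_of_ne_two hp2
  obtain ⟨x, rfl⟩ := hσ.1 a
  obtain ⟨y, rfl⟩ := hσ.1 b
  obtain ⟨t, rfl⟩ := hσ.1 g
  have hc := hσ.2.1
  set w := ⁅x, y⁆ with hwdef
  have hσw : σ w = ⁅σ x, σ y⁆ := map_commutatorElement σ x y
  have hpow : ∀ k ∈ σ.ker, k ^ p = 1 := fun k hk => by
    rw [← hK]; exact congrArg Subtype.val (pow_card_eq_one' (x := (⟨k, hk⟩ : σ.ker)))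
  have hkey : ∀ s : Γ, σ t * σ s * (σ t)⁻¹ = (σ s)⁻¹ → Commute (σ w) (σ s) → Commute w s := by
    intro s hs hws
    have hk : ⁅w, s⁆ ∈ σ.ker := by
      rw [MonoidHom.mem_ker, map_commutatorElement, commutatorElement_eq_one_iff_commute]; exact hws
    have hw' : σ (t * w * t⁻¹) = σ w := by
      rw [map_mul, map_mul, map_inv, hσw,
        show σ t * ⁅σ x, σ y⁆ * (σ t)⁻¹ = ⁅σ t * σ x * (σ t)⁻¹, σ t * σ y * (σ t)⁻¹⁆ by
          simp only [commutatorElement_def]; group, hga, hgb,
        show ⁅(σ x)⁻¹, (σ y)⁻¹⁆ = (σ y * σ x)⁻¹ * ⁅σ x, σ y⁆ * (σ y * σ x) by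
          simp only [commutatorElement_def]; group,
        mul_assoc, (hcb.mul_right hca).eq, inv_mul_cancel_left]
    have h1 : ⁅w, s⁆ = ⁅w, s⁻¹⁆ := by
      have e := conj_commutator t w s
      rw [Subgroup.mem_center_iff.1 (hc hk) t, mul_inv_cancel_right] at e
      rw [e]
      exact commutator_congr hc hw' (by rw [map_mul, map_mul, map_inv, hs, map_inv])
    have h2 : ⁅w, s⁻¹⁆ = ⁅w, s⁆⁻¹ := by
      rw [show ⁅w, s⁻¹⁆ = s⁻¹ * ⁅w, s⁆⁻¹ * s by simp only [commutatorElement_def]; group,
        Subgroup.mem_center_iff.1 (inv_mem (hc hk)) s⁻¹, inv_mul_cancel_right]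
    exact commutatorElement_eq_one_iff_commute.1 (eq_one_of_odd hodd (h1.trans h2) (hpow _ hk))
  have hwx : Commute w x := hkey x hga (by rw [hσw]; exact hca)
  have hwy : Commute w y := hkey y hgb (by rw [hσw]; exact hcb)
  have hwp : w ^ p = 1 := by
    have hstep : x * y * x⁻¹ = w * y := by rw [hwdef, commutatorElement_def]; group
    have hst : ∀ n : ℕ, x ^ n * y * (x ^ n)⁻¹ = w ^ n * y := by
      intro n
      induction n with
      | zero => group
      | succ n ih =>
        calc x ^ (n + 1) * y * (x ^ (n + 1))⁻¹ = x * (x ^ n * y * (x ^ n)⁻¹) * x⁻¹ := by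
              rw [pow_succ']; group
          _ = (x * w ^ n * x⁻¹) * (x * y * x⁻¹) := by rw [ih]; group
          _ = w ^ n * (w * y) := by rw [hstep, ← (hwx.pow_left n).eq, mul_inv_cancel_right]
          _ = w ^ (n + 1) * y := by rw [pow_succ, mul_assoc]
    have h3 := hst p
    have hxp : x ^ p ∈ Subgroup.center Γ := hc (by rw [MonoidHom.mem_ker, map_pow, ha])
    rw [← Subgroup.mem_center_iff.1 hxp y, mul_inv_cancel_right] at h3
    exact right_eq_mul.1 h3
  have hle := ker_le_commutator_closure hσ hp hK ({x, y} ∪ (σ.ker : Set Γ))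
    Set.subset_union_right (Subgroup.closure {σ x, σ y}) (by
      rw [Subgroup.closure_le]
      rintro _ (rfl | rfl)
      · exact ⟨x, Subgroup.subset_closure (Or.inl (Or.inl rfl)), rfl⟩
      · exact ⟨y, Subgroup.subset_closure (Or.inl (Or.inr rfl)), rfl⟩) hidx
  have hwz : σ.ker ≤ Subgroup.zpowers w := hle.trans (commutator_closure_le _ _ (fun s hs r hr => by
    have hcen : ∀ {p q : Γ}, Commute p q → ⁅p, q⁆ ∈ Subgroup.zpowers w := fun h => by
      rw [commutatorElement_eq_one_iff_commute.2 h]; exact one_mem _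
    rcases hs with (rfl | rfl) | hs
    · rcases hr with (rfl | rfl) | hr
      · exact hcen (Commute.refl _)
      · exact Subgroup.mem_zpowers w
      · exact hcen (Subgroup.mem_center_iff.1 (hc hr) _)
    · rcases hr with (rfl | rfl) | hr
      · rw [← commutatorElement_inv]; exact inv_mem (Subgroup.mem_zpowers w)
      · exact hcen (Commute.refl _)
      · exact hcen (Subgroup.mem_center_iff.1 (hc hr) _)
    · exact hcen (Subgroup.mem_center_iff.1 (hc hs) _).symm) (fun s hs m hm => by
      have hsw : Commute s w := by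
        rcases hs with (rfl | rfl) | hs
        · exact hwx.symm
        · exact hwy.symm
        · exact (Subgroup.mem_center_iff.1 (hc hs) _).symm
      obtain ⟨n, rfl⟩ := Subgroup.mem_zpowers_iff.1 hm
      rw [(hsw.zpow_right n).eq, mul_inv_cancel_right]
      exact Subgroup.zpow_mem_zpowers w n))
  have : Fact p.Prime := ⟨hp⟩
  have hσwp : orderOf (σ w) = p :=
    orderOf_eq_prime (by rw [← map_pow, hwp, map_one]) (by rw [hσw]; exact hcne)
  have hbot : σ.ker = ⊥ := by
    rw [Subgroup.eq_bot_iff_forall]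
    intro z hz
    obtain ⟨n, rfl⟩ := Subgroup.mem_zpowers_iff.1 (hwz hz)
    rw [MonoidHom.mem_ker, map_zpow, ← orderOf_dvd_iff_zpow_eq_one, hσwp] at hz
    obtain ⟨m, rfl⟩ := hz
    rw [zpow_mul, show w ^ (p : ℤ) = w ^ p from zpow_natCast w p, hwp, one_zpow]
  rw [hbot, Subgroup.card_bot] at hK
  exact hp.ne_one hK.symm

omit [Finite Γ] in
/-- The order of the subgroup generated by the first `m` letters from a list of words. -/
theorem card_closure_of_list [Finite G] (f : ℕ → G) (m : ℕ) (els : List (List ℕ))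
    (hlt : ∀ l ∈ els, ∀ i ∈ l, i < m) (hone : [] ∈ els)
    (hmul : ∀ l ∈ els, ∀ i < m, ∃ r ∈ els, ((l ++ [i]).map f).prod = (r.map f).prod)
    (hinj : ∀ i < els.length, ∀ j < i, ((els.getD i []).map f).prod ≠ ((els.getD j []).map f).prod) :
    Nat.card (Subgroup.closure (f '' {i | i < m})) = els.length := by
  classical
  obtain ⟨P, hP⟩ : ∃ P, P = Subgroup.closure (f '' {i | i < m}) := ⟨_, rfl⟩
  have hmem : ∀ l ∈ els, (l.map f).prod ∈ P := fun l hl => Subgroup.list_prod_mem P fun x hx => by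
    obtain ⟨i, hi, rfl⟩ := List.mem_map.1 hx
    exact hP ▸ Subgroup.subset_closure ⟨i, hlt l hl i hi, rfl⟩
  let F : Fin els.length → P := fun i => ⟨((els.getD i.1 []).map f).prod, hmem _ (by
    rw [List.getD_eq_getElem?_getD, List.getElem?_eq_getElem i.2]; exact List.getElem_mem i.2)⟩
  have hi : Function.Injective F := fun i j e => by
    have e' := congrArg Subtype.val e
    rcases lt_trichotomy i.1 j.1 with h | h | h
    · exact absurd e'.symm (hinj j.1 j.2 i.1 h)
    · exact Fin.ext h
    · exact absurd e' (hinj i.1 i.2 j.1 h)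
  have hs : Function.Surjective F := by
    rintro ⟨x, hx⟩
    suffices H : ∃ l ∈ els, (l.map f).prod = x by
      obtain ⟨l, hl, rfl⟩ := H
      obtain ⟨i, rfl⟩ := List.get_of_mem hl
      exact ⟨i, Subtype.ext (by simp [F, List.getD_eq_getElem?_getD])⟩
    rw [hP, ← Subgroup.mem_toSubmonoid, Subgroup.closure_toSubmonoid_of_finite] at hx
    induction hx using Submonoid.closure_induction_right with
    | one => exact ⟨[], hone, rfl⟩
    | mul_right x _ y hy ih =>
      obtain ⟨l, hl, rfl⟩ := ih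
      obtain ⟨i, hi, rfl⟩ := hy
      obtain ⟨r, hr, he⟩ := hmul l hl i hi
      refine ⟨r, hr, ?_⟩
      rw [← he, List.map_append, List.prod_append, List.map_singleton, List.prod_singleton]
  rw [← hP, ← Nat.card_congr (Equiv.ofBijective F ⟨hi, hs⟩), Nat.card_fin]

end Cfsg.Agent.Multiplier
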