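import Cfsg.Prelude.Def_KGroupFacts
import Cfsg.Agent.EqLemmas

/-!
# Four-group multipliers detected by two commuting pairs

* `exists_prime_quotient_sub`: a proper subgroup of the kernel dies in a stem extension with kernel
  of prime order.
* `hasSchurMultiplier_four_of_pairs`: the multiplier is a four-group when there is such a cover and
  in no stem extension with kernel of prime order the lifts of both pairs `x, y` and `x, z` commute.
-/

set_option autoImplicit false

open scoped commutatorElement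

namespace Cfsg.Agent.Multiplier

universe u v

/-- A subgroup not containing the kernel, inside it, dies in a quotient with kernel of prime order. -/
theorem exists_prime_quotient_sub {G : Type v} [Group G] {Γ : Type u} [Group Γ] [Finite Γ] {σ : Γ →* G}
    (hσ : Cfsg.IsStemExtension σ) {S : Subgroup Γ} (hS : S ≤ σ.ker) (hne : ¬ σ.ker ≤ S) :
    ∃ (Δ : Type u) (_ : Group Δ) (_ : Finite Δ) (τ : Δ →* G) (π : Γ →* Δ),
      Cfsg.IsStemExtension τ ∧ (Nat.card τ.ker).Prime ∧ τ.comp π = σ ∧ ∀ c ∈ S, π c = 1 := by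
  have hnb : S.subgroupOf σ.ker ≠ ⊤ := fun h =>
    hne (Subgroup.subgroupOf_eq_top.1 h)
  obtain ⟨M, hM, hcM⟩ := (eq_top_or_exists_le_coatom (S.subgroupOf σ.ker)).resolve_left hnb
  have hcomm : ∀ x y : σ.ker, x * y = y * x := fun x y =>
    Subtype.ext (Subgroup.mem_center_iff.1 (hσ.2.1 y.2) x.1)
  have : M.Normal := ⟨fun n hn g => by rwa [hcomm g n, mul_inv_cancel_right]⟩
  -- the index of `M` is prime
  have hprime : (M.index).Prime := by
    have hne1 : M.index ≠ 1 := fun h1 => hM.1 (Subgroup.index_eq_one.1 h1)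
    obtain ⟨p, hp, hpd⟩ := Nat.exists_prime_and_dvd hne1
    have := Fact.mk hp
    obtain ⟨q, hq⟩ := exists_prime_orderOf_dvd_card' (G := σ.ker ⧸ M) p hpd
    obtain ⟨x, rfl⟩ := QuotientGroup.mk'_surjective M q
    have hx : x ∉ M := fun hx => by
      rw [QuotientGroup.mk'_apply, (QuotientGroup.eq_one_iff x).2 hx, orderOf_one] at hq
      exact hp.ne_one hq.symm
    have htop : (Subgroup.zpowers (QuotientGroup.mk' M x)) = ⊤ := by
      have hlt : M < (Subgroup.zpowers (QuotientGroup.mk' M x)).comap (QuotientGroup.mk' M) := by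
        refine lt_of_le_of_ne (fun m hm => ?_) fun he => hx ?_
        · rw [Subgroup.mem_comap, show QuotientGroup.mk' M m = 1 from (QuotientGroup.eq_one_iff m).2 hm]
          exact one_mem _
        · rw [he, Subgroup.mem_comap]; exact Subgroup.mem_zpowers _
      have := hM.2 _ hlt
      rw [← Subgroup.map_comap_eq_self_of_surjective (QuotientGroup.mk'_surjective M)
        (Subgroup.zpowers (QuotientGroup.mk' M x)), this,
        Subgroup.map_top_of_surjective _ (QuotientGroup.mk'_surjective M)]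
    have : M.index = p := by
      change Nat.card (σ.ker ⧸ M) = p
      rw [← Subgroup.card_top, ← htop, Nat.card_zpowers, hq]
    rw [this]; exact hp
  let N : Subgroup Γ := M.map σ.ker.subtype
  have hNle : N ≤ σ.ker := Subgroup.map_subtype_le M
  have hNn : N.Normal := ⟨fun n hn g => by
    rw [Subgroup.mem_center_iff.1 (hσ.2.1 (hNle hn)) g, mul_inv_cancel_right]; exact hn⟩
  let τ : Γ ⧸ N →* G := QuotientGroup.lift N σ hNle
  have hker : τ.ker = σ.ker.map (QuotientGroup.mk' N) := QuotientGroup.ker_lift N σ hNle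
  have hstem : Cfsg.IsStemExtension τ := by
    refine ⟨fun g => ?_, ?_, ?_⟩
    · obtain ⟨x, hx⟩ := hσ.1 g
      exact ⟨QuotientGroup.mk' N x, hx⟩
    · rw [hker]
      rintro _ ⟨x, hx, rfl⟩
      rw [Subgroup.mem_center_iff]
      intro g
      obtain ⟨y, rfl⟩ := QuotientGroup.mk'_surjective N g
      rw [← map_mul, ← map_mul, Subgroup.mem_center_iff.1 (hσ.2.1 hx) y]
    · rw [hker]
      refine (Subgroup.map_mono hσ.2.2).trans ?_
      rw [commutator_def, Subgroup.map_commutator]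
      exact Subgroup.commutator_mono le_top le_top
  refine ⟨Γ ⧸ N, inferInstance, inferInstance, τ, QuotientGroup.mk' N, hstem, ?_, rfl, ?_⟩
  · have : Nat.card τ.ker = M.index := by
      let f : σ.ker →* Γ ⧸ N := (QuotientGroup.mk' N).comp σ.ker.subtype
      have hfr : f.range = τ.ker := by
        rw [hker, MonoidHom.range_comp, Subgroup.range_subtype]
      have hfk : f.ker = M := by
        ext x
        rw [MonoidHom.mem_ker, MonoidHom.comp_apply, QuotientGroup.mk'_apply, QuotientGroup.eq_one_iff]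
        exact ⟨fun ⟨m, hm, he⟩ => Subtype.ext he ▸ hm, fun hx => ⟨x, hx, rfl⟩⟩
      rw [← hfr, ← Subgroup.index_ker, hfk]
    rwa [this]
  · exact fun c hc => (QuotientGroup.eq_one_iff c).2 ⟨⟨c, hS hc⟩, hcM (Subgroup.mem_subgroupOf.2 hc), rfl⟩

/-- Four-group multiplier detected by two commuting pairs. -/
theorem hasSchurMultiplier_four_of_pairs {G : Type u} [Group G] {x y z : G} (hx : x * x = 1)
    (hxy : x * y = y * x) (hxz : x * z = z * x)
    (hcov : ∃ (Γ : Type u) (_ : Group Γ) (_ : Finite Γ) (σ : Γ →* G),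
      Cfsg.IsStemExtension σ ∧ Nonempty (σ.ker ≃* Multiplicative (ZMod 2 × ZMod 2)))
    (h : ∀ (Γ : Type u) [Group Γ] [Finite Γ] (σ : Γ →* G), Cfsg.IsStemExtension σ →
      (Nat.card σ.ker).Prime → ∀ a b c : Γ, σ a = x → σ b = y → σ c = z → a * b ≠ b * a ∨ a * c ≠ c * a) :
    Cfsg.HasSchurMultiplier G (Multiplicative (ZMod 2 × ZMod 2)) := by
  refine ⟨hcov, fun Γ _ _ σ hσ => ?_⟩
  obtain ⟨a, ha⟩ := hσ.1 x
  obtain ⟨b, hb⟩ := hσ.1 y
  obtain ⟨c, hc⟩ := hσ.1 z
  have hk : ∀ w, x * σ w = σ w * x → ⁅a, w⁆ ∈ σ.ker := fun w hw => by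
    rw [MonoidHom.mem_ker, map_commutatorElement, ha, commutatorElement_eq_one_iff_mul_comm, hw]
  have hkb := hk b (by rw [hb]; exact hxy)
  have hkc := hk c (by rw [hc]; exact hxz)
  have hcen : ∀ w ∈ σ.ker, ∀ g, g * w = w * g := fun w hw => Subgroup.mem_center_iff.1 (hσ.2.1 hw)
  have hsq : ∀ w, x * σ w = σ w * x → ⁅a, w⁆ * ⁅a, w⁆ = 1 := fun w hw => by
    obtain ⟨k, hk'⟩ : ∃ k, k = ⁅a, w⁆ := ⟨_, rfl⟩
    have haa : a * a ∈ Subgroup.center Γ := hσ.2.1 (by rw [MonoidHom.mem_ker, map_mul, ha, hx])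
    have hcc : ∀ g, g * k = k * g := hcen k (hk' ▸ hk w hw)
    have hab : a * w = k * (w * a) := by rw [hk', commutatorElement_def]; group
    have h2 : a * a * w = k * k * (w * (a * a)) := by
      calc a * a * w = a * (k * (w * a)) := by rw [mul_assoc, hab]
        _ = k * (a * w * a) := by rw [← mul_assoc, hcc a]; simp only [mul_assoc]
        _ = k * k * (w * (a * a)) := by rw [hab]; simp only [mul_assoc]
    rw [Subgroup.mem_center_iff.1 haa w] at h2
    rw [← hk']
    exact mul_eq_right.1 h2.symm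
  have hs1 := hsq b (by rw [hb]; exact hxy)
  have hs2 := hsq c (by rw [hc]; exact hxz)
  obtain ⟨k, hkdef⟩ : ∃ k : σ.ker, k = ⟨⁅a, b⁆, hkb⟩ := ⟨_, rfl⟩
  obtain ⟨l, hldef⟩ : ∃ l : σ.ker, l = ⟨⁅a, c⁆, hkc⟩ := ⟨_, rfl⟩
  have hk2 : k * k = 1 := by rw [hkdef]; exact Subtype.ext hs1
  have hl2 : l * l = 1 := by rw [hldef]; exact Subtype.ext hs2
  have hkl : ∀ u v : σ.ker, u * v = v * u := fun u v => Subtype.ext (hcen v v.2 u)
  let sel : ZMod 2 → σ.ker → σ.ker := fun t w => if t = 0 then 1 else w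
  have hadd : ∀ (w : σ.ker), w * w = 1 → ∀ s t : ZMod 2, sel (s + t) w = sel s w * sel t w := by
    intro w hw s t
    have hcases : ∀ u : ZMod 2, u = 0 ∨ u = 1 := by decide
    have h11 : (1 : ZMod 2) + 1 = 0 := by decide
    rcases hcases s with rfl | rfl <;> rcases hcases t with rfl | rfl <;> simp [sel, h11, hw]
  let f : Multiplicative (ZMod 2 × ZMod 2) →* σ.ker :=
    MonoidHom.mk' (fun q => sel q.toAdd.1 k * sel q.toAdd.2 l) fun q q' => by
      rw [toAdd_mul, Prod.fst_add, Prod.snd_add, hadd k hk2, hadd l hl2]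
      calc sel q.toAdd.1 k * sel q'.toAdd.1 k * (sel q.toAdd.2 l * sel q'.toAdd.2 l)
          = sel q.toAdd.1 k * (sel q'.toAdd.1 k * sel q.toAdd.2 l) * sel q'.toAdd.2 l := by
            simp only [mul_assoc]
        _ = sel q.toAdd.1 k * sel q.toAdd.2 l * (sel q'.toAdd.1 k * sel q'.toAdd.2 l) := by
            rw [hkl (sel q'.toAdd.1 k)]; simp only [mul_assoc]
  refine ⟨f, ?_⟩
  obtain ⟨S, hS⟩ : ∃ S, S = f.range.map σ.ker.subtype := ⟨_, rfl⟩
  have hSle : S ≤ σ.ker := hS ▸ Subgroup.map_subtype_le _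
  have hgen : σ.ker ≤ S := by
    by_contra hne
    obtain ⟨Δ, i1, i2, τ, π, hτ, hp, hcomp, hπ⟩ := exists_prime_quotient_sub hσ hSle hne
    have hπσ : ∀ w, τ (π w) = σ w := fun w => by rw [← hcomp]; rfl
    have hbS : ⁅a, b⁆ ∈ S := hS ▸ ⟨f (Multiplicative.ofAdd (1, 0)), ⟨_, rfl⟩, by simp [f, sel, hkdef]⟩
    have hcS : ⁅a, c⁆ ∈ S := hS ▸ ⟨f (Multiplicative.ofAdd (0, 1)), ⟨_, rfl⟩, by simp [f, sel, hldef]⟩
    rcases h Δ τ hτ hp (π a) (π b) (π c) (by rw [hπσ, ha]) (by rw [hπσ, hb]) (by rw [hπσ, hc]) with h1 | h1 <;>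
      apply h1 <;> rw [← commutatorElement_eq_one_iff_mul_comm, ← map_commutatorElement]
    · exact hπ _ hbS
    · exact hπ _ hcS
  intro w
  obtain ⟨v, ⟨q, rfl⟩, hv⟩ := hS ▸ hgen w.2
  exact ⟨q, Subtype.ext hv⟩

end Cfsg.Agent.Multiplier
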