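import Cfsg.Agent.Lib.Multiplier.Basic
import Cfsg.Agent.Lib.PcCover.Collect

/-!
# Tail certificates at an arbitrary prime

A polycyclic presentation of a Sylow `p`-subgroup, consistency relations and fusion relations
(words in elements of the Sylow subgroup carried to elements of the Sylow subgroup by one element of
the group, balanced modulo `p`) give linear equations over `ZMod p` on the tails of a central extension
with kernel of order `p`.  When together with a normalisation of the lifts they force all tails to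
vanish, the preimage of the Sylow subgroup splits and no such extension is a stem extension.

* `step`, `collect`, `collect_sound`: collection, recording the relations used
* `Cert`, `Cert.check`, `Cert.not_stem`
-/

set_option autoImplicit false
set_option linter.style.haveILetI false

open scoped commutatorElement

namespace Cfsg.Agent.Multiplier.PrimeTails

open PcCover (wp wp_nil wp_cons wp_append)

/-- Index of a relation. -/
def ti (a b : ℕ) : ℕ := a * (a + 1) / 2 + b

/-- The relations in the order of their indices. -/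
def pairs (n : ℕ) : List (ℕ × ℕ) :=
  (List.range n).flatMap fun a => (List.range (a + 1)).map fun b => (a, b)

/-- The left side of a relation. -/
def lhs (p a b : ℕ) : List ℕ := if a = b then List.replicate p a else [a, b]

/-- The right side of a relation. -/
def rhs (R : List (List ℕ)) (a b : ℕ) : List ℕ := R.getD (ti a b) []

/-- `k` copies at the head are removed. -/
def stripRep : ℕ → ℕ → List ℕ → Option (List ℕ)
  | 0, _, l => some l
  | k + 1, a, b :: l => cond (Nat.beq a b) (stripRep k a l) none
  | _ + 1, _, [] => none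

/-- A step at the head of a word. -/
def headStep (p n : ℕ) (R : List (List ℕ)) : List ℕ → Option (List ℕ × ℕ)
  | [] => none
  | a :: l =>
    cond (Nat.blt a n)
      (match l with
        | [] => none
        | b :: l' =>
          cond (Nat.blt b a) (some (rhs R a b ++ l', ti a b))
            (match stripRep p a (a :: b :: l') with
              | some t => some (rhs R a a ++ t, ti a a)
              | none => none))
      none

/-- Collection, recording the relations used: `L` is the reversed part already scanned. -/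
def collect (p n : ℕ) (R : List (List ℕ)) : ℕ → List ℕ → List ℕ → List ℕ → List ℕ × List ℕ
  | 0, L, W, ks => (L.reverse ++ W, ks)
  | _ + 1, L, [], ks => (L.reverse, ks)
  | f + 1, L, a :: W, ks =>
    match headStep p n R (a :: W) with
    | some r => collect p n R f (L.drop p) ((L.take p).reverse ++ r.1) (r.2 :: ks)
    | none => collect p n R f (a :: L) W ks

/-- Relations on the tails. -/
inductive Rel
  /-- Two ways of collecting `u` followed by the left side of a relation. -/
  | cons (u : List ℕ) (a b : ℕ)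
  /-- Elements carried to elements by conjugation, and two words in them with equal values. -/
  | fus (Xs Ys : List (List ℕ)) (l r : List ℕ)

/-- The word obtained by substitution. -/
def cat (Xs : List (List ℕ)) (w : List ℕ) : List ℕ := w.flatMap fun j => Xs.getD j []

/-- The lanes of packed multiplicities. -/
def lane : ℕ := 16777216

/-- Packed multiplicities together with their total. -/
def encL : List ℕ → ℕ × ℕ
  | [] => (0, 0)
  | k :: l => (lane ^ k + (encL l).1, (encL l).2 + 1)

/-- A linear combination of two pairs. -/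
def mix (c d : ℕ) (q q' : ℕ × ℕ) : ℕ × ℕ := (c * q.1 + d * q'.1, c * q.2 + d * q'.2)

/-- The sum of pairs. -/
def sumP : List (ℕ × ℕ) → ℕ × ℕ
  | [] => (0, 0)
  | q :: l => (q.1 + (sumP l).1, q.2 + (sumP l).2)

/-- Divisibility test. -/
def dvdP (p : ℕ) (z : ℤ) : Bool := z % (p : ℤ) == 0

/-- A certificate. -/
structure Cert where
  /-- The prime. -/
  p : ℕ
  /-- The number of generators. -/
  n : ℕ
  /-- The right sides of the relations. -/
  rules : List (List ℕ)
  /-- Relations on the tails. -/
  rels : List Rel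
  /-- Their vectors. -/
  rv : List ((ℕ × ℕ) × (ℕ × ℕ))
  /-- The tails removed by a choice of the lifts. -/
  piv : List (ℕ × ℕ)
  /-- The matrix of that choice. -/
  minv : List (List ℤ)
  /-- Every unit vector as a combination of the relations and the removed tails. -/
  combs : List (List (ℕ × ℕ) × List (ℕ × ℕ))
  /-- The bound on the number of collection steps. -/
  fuel : ℕ

namespace Cert

variable (C : Cert)

/-- The number of tails. -/
def size : ℕ := (pairs C.n).length

/-- Collection with the fuel of the certificate. -/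
def nf (w : List ℕ) : List ℕ × List ℕ := collect C.p C.n C.rules C.fuel [] w []

/-- The two multisets of tails equated by a relation. -/
def relPair : Rel → List ℕ × List ℕ
  | .cons u a b => ((C.nf (u ++ lhs C.p a b)).2, ti a b :: (C.nf (u ++ rhs C.rules a b)).2)
  | .fus Xs Ys l r =>
    ((C.nf (cat Xs l)).2 ++ (C.nf (cat Ys r)).2, (C.nf (cat Xs r)).2 ++ (C.nf (cat Ys l)).2)

/-- Validity of a relation. -/
def relOk : Rel → Bool
  | .cons u a b =>
    decide (a < C.n) && decide (b ≤ a) &&
      (C.nf (u ++ lhs C.p a b)).1 == (C.nf (u ++ rhs C.rules a b)).1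
  | .fus Xs Ys l r =>
    (l ++ r).all (fun j => decide (j < Xs.length)) &&
      ((List.range Xs.length).all fun j => dvdP C.p ((l.count j : ℤ) - r.count j)) &&
      (C.nf (cat Xs l)).1 == (C.nf (cat Xs r)).1 && (C.nf (cat Ys l)).1 == (C.nf (cat Ys r)).1

/-- The packed vectors of a relation. -/
def relVec (r : Rel) : (ℕ × ℕ) × (ℕ × ℕ) := (encL (C.relPair r).1, encL (C.relPair r).2)

/-- The shape of the relations. -/
def shapeOk : Bool :=
  decide (2 ≤ C.p) &&
  (List.range C.n).all fun a => (List.range (a + 1)).all fun b =>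
    (pairs C.n).getD (ti a b) (0, 0) == (a, b) && decide (ti a b < C.size) &&
      (if a = b then (rhs C.rules a b).all (fun i => decide (b < i ∧ i < C.n))
       else (rhs C.rules a b).head? == some b &&
         (rhs C.rules a b).tail.all (fun i => decide (b < i ∧ i < C.n)))

/-- Change of a removed tail by the change of the lift of a generator. -/
def dcoef (m i : ℕ) : ℤ :=
  ((lhs C.p (C.piv.getD m (0, 0)).1 (C.piv.getD m (0, 0)).2).count i : ℤ) -
    (rhs C.rules (C.piv.getD m (0, 0)).1 (C.piv.getD m (0, 0)).2).count i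

/-- The normalisation. -/
def pivOk : Bool :=
  (List.range C.piv.length).all fun m =>
    decide ((C.piv.getD m (0, 0)).1 < C.n) && decide ((C.piv.getD m (0, 0)).2 ≤ (C.piv.getD m (0, 0)).1) &&
    (List.range C.piv.length).all fun m' =>
      dvdP C.p (((List.range C.n).map fun i => C.dcoef m i * (C.minv.getD i []).getD m' 0).sum -
        (if m = m' then 1 else 0))

/-- The packed vector of a combination. -/
def combVec (c : List (ℕ × ℕ) × List (ℕ × ℕ)) : ℕ × ℕ :=
  sumP ((c.1.map fun q =>
      mix q.2 (C.p - q.2) (C.rv.getD q.1 ((0, 0), (0, 0))).1 (C.rv.getD q.1 ((0, 0), (0, 0))).2) ++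
    c.2.map fun q =>
      mix q.2 0 (encL [ti (C.piv.getD q.1 (0, 0)).1 (C.piv.getD q.1 (0, 0)).2]) (0, 0))

/-- All tails vanish. -/
def combOk : Bool :=
  (List.range C.size).all fun k =>
    let c := C.combs.getD k ([], [])
    let v := C.combVec c
    c.1.all (fun q => Nat.blt q.1 C.rv.length && Nat.ble q.2 C.p) && c.2.all (fun q => Nat.blt q.1 C.piv.length) &&
      Nat.blt v.2 lane &&
      (List.range C.size).all fun j => Nat.beq (v.1 / lane ^ j % lane % C.p) (cond (Nat.beq j k) 1 0)

/-- The relations are valid and have the given vectors. -/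
def relsOk (lo hi : ℕ) : Bool :=
  ((C.rels.take hi).drop lo).all fun r =>
    C.relOk r && ((C.relPair r).1 ++ (C.relPair r).2).all (fun k => decide (k < C.size))

/-- The whole check, apart from facts about the group. -/
def Checked : Prop :=
  C.shapeOk = true ∧ C.pivOk = true ∧ C.combOk = true ∧ C.rels.map C.relVec = C.rv ∧
    ∀ r ∈ C.rels, C.relOk r = true ∧ ∀ k ∈ (C.relPair r).1 ++ (C.relPair r).2, k < C.size

theorem checked_of (h1 : C.shapeOk = true) (h2 : C.pivOk = true) (h3 : C.combOk = true)
    (h4 : (C.rels.map C.relVec == C.rv) = true) (h5 : C.relsOk 0 C.rels.length = true) : C.Checked := by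
  refine ⟨h1, h2, h3, beq_iff_eq.1 h4, ?_⟩
  simp only [relsOk, List.take_length, List.drop_zero, List.all_eq_true, Bool.and_eq_true,
    decide_eq_true_eq] at h5
  exact h5

/-- The fusion relations hold in the group. -/
def FusHold {G : Type*} [Group G] (g : ℕ → G) : Prop :=
  ∀ Xs Ys l r, Rel.fus Xs Ys l r ∈ C.rels →
    ∃ x : G, ∀ j < Xs.length, x * wp g (Xs.getD j []) = wp g (Ys.getD j []) * x

end Cert

section enc

variable {p : ℕ} (τ : ℕ → ZMod p) (N : ℕ)

theorem sum_count_eq {M : Type*} [CommRing M] (f : ℕ → M) {N : ℕ} :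
    ∀ (l : List ℕ), (∀ k ∈ l, k < N) →
      (l.map f).sum = ∑ k ∈ Finset.range N, ((l.count k : ℤ) : M) * f k
  | [], _ => by simp
  | a :: l, h => by
    rw [List.map_cons, List.sum_cons, sum_count_eq f l fun k hk => h k (List.mem_cons_of_mem _ hk)]
    have ha : a ∈ Finset.range N := Finset.mem_range.2 (h a List.mem_cons_self)
    have e : ∀ k, (((a :: l).count k : ℤ) : M) * f k =
        ((l.count k : ℤ) : M) * f k + (if a = k then f a else 0) := by
      intro k
      by_cases hak : a = k
      · subst hak; rw [List.count_cons_self]; simp [add_mul]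
      · rw [List.count_cons_of_ne hak]; simp [hak]
    rw [Finset.sum_congr rfl fun k _ => e k, Finset.sum_add_distrib, Finset.sum_ite_eq, if_pos ha, add_comm]

/-- The pair packs multiplicities whose value at the tails is `x`. -/
def Packs (q : ℕ × ℕ) (x : ZMod p) : Prop :=
  ∃ f : ℕ → ℕ, q.1 = ∑ k ∈ Finset.range N, f k * lane ^ k ∧ q.2 = ∑ k ∈ Finset.range N, f k ∧
    x = ∑ k ∈ Finset.range N, (f k : ZMod p) * τ k

theorem packs_zero : Packs τ N (0, 0) 0 := ⟨fun _ => 0, by simp, by simp, by simp⟩

theorem packs_mix {q q' : ℕ × ℕ} {x y : ZMod p} (h : Packs τ N q x) (h' : Packs τ N q' y) (c d : ℕ) :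
    Packs τ N (mix c d q q') ((c : ZMod p) * x + (d : ZMod p) * y) := by
  obtain ⟨f, h1, h2, rfl⟩ := h
  obtain ⟨f', h1', h2', rfl⟩ := h'
  refine ⟨fun k => c * f k + d * f' k, ?_, ?_, ?_⟩
  · simp only [mix, h1, h1', Finset.mul_sum, ← Finset.sum_add_distrib, add_mul, mul_assoc]
  · simp only [mix, h2, h2', Finset.mul_sum, ← Finset.sum_add_distrib]
  · simp only [Finset.mul_sum, ← Finset.sum_add_distrib, Nat.cast_add, Nat.cast_mul, add_mul, mul_assoc]

theorem packs_sumP : ∀ l : List (ℕ × ℕ), (∀ q ∈ l, Packs τ N q 0) → Packs τ N (sumP l) 0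
  | [], _ => packs_zero τ N
  | q :: l, h => by
    have := packs_mix τ N (h q List.mem_cons_self)
      (packs_sumP l fun r hr => h r (List.mem_cons_of_mem _ hr)) 1 1
    simpa [mix, sumP] using this

theorem packs_encL : ∀ ks : List ℕ, (∀ k ∈ ks, k < N) → Packs τ N (encL ks) (ks.map τ).sum
  | [], _ => packs_zero τ N
  | a :: l, h => by
    have ha : a ∈ Finset.range N := Finset.mem_range.2 (h a List.mem_cons_self)
    have h0 : Packs τ N (lane ^ a, 1) (τ a) := by
      refine ⟨fun k => if k = a then 1 else 0, ?_, ?_, ?_⟩ <;> simp [Finset.mem_range.1 ha]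
    have := packs_mix τ N h0 (packs_encL l fun k hk => h k (List.mem_cons_of_mem _ hk)) 1 1
    simpa [mix, encL, add_comm] using this

theorem digit_sum (f : ℕ → ℕ) : ∀ (N j : ℕ), j < N → (∀ k < N, f k < lane) →
    (∑ k ∈ Finset.range N, f k * lane ^ k) / lane ^ j % lane = f j := by
  intro N
  induction N generalizing f with
  | zero => intro j hj; omega
  | succ N ih =>
    intro j hj hf
    have e : ∑ k ∈ Finset.range (N + 1), f k * lane ^ k =
        f 0 + lane * ∑ k ∈ Finset.range N, f (k + 1) * lane ^ k := by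
      rw [Finset.sum_range_succ', Finset.mul_sum, add_comm]
      congr 1
      · simp
      · exact Finset.sum_congr rfl fun k _ => by ring
    rw [e]
    cases j with
    | zero => rw [pow_zero, Nat.div_one, Nat.add_mul_mod_self_left, Nat.mod_eq_of_lt (hf 0 (by omega))]
    | succ j =>
      rw [pow_succ', ← Nat.div_div_eq_div_mul, Nat.add_mul_div_left _ _ (by norm_num [lane]),
        Nat.div_eq_of_lt (hf 0 (by omega)), zero_add]
      exact ih (fun k => f (k + 1)) j (by omega) fun k hk => hf (k + 1) (by omega)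

theorem cast_of_dvdP {z : ℤ} (h : dvdP p z = true) : (z : ZMod p) = 0 := by
  rw [ZMod.intCast_zmod_eq_zero_iff_dvd]
  exact Int.dvd_of_emod_eq_zero (beq_iff_eq.1 h)

end enc

section

variable {Γ : Type*} [Group Γ] {p n : ℕ} {R : List (List ℕ)} {a : ℕ → Γ} {e : ZMod p → Γ}
  {τ : ℕ → ZMod p}
  (he : ∀ x y, e (x + y) = e x * e y) (hec : ∀ x (g : Γ), g * e x = e x * g)
  (hrel : ∀ i j, i < n → j ≤ i → wp a (lhs p i j) = wp a (rhs R i j) * e (τ (ti i j)))

theorem stripRep_eq : ∀ (k x : ℕ) (l t : List ℕ), stripRep k x l = some t → l = List.replicate k x ++ t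
  | 0, x, l, t, h => by
    simp only [stripRep, Option.some.injEq] at h
    simp [h]
  | k + 1, x, [], t, h => by simp [stripRep] at h
  | k + 1, x, b :: l, t, h => by
    simp only [stripRep] at h
    cases hb : Nat.beq x b with
    | false => simp [hb] at h
    | true =>
      rw [hb] at h
      rw [List.replicate_succ, List.cons_append, ← stripRep_eq k x l t h, Nat.eq_of_beq_eq_true hb]

include hec hrel in
theorem head_sound (w : List ℕ) (r : List ℕ × ℕ) (h : headStep p n R w = some r) :
    wp a w = wp a r.1 * e (τ r.2) := by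
  cases w with
  | nil => simp [headStep] at h
  | cons x l =>
    simp only [headStep] at h
    cases hx : Nat.blt x n with
    | false => simp [hx] at h
    | true =>
      rw [hx] at h
      replace hx : x < n := by simpa using hx
      cases l with
      | nil => simp at h
      | cons b l' =>
        simp only [cond_true] at h
        cases hb : Nat.blt b x with
        | true =>
          simp only [hb, cond_true, Option.some.injEq] at h
          subst h
          replace hb : b < x := by simpa using hb
          have := hrel x b hx hb.le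
          rw [lhs, if_neg (by omega)] at this
          rw [show x :: b :: l' = [x, b] ++ l' from rfl, wp_append, this, wp_append, mul_assoc, mul_assoc,
            hec]
        | false =>
          simp only [hb, cond_false] at h
          cases ht : stripRep p x (x :: b :: l') with
          | none => simp [ht] at h
          | some t =>
            simp only [ht, Option.some.injEq] at h
            subst h
            have := hrel x x hx le_rfl
            rw [lhs, if_pos rfl] at this
            rw [stripRep_eq p x _ t ht, wp_append, this, wp_append, mul_assoc, mul_assoc, hec]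

include he hec hrel in
theorem collect_sound : ∀ (k : ℕ) (L W ks : List ℕ),
    wp a (L.reverse ++ W) * e (ks.map τ).sum =
      wp a (collect p n R k L W ks).1 * e ((collect p n R k L W ks).2.map τ).sum
  | 0, L, W, ks => rfl
  | k + 1, L, [], ks => by simp [collect]
  | k + 1, L, x :: W, ks => by
    rw [collect]
    split
    · next r hr =>
      rw [← collect_sound k, wp_append, head_sound hec hrel _ r hr, List.map_cons, List.sum_cons, he,
        ← List.append_assoc, ← List.reverse_append, List.take_append_drop, wp_append]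
      simp only [mul_assoc]
    · rw [← collect_sound k, List.reverse_cons, List.append_assoc, List.singleton_append]

end

section

variable {Γ : Type*} [Group Γ] (C : Cert) {a : ℕ → Γ} {e : ZMod C.p → Γ} {τ : ℕ → ZMod C.p}
  (he : ∀ x y, e (x + y) = e x * e y) (he0 : e 0 = 1) (hec : ∀ x (g : Γ), g * e x = e x * g)
  (hrel : ∀ i j, i < C.n → j ≤ i → wp a (lhs C.p i j) = wp a (rhs C.rules i j) * e (τ (ti i j)))

include he he0 hec hrel

theorem nf_sound (w : List ℕ) : wp a w = wp a (C.nf w).1 * e ((C.nf w).2.map τ).sum := by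
  have h := collect_sound he hec hrel C.fuel [] w []
  rwa [List.map_nil, List.sum_nil, he0, mul_one, List.reverse_nil, List.nil_append] at h

theorem sum_eq_of_nf {u w : List ℕ} (h : (C.nf u).1 = (C.nf w).1) :
    wp a u = wp a w * e (((C.nf u).2.map τ).sum - ((C.nf w).2.map τ).sum) := by
  rw [nf_sound C he he0 hec hrel u, nf_sound C he he0 hec hrel w, h, mul_assoc, ← he, add_sub_cancel]

variable (hinj : Function.Injective e) {G : Type*} [Group G] {σ : Γ →* G} {g : ℕ → G}
  (hσ : Function.Surjective σ) (ha : ∀ i, σ (a i) = g i) (hker : ∀ x : Γ, σ x = 1 → ∃ c, x = e c)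

include hinj hσ ha hker

theorem relPair_sum (r : Rel) (hok : C.relOk r = true)
    (hfus : ∀ Xs Ys l l', r = Rel.fus Xs Ys l l' →
      ∃ x : G, ∀ j < Xs.length, x * wp g (Xs.getD j []) = wp g (Ys.getD j []) * x) :
    ((C.relPair r).1.map τ).sum = ((C.relPair r).2.map τ).sum := by
  cases r with
  | cons u i j =>
    simp only [Cert.relOk, Bool.and_eq_true, decide_eq_true_eq, beq_iff_eq] at hok
    obtain ⟨⟨hi, hj⟩, heq⟩ := hok
    have h1 := sum_eq_of_nf C he he0 hec hrel heq
    rw [wp_append, wp_append, hrel i j hi hj, ← mul_assoc] at h1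
    have h2 := hinj (mul_left_cancel h1)
    simp only [Cert.relPair, List.map_cons, List.sum_cons]
    rw [h2]; ring
  | fus Xs Ys l r =>
    simp only [Cert.relOk, Bool.and_eq_true, List.all_eq_true, decide_eq_true_eq, beq_iff_eq,
      List.mem_range] at hok
    obtain ⟨⟨⟨hlen, hcnt⟩, hX⟩, hY⟩ := hok
    obtain ⟨x, hx⟩ := hfus Xs Ys l r rfl
    obtain ⟨x', rfl⟩ := hσ x
    have hwp : ∀ w : List ℕ, σ (wp a w) = wp g w := PcCover.wp_map ha
    have hex : ∀ j, ∃ c : ZMod C.p, j < Xs.length →
        x' * wp a (Xs.getD j []) = wp a (Ys.getD j []) * x' * e c := by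
      intro j
      by_cases hj : j < Xs.length
      · obtain ⟨c, hc⟩ := hker ((wp a (Ys.getD j []) * x')⁻¹ * (x' * wp a (Xs.getD j []))) (by
          rw [map_mul, map_inv, map_mul, map_mul, hwp, hwp, hx j hj, inv_mul_cancel])
        exact ⟨c, fun _ => by rw [← hc, mul_inv_cancel_left]⟩
      · exact ⟨0, fun h => absurd h hj⟩
    choose c hc using hex
    have hcat : ∀ w : List ℕ, (∀ j ∈ w, j < Xs.length) →
        x' * wp a (cat Xs w) = wp a (cat Ys w) * x' * e (w.map c).sum := by
      intro w
      induction w with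
      | nil => intro _; simp [cat, wp_nil, he0]
      | cons j w ih =>
        intro hw
        have hcons : ∀ Zs : List (List ℕ), cat Zs (j :: w) = Zs.getD j [] ++ cat Zs w := fun Zs => rfl
        rw [hcons, hcons, wp_append, wp_append, ← mul_assoc, hc j (hw j List.mem_cons_self), mul_assoc,
          ← hec, ← mul_assoc, mul_assoc (wp a (Ys.getD j [])) x', ih fun k hk => hw k (List.mem_cons_of_mem _ hk),
          List.map_cons, List.sum_cons, add_comm, he]
        simp only [mul_assoc]
    have hc' : (l.map c).sum = (r.map c).sum := by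
      rw [sum_count_eq c l fun k hk => hlen k (List.mem_append_left _ hk),
        sum_count_eq c r fun k hk => hlen k (List.mem_append_right _ hk)]
      refine Finset.sum_congr rfl fun k hk => ?_
      have := cast_of_dvdP (hcnt k (Finset.mem_range.1 hk))
      rw [Int.cast_sub, sub_eq_zero] at this
      rw [this]
    have h1 := hcat l fun k hk => hlen k (List.mem_append_left _ hk)
    have h2 := hcat r fun k hk => hlen k (List.mem_append_right _ hk)
    rw [sum_eq_of_nf C he he0 hec hrel hX, sum_eq_of_nf C he he0 hec hrel hY, ← mul_assoc, h2, hc',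
      mul_assoc _ _ x', ← hec, mul_assoc, mul_assoc, mul_assoc, mul_assoc, ← he, ← he] at h1
    have h3 := hinj (mul_left_cancel (mul_left_cancel h1))
    simp only [Cert.relPair, List.map_append, List.sum_append]
    linear_combination h3

theorem tails_eq_zero (h : C.Checked) (hfus : C.FusHold g)
    (hpiv : ∀ m < C.piv.length, τ (ti (C.piv.getD m (0, 0)).1 (C.piv.getD m (0, 0)).2) = 0)
    {k : ℕ} (hk : k < C.size) : τ k = 0 := by
  obtain ⟨hshape, hpivok, hcomb, hrv, hrels⟩ := h
  simp only [Cert.combOk, List.all_eq_true, List.mem_range, Bool.and_eq_true, Nat.blt_eq, Nat.ble_eq,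
    Nat.beq_eq] at hcomb
  obtain ⟨⟨⟨h1, h2⟩, hT⟩, h3⟩ := hcomb k hk
  simp only [Cert.pivOk, List.all_eq_true, List.mem_range, Bool.and_eq_true, decide_eq_true_eq] at hpivok
  simp only [Cert.shapeOk, List.all_eq_true, List.mem_range, Bool.and_eq_true, decide_eq_true_eq] at hshape
  have hP : Packs τ C.size (C.combVec (C.combs.getD k ([], []))) 0 := by
    refine packs_sumP _ _ _ fun v hv => ?_
    rcases List.mem_append.1 hv with hv | hv
    · obtain ⟨q, hq, rfl⟩ := List.mem_map.1 hv
      obtain ⟨hq1, hq2⟩ := h1 q hq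
      have hi : q.1 < C.rels.length := by rwa [← hrv, List.length_map] at hq1
      rw [← hrv, List.getD_eq_getElem _ _ (by simpa using hi), List.getElem_map]
      have hr := hrels _ (List.getElem_mem hi)
      have := packs_mix τ C.size
        (packs_encL τ C.size _ fun j hj => hr.2 j (List.mem_append_left _ hj))
        (packs_encL τ C.size _ fun j hj => hr.2 j (List.mem_append_right _ hj)) q.2 (C.p - q.2)
      rw [relPair_sum C he he0 hec hrel hinj hσ ha hker _ hr.1
        (fun Xs Ys l l' e => hfus Xs Ys l l' (e ▸ List.getElem_mem hi)), ← add_mul, ← Nat.cast_add,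
        Nat.add_sub_cancel' hq2, ZMod.natCast_self, zero_mul] at this
      exact this
    · obtain ⟨q, hq, rfl⟩ := List.mem_map.1 hv
      have hm := hpivok _ (h2 q hq)
      have := packs_mix τ C.size
        (packs_encL τ C.size [ti (C.piv.getD q.1 (0, 0)).1 (C.piv.getD q.1 (0, 0)).2] fun j hj => by
          rw [List.mem_singleton.1 hj]
          exact ((hshape.2 _ hm.1.1) _ (Nat.lt_succ_of_le hm.1.2)).1.2)
        (packs_zero τ C.size) q.2 0
      rwa [List.map_singleton, List.sum_singleton, hpiv _ (h2 q hq), mul_zero, mul_zero, add_zero] at this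
  obtain ⟨f, hf1, hf2, hf3⟩ := hP
  have hlt : ∀ j < C.size, f j < lane := fun j hj =>
    lt_of_le_of_lt (hf2 ▸ Finset.single_le_sum (fun i _ => Nat.zero_le (f i)) (Finset.mem_range.2 hj)) hT
  have e1 : ∀ j ∈ Finset.range C.size, (f j : ZMod C.p) * τ j = if j = k then τ j else 0 := by
    intro j hj
    have := h3 j (Finset.mem_range.1 hj)
    rw [hf1, digit_sum f _ _ (Finset.mem_range.1 hj) hlt] at this
    rw [← ZMod.natCast_mod (f j) C.p, this]
    by_cases hjk : j = k
    · subst hjk; simp
    · rw [show Nat.beq j k = false by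
        rw [Bool.eq_false_iff]; exact fun h => hjk (Nat.eq_of_beq_eq_true h)]
      simp [hjk]
  rw [Finset.sum_congr rfl e1, Finset.sum_ite_eq', if_pos (Finset.mem_range.2 hk)] at hf3
  exact hf3.symm

end

variable {Γ : Type*} [Group Γ] [Finite Γ] {G : Type*} [Group G] [Finite G] {σ : Γ →* G}

/-- A checked certificate excludes stem extensions with kernel of order `p`. -/
theorem Cert.not_stem (C : Cert) (hp : C.p.Prime) (h : C.Checked) (g : ℕ → G)
    (hrule : ∀ i j, i < C.n → j ≤ i → wp g (lhs C.p i j) = wp g (rhs C.rules i j))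
    (hfus : C.FusHold g)
    (hwit : ∀ b < C.n, ∀ k, 1 ≤ k → k < C.p →
      g b ^ k ∉ Subgroup.closure (g '' {i | b < i ∧ i < C.n}))
    (hcard : ¬ C.p ^ (C.n + 1) ∣ Nat.card G)
    (hσ : Cfsg.IsStemExtension σ) : Nat.card σ.ker ≠ C.p := by
  classical
  intro hK
  haveI := Fact.mk hp
  obtain ⟨z, hz, hz1⟩ : ∃ z ∈ σ.ker, z ≠ 1 := by
    by_contra! hall
    have hb : σ.ker = ⊥ := (Subgroup.eq_bot_iff_forall _).2 hall
    rw [hb, Subgroup.card_bot] at hK
    exact hp.ne_one hK.symm
  have hzp : orderOf z = C.p := orderOf_eq_prime (by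
    rw [← hK]; exact congrArg Subtype.val (pow_card_eq_one' (x := (⟨z, hz⟩ : σ.ker)))) hz1
  obtain ⟨e, hedef⟩ : ∃ e : ZMod C.p → Γ, ∀ c, e c = z ^ c.val := ⟨_, fun _ => rfl⟩
  have he : ∀ x y, e (x + y) = e x * e y := fun x y => by
    rw [hedef, hedef, hedef, ← pow_add, ZMod.val_add, ← pow_mod_orderOf z (x.val + y.val), hzp]
  have he0 : e 0 = 1 := by rw [hedef, ZMod.val_zero, pow_zero]
  have hek : ∀ c, σ (e c) = 1 := fun c => by
    rw [hedef, map_pow, MonoidHom.mem_ker.1 hz, one_pow]
  have hec : ∀ c (x : Γ), x * e c = e c * x := fun c =>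
    Subgroup.mem_center_iff.1 (hσ.2.1 (MonoidHom.mem_ker.2 (hek c)))
  have hinj : Function.Injective e := fun x y hxy => by
    rw [hedef, hedef] at hxy
    exact ZMod.val_injective _ (pow_injOn_Iio_orderOf (by rw [hzp]; exact ZMod.val_lt x)
      (by rw [hzp]; exact ZMod.val_lt y) hxy)
  have hker : ∀ x : Γ, σ x = 1 → ∃ c, x = e c := by
    intro x hx
    have hzk : Subgroup.zpowers z = σ.ker := Subgroup.eq_of_le_of_card_ge (Subgroup.zpowers_le.2 hz)
      (by rw [Nat.card_zpowers, hzp, hK])
    have hmem : x ∈ Submonoid.powers z := (mem_powers_iff_mem_zpowers).2 (hzk ▸ MonoidHom.mem_ker.2 hx)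
    obtain ⟨k, rfl⟩ := hmem
    exact ⟨(k : ZMod C.p), by rw [hedef, ZMod.val_natCast, ← hzp, pow_mod_orderOf]⟩
  choose a0 ha0 using fun i => hσ.1 (g i)
  have hwp : ∀ (a : ℕ → Γ), (∀ i, σ (a i) = g i) → ∀ w : List ℕ, σ (wp a w) = wp g w :=
    fun a ha => PcCover.wp_map ha
  have hshape := h.1
  simp only [Cert.shapeOk, List.all_eq_true, List.mem_range, Bool.and_eq_true, decide_eq_true_eq,
    beq_iff_eq] at hshape
  have hpivok := h.2.1
  simp only [Cert.pivOk, List.all_eq_true, List.mem_range, Bool.and_eq_true, decide_eq_true_eq] at hpivok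
  have htails : ∀ a : ℕ → Γ, (∀ i, σ (a i) = g i) → ∃ τ : ℕ → ZMod C.p, ∀ i j, i < C.n → j ≤ i →
      wp a (lhs C.p i j) = wp a (rhs C.rules i j) * e (τ (ti i j)) := by
    intro a ha
    have hex : ∀ q : ℕ × ℕ, ∃ c : ZMod C.p, q.1 < C.n → q.2 ≤ q.1 →
        wp a (lhs C.p q.1 q.2) = wp a (rhs C.rules q.1 q.2) * e c := by
      rintro ⟨i, j⟩
      by_cases hq : i < C.n ∧ j ≤ i
      · obtain ⟨c, hc⟩ := hker ((wp a (rhs C.rules i j))⁻¹ * wp a (lhs C.p i j)) (by
          rw [map_mul, map_inv, hwp a ha, hwp a ha, hrule i j hq.1 hq.2, inv_mul_cancel])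
        exact ⟨c, fun _ _ => by rw [← hc, mul_inv_cancel_left]⟩
      · exact ⟨0, fun hi hj => absurd ⟨hi, hj⟩ hq⟩
    choose c hc using hex
    refine ⟨fun k => c ((pairs C.n).getD k (0, 0)), fun i j hi hj => ?_⟩
    show _ = _ * e (c ((pairs C.n).getD (ti i j) (0, 0)))
    rw [((hshape.2 i hi) j (Nat.lt_succ_of_le hj)).1.1]
    exact hc (i, j) hi hj
  obtain ⟨τ0, hτ0⟩ := htails a0 ha0
  -- change of lifts
  obtain ⟨u, hu⟩ : ∃ u : ℕ → ZMod C.p, ∀ i, u i = - ∑ m ∈ Finset.range C.piv.length,
      (((C.minv.getD i []).getD m 0 : ℤ) : ZMod C.p) *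
        τ0 (ti (C.piv.getD m (0, 0)).1 (C.piv.getD m (0, 0)).2) := ⟨_, fun _ => rfl⟩
  obtain ⟨a, hadef⟩ : ∃ a : ℕ → Γ, ∀ i, a i = a0 i * e (u i) := ⟨_, fun _ => rfl⟩
  have ha : ∀ i, σ (a i) = g i := fun i => by rw [hadef, map_mul, hek, mul_one, ha0]
  have hau : ∀ w : List ℕ, wp a w = wp a0 w * e (w.map u).sum := by
    intro w
    induction w with
    | nil => simp [wp_nil, he0]
    | cons i w ih =>
      rw [wp_cons, ih, hadef, wp_cons, List.map_cons, List.sum_cons, he]
      simp only [mul_assoc]
      rw [← mul_assoc (e (u i)), ← hec (u i), mul_assoc]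
  have hrel : ∀ i j, i < C.n → j ≤ i → wp a (lhs C.p i j) =
      wp a (rhs C.rules i j) * e (τ0 (ti i j) + ((lhs C.p i j).map u).sum - ((rhs C.rules i j).map u).sum) := by
    intro i j hi hj
    rw [hau, hau, hτ0 i j hi hj, mul_assoc, mul_assoc, ← he, ← he]
    congr 2
    ring
  obtain ⟨τ, hτ⟩ := htails a ha
  have hlt : ∀ i j, i < C.n → j ≤ i → (∀ k ∈ lhs C.p i j, k < C.n) ∧ ∀ k ∈ rhs C.rules i j, k < C.n := by
    intro i j hi hj
    refine ⟨fun k hk => ?_, fun k hk => ?_⟩
    · rw [lhs] at hk
      split at hk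
      · rw [(List.mem_replicate.1 hk).2]; exact hi
      · simp only [List.mem_cons, List.not_mem_nil, or_false] at hk
        omega
    · have hs := ((hshape.2 i hi) j (Nat.lt_succ_of_le hj)).2
      split at hs
      · simp only [List.all_eq_true, decide_eq_true_eq] at hs
        exact (hs k hk).2
      · simp only [Bool.and_eq_true, List.all_eq_true, decide_eq_true_eq, beq_iff_eq] at hs
        match hl : rhs C.rules i j, hs, hk with
        | [], _, hk => simp at hk
        | x :: t, hs, hk =>
          simp only [List.head?_cons, Option.some.injEq, List.tail_cons] at hs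
          rcases List.mem_cons.1 hk with rfl | hk
          · omega
          · exact (hs.2 k hk).2
  have hpiv : ∀ m < C.piv.length, τ (ti (C.piv.getD m (0, 0)).1 (C.piv.getD m (0, 0)).2) = 0 := by
    intro m hm
    obtain ⟨⟨hi, hj⟩, hrow⟩ := hpivok m hm
    have e1 := (hrel _ _ hi hj).symm.trans (hτ _ _ hi hj)
    rw [← hinj (mul_left_cancel e1), sum_count_eq u _ (hlt _ _ hi hj).1, sum_count_eq u _ (hlt _ _ hi hj).2,
      add_sub_assoc, ← Finset.sum_sub_distrib]
    have e2 : ∀ k ∈ Finset.range C.n,
        (((lhs C.p (C.piv.getD m (0, 0)).1 (C.piv.getD m (0, 0)).2).count k : ℤ) : ZMod C.p) * u k -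
          (((rhs C.rules (C.piv.getD m (0, 0)).1 (C.piv.getD m (0, 0)).2).count k : ℤ) : ZMod C.p) * u k =
        - ∑ m' ∈ Finset.range C.piv.length, ((C.dcoef m k * (C.minv.getD k []).getD m' 0 : ℤ) : ZMod C.p) *
          τ0 (ti (C.piv.getD m' (0, 0)).1 (C.piv.getD m' (0, 0)).2) := by
      intro k _
      rw [← sub_mul, hu, mul_neg, Finset.mul_sum]
      simp only [Cert.dcoef, Int.cast_mul, Int.cast_sub, mul_assoc]
    rw [Finset.sum_congr rfl e2, Finset.sum_neg_distrib, Finset.sum_comm, add_neg_eq_zero]
    have e3 : ∀ m' ∈ Finset.range C.piv.length,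
        (∑ k ∈ Finset.range C.n, ((C.dcoef m k * (C.minv.getD k []).getD m' 0 : ℤ) : ZMod C.p) *
          τ0 (ti (C.piv.getD m' (0, 0)).1 (C.piv.getD m' (0, 0)).2)) =
        if m = m' then τ0 (ti (C.piv.getD m' (0, 0)).1 (C.piv.getD m' (0, 0)).2) else 0 := by
      intro m' hm'
      have := cast_of_dvdP (hrow m' (Finset.mem_range.1 hm'))
      rw [Int.cast_sub, sub_eq_zero] at this
      rw [← Finset.sum_mul, ← Int.cast_sum, show (∑ k ∈ Finset.range C.n,
        C.dcoef m k * (C.minv.getD k []).getD m' 0) =
          ((List.range C.n).map fun k => C.dcoef m k * (C.minv.getD k []).getD m' 0).sum from rfl, this]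
      split <;> simp
    rw [Finset.sum_congr rfl e3, Finset.sum_ite_eq, if_pos (Finset.mem_range.2 hm)]
  have hzero : ∀ i j, i < C.n → j ≤ i → wp a (lhs C.p i j) = wp a (rhs C.rules i j) := fun i j hi hj => by
    rw [hτ i j hi hj, tails_eq_zero C he he0 hec hτ hinj hσ.1 ha hker h hfus hpiv
      ((hshape.2 i hi) j (Nat.lt_succ_of_le hj)).1.2, he0, mul_one]
  -- the chain
  obtain ⟨K, hKdef⟩ : ∃ K : ℕ → Subgroup Γ, ∀ b, K b = Subgroup.closure (a '' {i | b ≤ i ∧ i < C.n}) :=
    ⟨_, fun _ => rfl⟩
  have hmemK : ∀ {b i}, b ≤ i → i < C.n → a i ∈ K b := fun hb hi => by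
    rw [hKdef]; exact Subgroup.subset_closure ⟨_, ⟨hb, hi⟩, rfl⟩
  have hmapK : ∀ b, (K (b + 1)).map σ = Subgroup.closure (g '' {i | b < i ∧ i < C.n}) := fun b => by
    rw [hKdef, MonoidHom.map_closure, Set.image_image]
    simp only [ha]
    rfl
  have hwK : ∀ b (w : List ℕ), (∀ i ∈ w, b ≤ i ∧ i < C.n) → wp a w ∈ K b := by
    intro b w
    induction w with
    | nil => intro _; rw [wp_nil]; exact one_mem _
    | cons i w ih =>
      intro hw
      rw [wp_cons]
      exact mul_mem (hmemK (hw i List.mem_cons_self).1 (hw i List.mem_cons_self).2)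
        (ih fun k hk => hw k (List.mem_cons_of_mem _ hk))
  have main : ∀ d b, b + d = C.n → (∀ x ∈ K b, σ x = 1 → x = 1) ∧ Nat.card ↥(K b) = C.p ^ d := by
    intro d
    induction d with
    | zero =>
      intro b hb
      have : K b = ⊥ := by
        rw [hKdef, Subgroup.closure_eq_bot_iff]
        rintro _ ⟨i, ⟨h1, h2⟩, rfl⟩
        omega
      exact ⟨fun x hx _ => by rwa [this, Subgroup.mem_bot] at hx, by rw [this, Subgroup.card_bot, pow_zero]⟩
    | succ d ih =>
      intro b hb
      obtain ⟨ih1, ih2⟩ := ih (b + 1) (by omega)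
      have hbn : b < C.n := by omega
      have hle : K (b + 1) ≤ K b := by
        rw [hKdef, hKdef]; exact Subgroup.closure_mono (Set.image_mono fun i hi => ⟨(Nat.le_succ b).trans hi.1, hi.2⟩)
      have hpow : a b ^ C.p ∈ K (b + 1) := by
        have h1 := hzero b b hbn le_rfl
        rw [lhs, if_pos rfl] at h1
        have hs := ((hshape.2 b hbn) b (Nat.lt_succ_self b)).2
        rw [if_pos rfl] at hs
        simp only [List.all_eq_true, decide_eq_true_eq] at hs
        have e1 : wp a (List.replicate C.p b) = a b ^ C.p := by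
          rw [wp, List.map_replicate, List.prod_replicate]
        rw [← e1, h1]
        exact hwK _ _ fun i hi => ⟨(hs i hi).1, (hs i hi).2⟩
      have hnorm : ∀ y ∈ K (b + 1), (a b)⁻¹ * y * a b ∈ K (b + 1) := by
        intro y hy
        rw [hKdef] at hy
        induction hy using Subgroup.closure_induction with
        | mem y hy =>
          obtain ⟨i, ⟨hbi, hi⟩, rfl⟩ := hy
          have h1 := hzero i b hi (by omega)
          rw [lhs, if_neg (by omega)] at h1
          have hs := ((hshape.2 i hi) b (by omega)).2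
          rw [if_neg (by omega)] at hs
          simp only [Bool.and_eq_true, List.all_eq_true, decide_eq_true_eq, beq_iff_eq] at hs
          match hl : rhs C.rules i b, hs, h1 with
          | [], hs, _ => simp at hs
          | x :: t, hs, h1 =>
            simp only [List.head?_cons, Option.some.injEq, List.tail_cons] at hs
            obtain ⟨rfl, ht⟩ := hs
            rw [wp_cons, wp_cons, wp_nil, mul_one, wp_cons] at h1
            rw [mul_assoc, h1, inv_mul_cancel_left]
            exact hwK _ _ fun k hk => ⟨(ht k hk).1, (ht k hk).2⟩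
        | one => simp
        | mul y y' _ _ hy hy' =>
          rw [show (a b)⁻¹ * (y * y') * a b = ((a b)⁻¹ * y * a b) * ((a b)⁻¹ * y' * a b) by group]
          exact mul_mem hy hy'
        | inv y _ hy =>
          rw [show (a b)⁻¹ * y⁻¹ * a b = ((a b)⁻¹ * y * a b)⁻¹ by group]
          exact inv_mem hy
      have hform : ∀ x ∈ K b, ∃ k < C.p, ∃ y ∈ K (b + 1), x = a b ^ k * y := by
        intro x hx
        rw [hKdef, ← Subgroup.mem_toSubmonoid, Subgroup.closure_toSubmonoid_of_finite] at hx
        induction hx using Submonoid.closure_induction_right with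
        | one => exact ⟨0, hp.pos, 1, one_mem _, by simp⟩
        | mul_right x _ w hw ih =>
          obtain ⟨k, hk, y, hy, rfl⟩ := ih
          obtain ⟨i, ⟨hbi, hi⟩, rfl⟩ := hw
          rcases eq_or_lt_of_le hbi with rfl | hbi
          · have e1 : a b ^ k * y * a b = a b ^ (k + 1) * ((a b)⁻¹ * y * a b) := by
              rw [pow_succ]; group
            by_cases hk1 : k + 1 < C.p
            · exact ⟨k + 1, hk1, _, hnorm y hy, e1⟩
            · refine ⟨0, hp.pos, _, mul_mem hpow (hnorm y hy), ?_⟩
              rw [pow_zero, one_mul, e1, show k + 1 = C.p by omega]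
          · exact ⟨k, hk, y * a i, mul_mem hy (hmemK hbi hi), by rw [mul_assoc]⟩
      have hout : ∀ k, 1 ≤ k → k < C.p → ∀ y ∈ K (b + 1), σ (a b ^ k * y) ≠ 1 := by
        intro k hk1 hk2 y hy h1
        refine hwit b hbn k hk1 hk2 ?_
        rw [map_mul, map_pow, ha, mul_eq_one_iff_eq_inv] at h1
        rw [h1, ← hmapK]
        exact inv_mem (Subgroup.mem_map_of_mem σ hy)
      refine ⟨fun x hx h1 => ?_, ?_⟩
      · obtain ⟨k, hk, y, hy, rfl⟩ := hform x hx
        rcases Nat.eq_zero_or_pos k with rfl | hk0
        · rw [pow_zero, one_mul] at h1 ⊢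
          exact ih1 y hy h1
        · exact absurd h1 (hout k hk0 hk y hy)
      · have hab : a b ∈ K b := hmemK le_rfl hbn
        let f : Fin C.p × ↥(K (b + 1)) → ↥(K b) := fun q =>
          ⟨a b ^ q.1.val * q.2, mul_mem (pow_mem hab _) (hle q.2.2)⟩
        have hf : Function.Bijective f := by
          constructor
          · rintro ⟨k, y⟩ ⟨k', y'⟩ h1
            have h2 : a b ^ k.val * (y : Γ) = a b ^ k'.val * (y' : Γ) := congrArg Subtype.val h1
            have key : ∀ (k k' : Fin C.p) (y y' : ↥(K (b + 1))),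
                a b ^ k.val * (y : Γ) = a b ^ k'.val * (y' : Γ) → ¬ k'.val < k.val := by
              intro k k' y y' h2 hlt
              refine hout (k.val - k'.val) (by omega) (by omega) ((y : Γ) * (y' : Γ)⁻¹)
                (mul_mem y.2 (inv_mem y'.2)) ?_
              have : a b ^ (k.val - k'.val) * ((y : Γ) * (y' : Γ)⁻¹) = 1 := by
                rw [← mul_left_cancel_iff (a := a b ^ k'.val), mul_one, ← mul_assoc, ← mul_assoc, ← pow_add,
                  Nat.add_sub_cancel' hlt.le, h2, mul_inv_cancel_right]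
              rw [this, map_one]
            have hkk : k = k' := Fin.ext (Nat.le_antisymm (not_lt.1 (key k k' y y' h2))
              (not_lt.1 (key k' k y' y h2.symm)))
            subst hkk
            rw [Subtype.ext (mul_left_cancel h2)]
          · rintro ⟨x, hx⟩
            obtain ⟨k, hk, y, hy, rfl⟩ := hform x hx
            exact ⟨(⟨k, hk⟩, ⟨y, hy⟩), rfl⟩
        rw [← Nat.card_congr (Equiv.ofBijective f hf), Nat.card_prod, Nat.card_fin, ih2, pow_succ']
  obtain ⟨hK0, hcardK⟩ := main C.n 0 (zero_add _)
  -- the index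
  have hidx : ¬ C.p ∣ (K 0 |>.map σ).index := by
    intro hd
    refine hcard ?_
    have hinjK : Function.Injective (σ.comp (K 0).subtype) :=
      (injective_iff_map_eq_one _).2 fun x hx => Subtype.ext (hK0 x x.2 hx)
    have hc : Nat.card ↥((K 0).map σ) = C.p ^ C.n := by
      rw [← hcardK]
      exact (Nat.card_congr (Equiv.ofBijective
        (fun x : ↥(K 0) => (⟨σ x, Subgroup.mem_map_of_mem σ x.2⟩ : ↥((K 0).map σ)))
        ⟨fun x y hxy => hinjK (congrArg Subtype.val hxy), fun ⟨w, x, hx, hw⟩ => ⟨⟨x, hx⟩, Subtype.ext hw⟩⟩)).symm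
    rw [← ((K 0).map σ).index_mul_card, hc, pow_succ']
    exact Nat.mul_dvd_mul_right hd _
  have hgen : ∀ s ∈ a '' {i | 0 ≤ i ∧ i < C.n}, s ∈ K 0 := fun s hs => by
    rw [hKdef]; exact Subgroup.subset_closure hs
  have hcomm : ∀ w ∈ σ.ker, ∀ x : Γ, Commute x w := fun w hw => Subgroup.mem_center_iff.1 (hσ.2.1 hw)
  have hle := ker_le_commutator_closure hσ hp hK ((a '' {i | 0 ≤ i ∧ i < C.n}) ∪ (σ.ker : Set Γ))
    Set.subset_union_right ((K 0).map σ)
    (Subgroup.map_mono (by rw [hKdef]; exact Subgroup.closure_mono Set.subset_union_left)) hidx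
  have hle' : σ.ker ≤ K 0 := hle.trans (commutator_closure_le _ (K 0) (fun s hs t ht => by
    rcases hs with hs | hs
    · rcases ht with ht | ht
      · have h1 := hgen s hs
        have h2 := hgen t ht
        rw [commutatorElement_def]
        exact mul_mem (mul_mem (mul_mem h1 h2) (inv_mem h1)) (inv_mem h2)
      · rw [commutatorElement_eq_one_iff_commute.2 (hcomm t ht s)]
        exact one_mem _
    · rw [commutatorElement_eq_one_iff_commute.2 (hcomm s hs t).symm]
      exact one_mem _) (fun s hs x hx => by
    rcases hs with hs | hs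
    · exact mul_mem (mul_mem (hgen s hs) hx) (inv_mem (hgen s hs))
    · rw [← (hcomm s hs x).eq, mul_inv_cancel_right]
      exact hx))
  exact hz1 (hK0 z (hle' hz) (MonoidHom.mem_ker.1 hz))

end Cfsg.Agent.Multiplier.PrimeTails
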