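import Cfsg.Agent.Lib.Multiplier.PrimeTails
import Cfsg.Agent.Lib.OutCert.Invol
import Cfsg.Agent.Lib.StabCert.Chain

/-!
# Tail certificates for stabilisers in the automorphism group of the lattice

Elements of a subgroup of `Co0` are straight-line words in given generators, described by packed
tables of their action on a list of lattice vectors containing a rational basis.

* `Model`, `Model.Sound`: tables and their soundness
* `Model.eqN_sound`: equality of words from the images of a basis
* `Model.not_stem`: no stem extension with kernel of order `p`, from a certificate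
-/

set_option autoImplicit false

namespace Cfsg.Agent.Multiplier.PrimeTails

open Leech OutCert StabCert
open PcCover (wp wp_nil wp_cons wp_append)

/-- Vectors, tables of straight-line words and a basis. -/
structure Model where
  /-- The width of the lanes. -/
  w : ℕ
  /-- The vectors. -/
  V : List (List ℤ)
  /-- The tables. -/
  tabs : List ℕ
  /-- The number of generators. -/
  ng : ℕ
  /-- The later elements as words in earlier ones. -/
  nodes : List (List ℕ)
  /-- The basis. -/
  base : List ℕ
  /-- The frame in terms of the basis, up to a scalar. -/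
  frame : List (ℤ × List ℤ)

/-- Sum of lists of coordinates. -/
def addL (x y : List ℤ) : List ℤ := List.zipWith (· + ·) x y

/-- The 24 entries packed in bytes, shifted by 128. -/
def decVec (m : ℕ) : List ℤ := (List.range 24).map fun i => Int.ofNat (m / 256 ^ i % 256) - 128

/-- Straight-line elements. -/
def slpEl {M : Type*} [Monoid M] (gens : List M) (nodes : List (List ℕ)) : List M :=
  nodes.foldl (fun l w => l ++ [(w.map fun k => l.getD k 1).prod]) gens

namespace Model

variable (M : Model)

/-- A vector of the list. -/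
def vec (x : ℕ) : List ℤ := M.V.getD x []

/-- The image of a point under a table. -/
def img (k x : ℕ) : ℕ := look M.w (M.tabs.getD k 0) x

/-- The image of a point under a word, the last letter first. -/
def evN (u : List ℕ) (x : ℕ) : ℕ := ev M.w M.tabs u x

/-- The vectors lie in the lattice. -/
def latOk : Bool := M.V.all inLatL

/-- A table describes a map of lists. -/
def genOk (k : ℕ) (f : List ℤ → List ℤ) : Bool :=
  (List.range M.V.length).all fun x => Nat.blt (M.img k x) M.V.length && f (M.vec x) == M.vec (M.img k x)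

/-- The tables of the later elements agree with their words. -/
def nodesOk : Bool :=
  (List.range M.nodes.length).all fun i =>
    (M.nodes.getD i []).all (fun k => Nat.blt k (M.ng + i)) &&
      (List.range M.V.length).all fun x => Nat.beq (M.img (M.ng + i) x) (M.evN (M.nodes.getD i []) x)

/-- A combination of the basis. -/
def comb : List ℤ → List ℕ → List ℤ
  | c :: cs, x :: xs => addL ((M.vec x).map (c * ·)) (comb cs xs)
  | _, _ => List.replicate 24 0

/-- The basis spans the frame. -/
def frameOk : Bool :=
  M.base.all (fun x => Nat.blt x M.V.length) &&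
  (List.range 24).all fun j =>
    let q := M.frame.getD j (0, [])
    decide (q.1 ≠ 0) && M.comb q.2 M.base == (List.range 24).map fun k => if k = j then 8 * q.1 else 0

/-- Two words agree on the basis. -/
def eqN (u v : List ℕ) : Bool := M.base.all fun x => Nat.beq (M.evN u x) (M.evN v x)

/-- The elements of the model act as their tables say. -/
def Sound {H : Subgroup Co0} (E : ℕ → H) : Prop :=
  (∀ x < M.V.length, ∃ v, Rep v (M.vec x)) ∧
  ∀ k < M.ng + M.nodes.length, ∀ x < M.V.length, M.img k x < M.V.length ∧
    ∀ v, Rep v (M.vec x) → Rep ((E k : Co0) • v) (M.vec (M.img k x))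

variable {M} {H : Subgroup Co0}

theorem wordSound {E : ℕ → H} (hs : M.Sound E) : ∀ (u : List ℕ), (∀ k ∈ u, k < M.ng + M.nodes.length) →
    ∀ x < M.V.length, M.evN u x < M.V.length ∧
      ∀ v, Rep v (M.vec x) → Rep (((wp E u : H) : Co0) • v) (M.vec (M.evN u x))
  | [], _, x, hx => ⟨hx, fun v hv => by simpa [evN, ev, wp_nil] using hv⟩
  | k :: u, hu, x, hx => by
    obtain ⟨h1, h2⟩ := wordSound hs u (fun j hj => hu j (List.mem_cons_of_mem _ hj)) x hx
    obtain ⟨h3, h4⟩ := hs.2 k (hu k List.mem_cons_self) _ h1
    refine ⟨h3, fun v hv => ?_⟩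
    rw [wp_cons, Subgroup.coe_mul, mul_smul]
    exact h4 _ (h2 v hv)

theorem slpEl_snoc {N : Type*} [Monoid N] (gens : List N) (nodes : List (List ℕ)) (w : List ℕ) :
    slpEl gens (nodes ++ [w]) = slpEl gens nodes ++ [(w.map fun k => (slpEl gens nodes).getD k 1).prod] := by
  rw [slpEl, List.foldl_append]; rfl

theorem length_slpEl {N : Type*} [Monoid N] (gens : List N) (nodes : List (List ℕ)) :
    (slpEl gens nodes).length = gens.length + nodes.length := by
  induction nodes using List.reverseRecOn with
  | nil => simp [slpEl]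
  | append_singleton l w ih => rw [slpEl_snoc, List.length_append, ih, List.length_append]; simp [add_assoc]

/-- Soundness from the checks of the generators and the tables. -/
theorem sound_of_checks (gens : List H) (hlat : M.latOk = true) (hlen : gens.length = M.ng)
    (hgen : ∀ k < M.ng, ∃ f, M.genOk k f = true ∧
      ∀ v x, Rep v x → Rep ((gens.getD k 1 : Co0) • v) (f x))
    (hnodes : M.nodesOk = true) : M.Sound fun k => (slpEl gens M.nodes).getD k 1 := by
  simp only [latOk, List.all_eq_true] at hlat
  simp only [nodesOk, List.all_eq_true, List.mem_range, Bool.and_eq_true, Nat.blt_eq, Nat.beq_eq] at hnodes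
  refine ⟨fun x hx => ?_, ?_⟩
  · have hm : M.vec x ∈ M.V := by
      rw [vec, List.getD_eq_getElem _ _ hx]; exact List.getElem_mem _
    have h := hlat _ hm
    refine ⟨⟨vOf (M.vec x), mem_of_inLatL h⟩, ?_, rfl⟩
    cases hc : M.vec x with
    | nil => rw [hc] at h; simp [inLatL] at h
    | cons a l =>
      rw [hc] at h
      simp only [inLatL, Bool.and_eq_true, beq_iff_eq] at h
      exact h.1.1
  suffices key : ∀ m ≤ M.nodes.length, ∀ k < M.ng + m, ∀ x < M.V.length, M.img k x < M.V.length ∧
      ∀ v, Rep v (M.vec x) → Rep ((((slpEl gens (M.nodes.take m)).getD k 1 : H) : Co0) • v) (M.vec (M.img k x)) by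
    intro k hk
    have h := key M.nodes.length le_rfl k hk
    rwa [List.take_length] at h
  intro m
  induction m with
  | zero =>
    intro _ k hk x hx
    obtain ⟨f, hf, hr⟩ := hgen k hk
    simp only [genOk, List.all_eq_true, List.mem_range, Bool.and_eq_true, Nat.blt_eq, beq_iff_eq] at hf
    refine ⟨(hf x hx).1, fun v hv => ?_⟩
    rw [List.take_zero, ← (hf x hx).2]
    exact hr v _ hv
  | succ m ih =>
    intro hm k hk x hx
    have ih' := ih (by omega)
    rw [List.take_succ_eq_append_getElem (by omega), slpEl_snoc]
    have hL : (slpEl gens (M.nodes.take m)).length = M.ng + m := by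
      rw [length_slpEl, hlen, List.length_take, Nat.min_eq_left (by omega)]
    by_cases hkm : k < M.ng + m
    · rw [List.getD_append _ _ _ _ (by rwa [hL])]
      exact ih' k hkm x hx
    · obtain rfl : k = M.ng + m := by omega
      rw [List.getD_append_right _ _ _ _ hL.le, hL, Nat.sub_self, List.getD_cons_zero]
      obtain ⟨hb, he⟩ := hnodes m (by omega)
      rw [List.getD_eq_getElem _ _ (by omega)] at hb he
      rw [he x hx]
      have word : ∀ (u : List ℕ), (∀ j ∈ u, j < M.ng + m) → M.evN u x < M.V.length ∧
          ∀ v, Rep v (M.vec x) →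
            Rep ((((u.map fun j => (slpEl gens (M.nodes.take m)).getD j 1).prod : H) : Co0) • v)
              (M.vec (M.evN u x)) := by
        intro u
        induction u with
        | nil => intro _; exact ⟨hx, fun v hv => by simpa [evN, ev] using hv⟩
        | cons j u ihu =>
          intro hu
          obtain ⟨h1, h2⟩ := ihu fun i hi => hu i (List.mem_cons_of_mem _ hi)
          obtain ⟨h3, h4⟩ := ih' j (hu j List.mem_cons_self) _ h1
          refine ⟨h3, fun v hv => ?_⟩
          rw [List.map_cons, List.prod_cons, Subgroup.coe_mul, mul_smul]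
          exact h4 _ (h2 v hv)
      exact word _ hb

theorem rep_addL {v u : leechLattice} {x y : List ℤ} (hv : Rep v x) (hu : Rep u y) :
    Rep (v + u) (addL x y) := by
  refine ⟨by simp [addL, hv.1, hu.1], funext fun p => ?_⟩
  have hp := Golay.idx_lt p
  rw [AddSubgroup.coe_add, Pi.add_apply, hv.2, hu.2]
  show x.getD _ 0 + y.getD _ 0 = (addL x y).getD (Golay.idx p) 0
  rw [addL, List.getD_eq_getElem _ _ (by rw [hv.1]; exact hp), List.getD_eq_getElem _ _ (by rw [hu.1]; exact hp),
    List.getD_eq_getElem _ _ (by simpa [hv.1, hu.1] using hp), List.getElem_zipWith]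

theorem rep_smul {v : leechLattice} {x : List ℤ} (c : ℤ) (hv : Rep v x) :
    Rep (c • v) (x.map (c * ·)) := by
  refine ⟨by simp [hv.1], funext fun p => ?_⟩
  rw [AddSubgroup.coe_zsmul, Pi.smul_apply, hv.2, smul_eq_mul]
  show c * x.getD _ 0 = (x.map fun a => c * a).getD (Golay.idx p) 0
  rw [← List.getD_map (f := fun a : ℤ => c * a)]
  simp

theorem rep_zero : Rep (0 : leechLattice) (List.replicate 24 0) := by
  refine ⟨by simp, funext fun p => ?_⟩
  show (0 : ℤ) = (List.replicate 24 (0 : ℤ)).getD (Golay.idx p) 0
  rw [List.getD_eq_getElem _ _ (by simpa using Golay.idx_lt p), List.getElem_replicate]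

theorem eqN_sound {E : ℕ → H} (hs : M.Sound E) (hf : M.frameOk = true) {u u' : List ℕ}
    (hu : ∀ k ∈ u, k < M.ng + M.nodes.length) (hu' : ∀ k ∈ u', k < M.ng + M.nodes.length)
    (h : M.eqN u u' = true) : wp E u = wp E u' := by
  simp only [frameOk, List.all_eq_true, List.mem_range, Bool.and_eq_true, Nat.blt_eq, decide_eq_true_eq,
    beq_iff_eq] at hf
  simp only [eqN, List.all_eq_true, Nat.beq_eq] at h
  obtain ⟨g, hg⟩ : ∃ g : Co0, g = ((wp E u : H) : Co0) := ⟨_, rfl⟩
  obtain ⟨g', hg'⟩ : ∃ g : Co0, g = ((wp E u' : H) : Co0) := ⟨_, rfl⟩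
  have hagree : ∀ (cs : List ℤ) (xs : List ℕ), (∀ x ∈ xs, x ∈ M.base) →
      ∃ v, Rep v (M.comb cs xs) ∧ g • v = g' • v := by
    intro cs
    induction cs with
    | nil =>
      intro xs _
      exact ⟨0, by cases xs <;> exact rep_zero, by rw [smul_vzero, smul_vzero]⟩
    | cons c cs ih =>
      intro xs hxs
      cases xs with
      | nil => exact ⟨0, rep_zero, by rw [smul_vzero, smul_vzero]⟩
      | cons x xs =>
        obtain ⟨v, hv, e⟩ := ih xs fun y hy => hxs y (List.mem_cons_of_mem _ hy)
        have hb := hxs x List.mem_cons_self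
        obtain ⟨w, hw⟩ := hs.1 x (hf.1 x hb)
        have h1 := (wordSound hs u hu x (hf.1 x hb)).2 w hw
        have h2 := (wordSound hs u' hu' x (hf.1 x hb)).2 w hw
        rw [h x hb, ← hg] at h1
        rw [← hg'] at h2
        exact ⟨c • w + v, rep_addL (rep_smul c hw) hv, by
          rw [smul_vadd, smul_vadd, smul_zsmul, smul_zsmul, h1.eq h2, e]⟩
  refine Subtype.ext (ext_frame fun p => ?_)
  rw [← hg, ← hg']
  obtain ⟨h0, h1⟩ := hf.2 (Golay.idx p) (Golay.idx_lt p)
  generalize M.frame.getD (Golay.idx p) (0, []) = fq at h0 h1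
  obtain ⟨v, hv, e⟩ := hagree fq.2 M.base fun x hx => hx
  rw [h1] at hv
  have hve : v = fq.1 • eightVec p := by
    refine hv.eq ⟨by simp, funext fun q => ?_⟩
    rw [AddSubgroup.coe_zsmul, Pi.smul_apply, coe_eightVec, smul_eq_mul]
    show _ = (List.map _ (List.range 24)).getD (Golay.idx q) 0
    rw [List.getD_eq_getElem _ _ (by simpa using Golay.idx_lt q), List.getElem_map, List.getElem_range,
      Pi.single_apply]
    simp only [Golay.idx_injective.eq_iff]
    split_ifs <;> ring
  rw [hve, smul_zsmul, smul_zsmul] at e
  exact Subtype.ext (smul_right_injective (GolayPt → ℤ) h0 (by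
    simpa only [AddSubgroup.coe_zsmul] using congrArg Subtype.val e))

/-- The rules hold on the basis. -/
def rulesOk (M : Model) (C : Cert) (outs : List ℕ) : Bool :=
  (List.range C.n).all fun a => (List.range (a + 1)).all fun b =>
    M.eqN ((lhs C.p a b).map fun i => outs.getD i 0) ((rhs C.rules a b).map fun i => outs.getD i 0)

/-- The fusion relations hold on the basis, `xs` giving the conjugating elements. -/
def fusOk (M : Model) (C : Cert) (outs xs : List ℕ) : Bool :=
  (List.range C.rels.length).all fun r =>
    match C.rels.getD r (Rel.cons [] 0 0) with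
    | .cons _ _ _ => true
    | .fus Xs Ys _ _ =>
      Nat.blt (xs.getD r 0) (M.ng + M.nodes.length) && (List.range Xs.length).all fun j =>
        M.eqN (xs.getD r 0 :: (Xs.getD j []).map fun i => outs.getD i 0)
          (((Ys.getD j []).map fun i => outs.getD i 0) ++ [xs.getD r 0])

/-- Points separating the powers of a generator from the later ones. -/
def witOk (M : Model) (C : Cert) (outs : List ℕ) (W : List (ℕ × List ℕ)) : Bool :=
  (List.range C.n).all fun b =>
    let q := W.getD b (0, [])
    q.2.contains q.1 && q.2.all (fun y => Nat.blt y M.V.length) &&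
      ((List.range C.n).all fun i => !(Nat.blt b i) ||
        q.2.all fun y => q.2.contains (M.img (outs.getD i 0) y)) &&
      ((List.range C.p).all fun k => k == 0 ||
        q.2.all fun y => decide (M.vec y ≠ M.vec (M.evN (List.replicate k (outs.getD b 0)) q.1)))

/-- The indices are valid. -/
def outsOk (M : Model) (outs : List ℕ) : Bool :=
  Nat.blt 0 (M.ng + M.nodes.length) && outs.all fun k => Nat.blt k (M.ng + M.nodes.length)

theorem not_stem {E : ℕ → H} (hs : M.Sound E) (hf : M.frameOk = true) (C : Cert) (outs xs : List ℕ)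
    (W : List (ℕ × List ℕ)) (hp : C.p.Prime) (hC : C.Checked) (houts : M.outsOk outs = true)
    (hrules : M.rulesOk C outs = true) (hfus : M.fusOk C outs xs = true) (hwit : M.witOk C outs W = true)
    [Finite H] (hcard : ¬ C.p ^ (C.n + 1) ∣ Nat.card H)
    {Γ : Type*} [Group Γ] [Finite Γ] {σ : Γ →* H} (hσ : Cfsg.IsStemExtension σ) :
    Nat.card σ.ker ≠ C.p := by
  simp only [outsOk, List.all_eq_true, Bool.and_eq_true, Nat.blt_eq] at houts
  have hout : ∀ i, outs.getD i 0 < M.ng + M.nodes.length := by
    intro i
    by_cases hi : i < outs.length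
    · rw [List.getD_eq_getElem _ _ hi]; exact houts.2 _ (List.getElem_mem _)
    · rw [List.getD_eq_default _ _ (not_lt.1 hi)]; exact houts.1
  obtain ⟨g, hg⟩ : ∃ g : ℕ → H, g = fun i => E (outs.getD i 0) := ⟨_, rfl⟩
  have hwp : ∀ w : List ℕ, wp g w = wp E (w.map fun i => outs.getD i 0) := fun w => by
    rw [hg, wp, wp, List.map_map]; rfl
  have hmem : ∀ w : List ℕ, ∀ k ∈ w.map (fun i => outs.getD i 0), k < M.ng + M.nodes.length := by
    intro w k hk
    obtain ⟨i, -, rfl⟩ := List.mem_map.1 hk
    exact hout i
  refine Cert.not_stem C hp hC g (fun i j hi hj => ?_) (fun Xs Ys l r hr => ?_) (fun b hb k hk1 hk2 h => ?_)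
    hcard hσ
  · simp only [rulesOk, List.all_eq_true, List.mem_range] at hrules
    rw [hwp, hwp]
    exact eqN_sound hs hf (hmem _) (hmem _) (hrules i hi j (Nat.lt_succ_of_le hj))
  · obtain ⟨i, hi, e⟩ := List.getElem_of_mem hr
    simp only [fusOk, List.all_eq_true, List.mem_range] at hfus
    have h1 := hfus i hi
    rw [List.getD_eq_getElem _ _ hi, e] at h1
    simp only [Bool.and_eq_true, List.all_eq_true, List.mem_range, Nat.blt_eq] at h1
    refine ⟨E (xs.getD i 0), fun j hj => ?_⟩
    have h2 := eqN_sound hs hf (fun k hk => by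
        rcases List.mem_cons.1 hk with rfl | hk
        · exact h1.1
        · exact hmem _ k hk) (fun k hk => by
        rcases List.mem_append.1 hk with hk | hk
        · exact hmem _ k hk
        · rw [List.mem_singleton.1 hk]; exact h1.1) (h1.2 j hj)
    rw [hwp, hwp]
    rwa [wp_cons, wp_append, wp_cons, wp_nil, mul_one] at h2
  · simp only [witOk, List.all_eq_true, List.mem_range, Bool.and_eq_true, Bool.or_eq_true, Bool.not_eq_true',
      decide_eq_true_eq, beq_iff_eq, List.contains_iff_mem, Nat.blt_eq] at hwit
    obtain ⟨⟨⟨hx, hO⟩, hinv⟩, hsep⟩ := hwit b hb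
    generalize W.getD b (0, []) = q at hx hO hinv hsep
    have key : ∀ z ∈ Subgroup.closure (g '' {i | b < i ∧ i < C.n}), ∀ y ∈ q.2, ∀ v, Rep v (M.vec y) →
        ∃ y' ∈ q.2, Rep ((z : Co0) • v) (M.vec y') := by
      intro z hz
      rw [← Subgroup.mem_toSubmonoid, Subgroup.closure_toSubmonoid_of_finite] at hz
      induction hz using Submonoid.closure_induction_right with
      | one => exact fun y hy v hv => ⟨y, hy, by simpa using hv⟩
      | mul_right x _ t ht ih =>
        obtain ⟨i, ⟨hbi, hi⟩, rfl⟩ := ht
        intro y hy v hv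
        have hyi : M.img (outs.getD i 0) y ∈ q.2 := by
          rcases hinv i hi with h0 | h0
          · rw [Bool.eq_false_iff, ne_eq, Nat.blt_eq] at h0
            exact absurd hbi h0
          · exact h0 y hy
        have h1 := (hs.2 _ (hout i) y (hO y hy)).2 v hv
        obtain ⟨y', hy', h2⟩ := ih _ hyi _ h1
        refine ⟨y', hy', ?_⟩
        rw [Subgroup.coe_mul, mul_smul, hg]
        exact h2
    obtain ⟨v, hv⟩ := hs.1 q.1 (hO _ hx)
    obtain ⟨y, hy, h1⟩ := key _ h q.1 hx v hv
    have e1 : g b ^ k = wp g (List.replicate k b) := by rw [wp, List.map_replicate, List.prod_replicate]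
    have e2 : (List.replicate k b).map (fun i => outs.getD i 0) = List.replicate k (outs.getD b 0) :=
      List.map_replicate
    have h2 := (wordSound hs _ (hmem (List.replicate k b)) q.1 (hO _ hx)).2 v hv
    rw [← hwp, ← e1, e2] at h2
    have h3 := (hsep k hk2).resolve_left (by omega) y hy
    exact h1.ne h2 h3 rfl

end Model

end Cfsg.Agent.Multiplier.PrimeTails
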