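/-
Tail certificates with known relations: some relations of the Sylow subgroup are assumed to hold for all
lifts, and with them all tails are forced to vanish.

* `Cert.withKnown`, `Cert.CheckedKnown`, `Cert.not_stem_known`
-/
import Cfsg.Agent.Lib.Multiplier.PrimeTails

set_option autoImplicit false
set_option linter.style.haveILetI false

open scoped commutatorElement

namespace Cfsg.Agent.Multiplier.PrimeTails

open PcCover (wp wp_nil wp_cons wp_append)

namespace Cert

/-- The removed tails are named by relations of the presentation. -/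
def pivRange (C : Cert) : Bool :=
  (List.range C.piv.length).all fun m =>
    decide ((C.piv.getD m (0, 0)).1 < C.n) && decide ((C.piv.getD m (0, 0)).2 ≤ (C.piv.getD m (0, 0)).1)

/-- Known relations listed after the removed tails. -/
def withKnown (C : Cert) (known : List (ℕ × ℕ)) : Cert := { C with piv := C.piv ++ known }

/-- The check with known relations. -/
def CheckedKnown (C : Cert) (known : List (ℕ × ℕ)) : Prop :=
  C.shapeOk = true ∧ C.pivOk = true ∧ (C.withKnown known).pivRange = true ∧ (C.withKnown known).combOk = true ∧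
    C.rels.map C.relVec = C.rv ∧
    ∀ r ∈ C.rels, C.relOk r = true ∧ ∀ k ∈ (C.relPair r).1 ++ (C.relPair r).2, k < C.size

end Cert

section

variable {Γ : Type*} [Group Γ] (C : Cert) {a : ℕ → Γ} {e : ZMod C.p → Γ} {τ : ℕ → ZMod C.p}
  (he : ∀ x y, e (x + y) = e x * e y) (he0 : e 0 = 1) (hec : ∀ x (g : Γ), g * e x = e x * g)
  (hrel : ∀ i j, i < C.n → j ≤ i → wp a (lhs C.p i j) = wp a (rhs C.rules i j) * e (τ (ti i j)))
  (hinj : Function.Injective e) {G : Type*} [Group G] {σ : Γ →* G} {g : ℕ → G}
  (hσ : Function.Surjective σ) (ha : ∀ i, σ (a i) = g i) (hker : ∀ x : Γ, σ x = 1 → ∃ c, x = e c)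

include he he0 hec hrel hinj hσ ha hker

theorem tails_eq_zero' (hshape : C.shapeOk = true) (hpr : C.pivRange = true) (hcomb : C.combOk = true)
    (hrv : C.rels.map C.relVec = C.rv)
    (hrels : ∀ r ∈ C.rels, C.relOk r = true ∧ ∀ k ∈ (C.relPair r).1 ++ (C.relPair r).2, k < C.size)
    (hfus : C.FusHold g)
    (hpiv : ∀ m < C.piv.length, τ (ti (C.piv.getD m (0, 0)).1 (C.piv.getD m (0, 0)).2) = 0)
    {k : ℕ} (hk : k < C.size) : τ k = 0 := by
  simp only [Cert.combOk, List.all_eq_true, List.mem_range, Bool.and_eq_true, Nat.blt_eq, Nat.ble_eq,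
    Nat.beq_eq] at hcomb
  obtain ⟨⟨⟨h1, h2⟩, hT⟩, h3⟩ := hcomb k hk
  simp only [Cert.pivRange, List.all_eq_true, List.mem_range, Bool.and_eq_true, decide_eq_true_eq] at hpr
  simp only [Cert.shapeOk, List.all_eq_true, List.mem_range, Bool.and_eq_true, decide_eq_true_eq] at hshape
  have hP : Packs τ C.size (C.combVec (C.combs.getD k ([], []))) 0 := by
    refine packs_sumP _ _ _ fun v hv => ?_
    rcases List.mem_append.1 hv with hv | hv
    · obtain ⟨q, hq, rfl⟩ := List.mem_map.1 hv
      obtain ⟨hq1, hq2⟩ := h1 q hq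
      have hi : q.1 < C.rels.length := by rwa [← hrv, List.length_map] at hq1
      rw [← hrv, List.getD_eq_getElem _ _ (by simpa using hi), List.getElem_map]
      have hr := hrels _ (List.getElem_mem hi)
      have := packs_mix τ C.size
        (packs_encL τ C.size _ fun j hj => hr.2 j (List.mem_append_left _ hj))
        (packs_encL τ C.size _ fun j hj => hr.2 j (List.mem_append_right _ hj)) q.2 (C.p - q.2)
      rw [relPair_sum C he he0 hec hrel hinj hσ ha hker _ hr.1
        (fun Xs Ys l l' e => hfus Xs Ys l l' (e ▸ List.getElem_mem hi)), ← add_mul, ← Nat.cast_add,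
        Nat.add_sub_cancel' hq2, ZMod.natCast_self, zero_mul] at this
      exact this
    · obtain ⟨q, hq, rfl⟩ := List.mem_map.1 hv
      have hm := hpr _ (h2 q hq)
      have := packs_mix τ C.size
        (packs_encL τ C.size [ti (C.piv.getD q.1 (0, 0)).1 (C.piv.getD q.1 (0, 0)).2] fun j hj => by
          rw [List.mem_singleton.1 hj]
          exact ((hshape.2 _ hm.1) _ (Nat.lt_succ_of_le hm.2)).1.2)
        (packs_zero τ C.size) q.2 0
      rwa [List.map_singleton, List.sum_singleton, hpiv _ (h2 q hq), mul_zero, mul_zero, add_zero] at this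
  obtain ⟨f, hf1, hf2, hf3⟩ := hP
  have hlt : ∀ j < C.size, f j < lane := fun j hj =>
    lt_of_le_of_lt (hf2 ▸ Finset.single_le_sum (fun i _ => Nat.zero_le (f i)) (Finset.mem_range.2 hj)) hT
  have e1 : ∀ j ∈ Finset.range C.size, (f j : ZMod C.p) * τ j = if j = k then τ j else 0 := by
    intro j hj
    have := h3 j (Finset.mem_range.1 hj)
    rw [hf1, digit_sum f _ _ (Finset.mem_range.1 hj) hlt] at this
    rw [← ZMod.natCast_mod (f j) C.p, this]
    by_cases hjk : j = k
    · subst hjk; simp
    · rw [show Nat.beq j k = false by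
        rw [Bool.eq_false_iff]; exact fun h => hjk (Nat.eq_of_beq_eq_true h)]
      simp [hjk]
  rw [Finset.sum_congr rfl e1, Finset.sum_ite_eq', if_pos (Finset.mem_range.2 hk)] at hf3
  exact hf3.symm

end

variable {Γ : Type*} [Group Γ] [Finite Γ] {G : Type*} [Group G] [Finite G] {σ : Γ →* G}

/-- A checked certificate excludes stem extensions with kernel of order `p` in which the relations in
`known` have trivial tails for all lifts. -/
theorem Cert.not_stem_known (C : Cert) (known : List (ℕ × ℕ)) (hp : C.p.Prime) (h : C.CheckedKnown known)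
    (g : ℕ → G)
    (hrule : ∀ i j, i < C.n → j ≤ i → wp g (lhs C.p i j) = wp g (rhs C.rules i j))
    (hfus : C.FusHold g)
    (hwit : ∀ b < C.n, ∀ k, 1 ≤ k → k < C.p →
      g b ^ k ∉ Subgroup.closure (g '' {i | b < i ∧ i < C.n}))
    (hcard : ¬ C.p ^ (C.n + 1) ∣ Nat.card G)
    (hknown : ∀ a : ℕ → Γ, (∀ i, σ (a i) = g i) → ∀ q ∈ known,
      wp a (lhs C.p q.1 q.2) = wp a (rhs C.rules q.1 q.2))
    (hσ : Cfsg.IsStemExtension σ) : Nat.card σ.ker ≠ C.p := by
  classical
  intro hK
  haveI := Fact.mk hp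
  obtain ⟨z, hz, hz1⟩ : ∃ z ∈ σ.ker, z ≠ 1 := by
    by_contra! hall
    have hb : σ.ker = ⊥ := (Subgroup.eq_bot_iff_forall _).2 hall
    rw [hb, Subgroup.card_bot] at hK
    exact hp.ne_one hK.symm
  have hzp : orderOf z = C.p := orderOf_eq_prime (by
    rw [← hK]; exact congrArg Subtype.val (pow_card_eq_one' (x := (⟨z, hz⟩ : σ.ker)))) hz1
  obtain ⟨e, hedef⟩ : ∃ e : ZMod C.p → Γ, ∀ c, e c = z ^ c.val := ⟨_, fun _ => rfl⟩
  have he : ∀ x y, e (x + y) = e x * e y := fun x y => by
    rw [hedef, hedef, hedef, ← pow_add, ZMod.val_add, ← pow_mod_orderOf z (x.val + y.val), hzp]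
  have he0 : e 0 = 1 := by rw [hedef, ZMod.val_zero, pow_zero]
  have hek : ∀ c, σ (e c) = 1 := fun c => by
    rw [hedef, map_pow, MonoidHom.mem_ker.1 hz, one_pow]
  have hec : ∀ c (x : Γ), x * e c = e c * x := fun c =>
    Subgroup.mem_center_iff.1 (hσ.2.1 (MonoidHom.mem_ker.2 (hek c)))
  have hinj : Function.Injective e := fun x y hxy => by
    rw [hedef, hedef] at hxy
    exact ZMod.val_injective _ (pow_injOn_Iio_orderOf (by rw [hzp]; exact ZMod.val_lt x)
      (by rw [hzp]; exact ZMod.val_lt y) hxy)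
  have hker : ∀ x : Γ, σ x = 1 → ∃ c, x = e c := by
    intro x hx
    have hzk : Subgroup.zpowers z = σ.ker := Subgroup.eq_of_le_of_card_ge (Subgroup.zpowers_le.2 hz)
      (by rw [Nat.card_zpowers, hzp, hK])
    have hmem : x ∈ Submonoid.powers z := (mem_powers_iff_mem_zpowers).2 (hzk ▸ MonoidHom.mem_ker.2 hx)
    obtain ⟨k, rfl⟩ := hmem
    exact ⟨(k : ZMod C.p), by rw [hedef, ZMod.val_natCast, ← hzp, pow_mod_orderOf]⟩
  choose a0 ha0 using fun i => hσ.1 (g i)
  have hwp : ∀ (a : ℕ → Γ), (∀ i, σ (a i) = g i) → ∀ w : List ℕ, σ (wp a w) = wp g w :=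
    fun a ha => PcCover.wp_map ha
  obtain ⟨hshape0, hpiv0, hrange, hcomb, hrv, hrels⟩ := h
  have hshape := hshape0
  simp only [Cert.shapeOk, List.all_eq_true, List.mem_range, Bool.and_eq_true, decide_eq_true_eq,
    beq_iff_eq] at hshape
  have hpivok := hpiv0
  simp only [Cert.pivOk, List.all_eq_true, List.mem_range, Bool.and_eq_true, decide_eq_true_eq] at hpivok
  have htails : ∀ a : ℕ → Γ, (∀ i, σ (a i) = g i) → ∃ τ : ℕ → ZMod C.p, ∀ i j, i < C.n → j ≤ i →
      wp a (lhs C.p i j) = wp a (rhs C.rules i j) * e (τ (ti i j)) := by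
    intro a ha
    have hex : ∀ q : ℕ × ℕ, ∃ c : ZMod C.p, q.1 < C.n → q.2 ≤ q.1 →
        wp a (lhs C.p q.1 q.2) = wp a (rhs C.rules q.1 q.2) * e c := by
      rintro ⟨i, j⟩
      by_cases hq : i < C.n ∧ j ≤ i
      · obtain ⟨c, hc⟩ := hker ((wp a (rhs C.rules i j))⁻¹ * wp a (lhs C.p i j)) (by
          rw [map_mul, map_inv, hwp a ha, hwp a ha, hrule i j hq.1 hq.2, inv_mul_cancel])
        exact ⟨c, fun _ _ => by rw [← hc, mul_inv_cancel_left]⟩
      · exact ⟨0, fun hi hj => absurd ⟨hi, hj⟩ hq⟩
    choose c hc using hex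
    refine ⟨fun k => c ((pairs C.n).getD k (0, 0)), fun i j hi hj => ?_⟩
    show _ = _ * e (c ((pairs C.n).getD (ti i j) (0, 0)))
    rw [((hshape.2 i hi) j (Nat.lt_succ_of_le hj)).1.1]
    exact hc (i, j) hi hj
  obtain ⟨τ0, hτ0⟩ := htails a0 ha0
  -- change of lifts
  obtain ⟨u, hu⟩ : ∃ u : ℕ → ZMod C.p, ∀ i, u i = - ∑ m ∈ Finset.range C.piv.length,
      (((C.minv.getD i []).getD m 0 : ℤ) : ZMod C.p) *
        τ0 (ti (C.piv.getD m (0, 0)).1 (C.piv.getD m (0, 0)).2) := ⟨_, fun _ => rfl⟩
  obtain ⟨a, hadef⟩ : ∃ a : ℕ → Γ, ∀ i, a i = a0 i * e (u i) := ⟨_, fun _ => rfl⟩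
  have ha : ∀ i, σ (a i) = g i := fun i => by rw [hadef, map_mul, hek, mul_one, ha0]
  have hau : ∀ w : List ℕ, wp a w = wp a0 w * e (w.map u).sum := by
    intro w
    induction w with
    | nil => simp [wp_nil, he0]
    | cons i w ih =>
      rw [wp_cons, ih, hadef, wp_cons, List.map_cons, List.sum_cons, he]
      simp only [mul_assoc]
      rw [← mul_assoc (e (u i)), ← hec (u i), mul_assoc]
  have hrel : ∀ i j, i < C.n → j ≤ i → wp a (lhs C.p i j) =
      wp a (rhs C.rules i j) * e (τ0 (ti i j) + ((lhs C.p i j).map u).sum - ((rhs C.rules i j).map u).sum) := by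
    intro i j hi hj
    rw [hau, hau, hτ0 i j hi hj, mul_assoc, mul_assoc, ← he, ← he]
    congr 2
    ring
  obtain ⟨τ, hτ⟩ := htails a ha
  have hlt : ∀ i j, i < C.n → j ≤ i → (∀ k ∈ lhs C.p i j, k < C.n) ∧ ∀ k ∈ rhs C.rules i j, k < C.n := by
    intro i j hi hj
    refine ⟨fun k hk => ?_, fun k hk => ?_⟩
    · rw [lhs] at hk
      split at hk
      · rw [(List.mem_replicate.1 hk).2]; exact hi
      · simp only [List.mem_cons, List.not_mem_nil, or_false] at hk
        omega
    · have hs := ((hshape.2 i hi) j (Nat.lt_succ_of_le hj)).2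
      split at hs
      · simp only [List.all_eq_true, decide_eq_true_eq] at hs
        exact (hs k hk).2
      · simp only [Bool.and_eq_true, List.all_eq_true, decide_eq_true_eq, beq_iff_eq] at hs
        match hl : rhs C.rules i j, hs, hk with
        | [], _, hk => simp at hk
        | x :: t, hs, hk =>
          simp only [List.head?_cons, Option.some.injEq, List.tail_cons] at hs
          rcases List.mem_cons.1 hk with rfl | hk
          · omega
          · exact (hs.2 k hk).2
  have hpiv : ∀ m < C.piv.length, τ (ti (C.piv.getD m (0, 0)).1 (C.piv.getD m (0, 0)).2) = 0 := by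
    intro m hm
    obtain ⟨⟨hi, hj⟩, hrow⟩ := hpivok m hm
    have e1 := (hrel _ _ hi hj).symm.trans (hτ _ _ hi hj)
    rw [← hinj (mul_left_cancel e1), sum_count_eq u _ (hlt _ _ hi hj).1, sum_count_eq u _ (hlt _ _ hi hj).2,
      add_sub_assoc, ← Finset.sum_sub_distrib]
    have e2 : ∀ k ∈ Finset.range C.n,
        (((lhs C.p (C.piv.getD m (0, 0)).1 (C.piv.getD m (0, 0)).2).count k : ℤ) : ZMod C.p) * u k -
          (((rhs C.rules (C.piv.getD m (0, 0)).1 (C.piv.getD m (0, 0)).2).count k : ℤ) : ZMod C.p) * u k =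
        - ∑ m' ∈ Finset.range C.piv.length, ((C.dcoef m k * (C.minv.getD k []).getD m' 0 : ℤ) : ZMod C.p) *
          τ0 (ti (C.piv.getD m' (0, 0)).1 (C.piv.getD m' (0, 0)).2) := by
      intro k _
      rw [← sub_mul, hu, mul_neg, Finset.mul_sum]
      simp only [Cert.dcoef, Int.cast_mul, Int.cast_sub, mul_assoc]
    rw [Finset.sum_congr rfl e2, Finset.sum_neg_distrib, Finset.sum_comm, add_neg_eq_zero]
    have e3 : ∀ m' ∈ Finset.range C.piv.length,
        (∑ k ∈ Finset.range C.n, ((C.dcoef m k * (C.minv.getD k []).getD m' 0 : ℤ) : ZMod C.p) *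
          τ0 (ti (C.piv.getD m' (0, 0)).1 (C.piv.getD m' (0, 0)).2)) =
        if m = m' then τ0 (ti (C.piv.getD m' (0, 0)).1 (C.piv.getD m' (0, 0)).2) else 0 := by
      intro m' hm'
      have := cast_of_dvdP (hrow m' (Finset.mem_range.1 hm'))
      rw [Int.cast_sub, sub_eq_zero] at this
      rw [← Finset.sum_mul, ← Int.cast_sum, show (∑ k ∈ Finset.range C.n,
        C.dcoef m k * (C.minv.getD k []).getD m' 0) =
          ((List.range C.n).map fun k => C.dcoef m k * (C.minv.getD k []).getD m' 0).sum from rfl, this]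
      split <;> simp
    rw [Finset.sum_congr rfl e3, Finset.sum_ite_eq, if_pos (Finset.mem_range.2 hm)]
  have hpiv' : ∀ m < (C.withKnown known).piv.length, τ (ti ((C.withKnown known).piv.getD m (0, 0)).1
      ((C.withKnown known).piv.getD m (0, 0)).2) = 0 := by
    intro m hm
    simp only [Cert.withKnown, List.length_append] at hm ⊢
    rcases lt_or_ge m C.piv.length with hlt' | hge
    · rw [List.getD_append _ _ _ _ hlt']; exact hpiv m hlt'
    · rw [List.getD_append_right _ _ _ _ hge]
      have hmk : m - C.piv.length < known.length := by omega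
      rw [List.getD_eq_getElem _ _ hmk]
      have hr : known[m - C.piv.length].1 < C.n ∧ known[m - C.piv.length].2 ≤ known[m - C.piv.length].1 := by
        have := hrange
        simp only [Cert.pivRange, Cert.withKnown, List.all_eq_true, List.mem_range, List.length_append,
          Bool.and_eq_true, decide_eq_true_eq] at this
        have h2 := this m hm
        obtain ⟨h3, h4⟩ := h2
        have e : (C.piv ++ known).getD m (0, 0) = known[m - C.piv.length] := by
          rw [List.getD_append_right _ _ _ _ hge, List.getD_eq_getElem _ _ hmk]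
        exact ⟨e ▸ of_decide_eq_true h3, e ▸ of_decide_eq_true h4⟩
      have h1 := (hτ _ _ hr.1 hr.2).symm.trans (hknown a ha _ (List.getElem_mem hmk))
      rw [← mul_one (wp a (rhs C.rules _ _)), mul_assoc, one_mul] at h1
      exact hinj ((mul_left_cancel h1).trans he0.symm)
  have hzero : ∀ i j, i < C.n → j ≤ i → wp a (lhs C.p i j) = wp a (rhs C.rules i j) := fun i j hi hj => by
    have hk : ti i j < (C.withKnown known).size := ((hshape.2 i hi) j (Nat.lt_succ_of_le hj)).1.2
    have h0 : τ (ti i j) = 0 := tails_eq_zero' (C.withKnown known) he he0 hec hτ hinj hσ.1 ha hker hshape0 hrange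
      hcomb hrv hrels hfus hpiv' hk
    rw [hτ i j hi hj, h0, he0, mul_one]
  -- the chain
  obtain ⟨K, hKdef⟩ : ∃ K : ℕ → Subgroup Γ, ∀ b, K b = Subgroup.closure (a '' {i | b ≤ i ∧ i < C.n}) :=
    ⟨_, fun _ => rfl⟩
  have hmemK : ∀ {b i}, b ≤ i → i < C.n → a i ∈ K b := fun hb hi => by
    rw [hKdef]; exact Subgroup.subset_closure ⟨_, ⟨hb, hi⟩, rfl⟩
  have hmapK : ∀ b, (K (b + 1)).map σ = Subgroup.closure (g '' {i | b < i ∧ i < C.n}) := fun b => by
    rw [hKdef, MonoidHom.map_closure, Set.image_image]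
    simp only [ha]
    rfl
  have hwK : ∀ b (w : List ℕ), (∀ i ∈ w, b ≤ i ∧ i < C.n) → wp a w ∈ K b := by
    intro b w
    induction w with
    | nil => intro _; rw [wp_nil]; exact one_mem _
    | cons i w ih =>
      intro hw
      rw [wp_cons]
      exact mul_mem (hmemK (hw i List.mem_cons_self).1 (hw i List.mem_cons_self).2)
        (ih fun k hk => hw k (List.mem_cons_of_mem _ hk))
  have main : ∀ d b, b + d = C.n → (∀ x ∈ K b, σ x = 1 → x = 1) ∧ Nat.card ↥(K b) = C.p ^ d := by
    intro d
    induction d with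
    | zero =>
      intro b hb
      have : K b = ⊥ := by
        rw [hKdef, Subgroup.closure_eq_bot_iff]
        rintro _ ⟨i, ⟨h1, h2⟩, rfl⟩
        omega
      exact ⟨fun x hx _ => by rwa [this, Subgroup.mem_bot] at hx, by rw [this, Subgroup.card_bot, pow_zero]⟩
    | succ d ih =>
      intro b hb
      obtain ⟨ih1, ih2⟩ := ih (b + 1) (by omega)
      have hbn : b < C.n := by omega
      have hle : K (b + 1) ≤ K b := by
        rw [hKdef, hKdef]; exact Subgroup.closure_mono (Set.image_mono fun i hi => ⟨(Nat.le_succ b).trans hi.1, hi.2⟩)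
      have hpow : a b ^ C.p ∈ K (b + 1) := by
        have h1 := hzero b b hbn le_rfl
        rw [lhs, if_pos rfl] at h1
        have hs := ((hshape.2 b hbn) b (Nat.lt_succ_self b)).2
        rw [if_pos rfl] at hs
        simp only [List.all_eq_true, decide_eq_true_eq] at hs
        have e1 : wp a (List.replicate C.p b) = a b ^ C.p := by
          rw [wp, List.map_replicate, List.prod_replicate]
        rw [← e1, h1]
        exact hwK _ _ fun i hi => ⟨(hs i hi).1, (hs i hi).2⟩
      have hnorm : ∀ y ∈ K (b + 1), (a b)⁻¹ * y * a b ∈ K (b + 1) := by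
        intro y hy
        rw [hKdef] at hy
        induction hy using Subgroup.closure_induction with
        | mem y hy =>
          obtain ⟨i, ⟨hbi, hi⟩, rfl⟩ := hy
          have h1 := hzero i b hi (by omega)
          rw [lhs, if_neg (by omega)] at h1
          have hs := ((hshape.2 i hi) b (by omega)).2
          rw [if_neg (by omega)] at hs
          simp only [Bool.and_eq_true, List.all_eq_true, decide_eq_true_eq, beq_iff_eq] at hs
          match hl : rhs C.rules i b, hs, h1 with
          | [], hs, _ => simp at hs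
          | x :: t, hs, h1 =>
            simp only [List.head?_cons, Option.some.injEq, List.tail_cons] at hs
            obtain ⟨rfl, ht⟩ := hs
            rw [wp_cons, wp_cons, wp_nil, mul_one, wp_cons] at h1
            rw [mul_assoc, h1, inv_mul_cancel_left]
            exact hwK _ _ fun k hk => ⟨(ht k hk).1, (ht k hk).2⟩
        | one => simp
        | mul y y' _ _ hy hy' =>
          rw [show (a b)⁻¹ * (y * y') * a b = ((a b)⁻¹ * y * a b) * ((a b)⁻¹ * y' * a b) by group]
          exact mul_mem hy hy'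
        | inv y _ hy =>
          rw [show (a b)⁻¹ * y⁻¹ * a b = ((a b)⁻¹ * y * a b)⁻¹ by group]
          exact inv_mem hy
      have hform : ∀ x ∈ K b, ∃ k < C.p, ∃ y ∈ K (b + 1), x = a b ^ k * y := by
        intro x hx
        rw [hKdef, ← Subgroup.mem_toSubmonoid, Subgroup.closure_toSubmonoid_of_finite] at hx
        induction hx using Submonoid.closure_induction_right with
        | one => exact ⟨0, hp.pos, 1, one_mem _, by simp⟩
        | mul_right x _ w hw ih =>
          obtain ⟨k, hk, y, hy, rfl⟩ := ih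
          obtain ⟨i, ⟨hbi, hi⟩, rfl⟩ := hw
          rcases eq_or_lt_of_le hbi with rfl | hbi
          · have e1 : a b ^ k * y * a b = a b ^ (k + 1) * ((a b)⁻¹ * y * a b) := by
              rw [pow_succ]; group
            by_cases hk1 : k + 1 < C.p
            · exact ⟨k + 1, hk1, _, hnorm y hy, e1⟩
            · refine ⟨0, hp.pos, _, mul_mem hpow (hnorm y hy), ?_⟩
              rw [pow_zero, one_mul, e1, show k + 1 = C.p by omega]
          · exact ⟨k, hk, y * a i, mul_mem hy (hmemK hbi hi), by rw [mul_assoc]⟩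
      have hout : ∀ k, 1 ≤ k → k < C.p → ∀ y ∈ K (b + 1), σ (a b ^ k * y) ≠ 1 := by
        intro k hk1 hk2 y hy h1
        refine hwit b hbn k hk1 hk2 ?_
        rw [map_mul, map_pow, ha, mul_eq_one_iff_eq_inv] at h1
        rw [h1, ← hmapK]
        exact inv_mem (Subgroup.mem_map_of_mem σ hy)
      refine ⟨fun x hx h1 => ?_, ?_⟩
      · obtain ⟨k, hk, y, hy, rfl⟩ := hform x hx
        rcases Nat.eq_zero_or_pos k with rfl | hk0
        · rw [pow_zero, one_mul] at h1 ⊢
          exact ih1 y hy h1
        · exact absurd h1 (hout k hk0 hk y hy)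
      · have hab : a b ∈ K b := hmemK le_rfl hbn
        let f : Fin C.p × ↥(K (b + 1)) → ↥(K b) := fun q =>
          ⟨a b ^ q.1.val * q.2, mul_mem (pow_mem hab _) (hle q.2.2)⟩
        have hf : Function.Bijective f := by
          constructor
          · rintro ⟨k, y⟩ ⟨k', y'⟩ h1
            have h2 : a b ^ k.val * (y : Γ) = a b ^ k'.val * (y' : Γ) := congrArg Subtype.val h1
            have key : ∀ (k k' : Fin C.p) (y y' : ↥(K (b + 1))),
                a b ^ k.val * (y : Γ) = a b ^ k'.val * (y' : Γ) → ¬ k'.val < k.val := by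
              intro k k' y y' h2 hlt
              refine hout (k.val - k'.val) (by omega) (by omega) ((y : Γ) * (y' : Γ)⁻¹)
                (mul_mem y.2 (inv_mem y'.2)) ?_
              have : a b ^ (k.val - k'.val) * ((y : Γ) * (y' : Γ)⁻¹) = 1 := by
                rw [← mul_left_cancel_iff (a := a b ^ k'.val), mul_one, ← mul_assoc, ← mul_assoc, ← pow_add,
                  Nat.add_sub_cancel' hlt.le, h2, mul_inv_cancel_right]
              rw [this, map_one]
            have hkk : k = k' := Fin.ext (Nat.le_antisymm (not_lt.1 (key k k' y y' h2))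
              (not_lt.1 (key k' k y' y h2.symm)))
            subst hkk
            rw [Subtype.ext (mul_left_cancel h2)]
          · rintro ⟨x, hx⟩
            obtain ⟨k, hk, y, hy, rfl⟩ := hform x hx
            exact ⟨(⟨k, hk⟩, ⟨y, hy⟩), rfl⟩
        rw [← Nat.card_congr (Equiv.ofBijective f hf), Nat.card_prod, Nat.card_fin, ih2, pow_succ']
  obtain ⟨hK0, hcardK⟩ := main C.n 0 (zero_add _)
  -- the index
  have hidx : ¬ C.p ∣ (K 0 |>.map σ).index := by
    intro hd
    refine hcard ?_
    have hinjK : Function.Injective (σ.comp (K 0).subtype) :=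
      (injective_iff_map_eq_one _).2 fun x hx => Subtype.ext (hK0 x x.2 hx)
    have hc : Nat.card ↥((K 0).map σ) = C.p ^ C.n := by
      rw [← hcardK]
      exact (Nat.card_congr (Equiv.ofBijective
        (fun x : ↥(K 0) => (⟨σ x, Subgroup.mem_map_of_mem σ x.2⟩ : ↥((K 0).map σ)))
        ⟨fun x y hxy => hinjK (congrArg Subtype.val hxy), fun ⟨w, x, hx, hw⟩ => ⟨⟨x, hx⟩, Subtype.ext hw⟩⟩)).symm
    rw [← ((K 0).map σ).index_mul_card, hc, pow_succ']
    exact Nat.mul_dvd_mul_right hd _
  have hgen : ∀ s ∈ a '' {i | 0 ≤ i ∧ i < C.n}, s ∈ K 0 := fun s hs => by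
    rw [hKdef]; exact Subgroup.subset_closure hs
  have hcomm : ∀ w ∈ σ.ker, ∀ x : Γ, Commute x w := fun w hw => Subgroup.mem_center_iff.1 (hσ.2.1 hw)
  have hle := ker_le_commutator_closure hσ hp hK ((a '' {i | 0 ≤ i ∧ i < C.n}) ∪ (σ.ker : Set Γ))
    Set.subset_union_right ((K 0).map σ)
    (Subgroup.map_mono (by rw [hKdef]; exact Subgroup.closure_mono Set.subset_union_left)) hidx
  have hle' : σ.ker ≤ K 0 := hle.trans (commutator_closure_le _ (K 0) (fun s hs t ht => by
    rcases hs with hs | hs
    · rcases ht with ht | ht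
      · have h1 := hgen s hs
        have h2 := hgen t ht
        rw [commutatorElement_def]
        exact mul_mem (mul_mem (mul_mem h1 h2) (inv_mem h1)) (inv_mem h2)
      · rw [commutatorElement_eq_one_iff_commute.2 (hcomm t ht s)]
        exact one_mem _
    · rw [commutatorElement_eq_one_iff_commute.2 (hcomm s hs t).symm]
      exact one_mem _) (fun s hs x hx => by
    rcases hs with hs | hs
    · exact mul_mem (mul_mem (hgen s hs) hx) (inv_mem (hgen s hs))
    · rw [← (hcomm s hs x).eq, mul_inv_cancel_right]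
      exact hx))
  exact hz1 (hK0 z (hle' hz) (MonoidHom.mem_ker.1 hz))

end Cfsg.Agent.Multiplier.PrimeTails
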