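import Cfsg.Agent.Lib.Multiplier.Basic

/-!
# No triple stem extension over a Sylow 3-subgroup `(C3 × C3 × C3) ⋊ C3`

* `not_stem_three_wreath`: three commuting elements of order 3 permuted cyclically by `s`, generating
  with `s` a subgroup of index prime to 3, and an element inverting the first and fixing the second.
-/

set_option autoImplicit false

open scoped commutatorElement

namespace Cfsg.Agent.Multiplier

universe u v

variable {G : Type v} [Group G] {Γ : Type u} [Group Γ] [Finite Γ] {σ : Γ →* G}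

theorem not_stem_three_wreath (hσ : Cfsg.IsStemExtension σ) {a b c s t : G} (ha : a * a * a = 1)
    (hs : s * s * s = 1) (hsa : s * a * s⁻¹ = b) (hsb : s * b * s⁻¹ = c) (hab : Commute a b)
    (hta : t * a * t⁻¹ = a⁻¹) (htb : t * b * t⁻¹ = b)
    (hindep : ∀ i j k : ℕ, i < 3 → j < 3 → k < 3 → a ^ i * b ^ j * c ^ k = 1 → i = 0 ∧ j = 0 ∧ k = 0)
    (hidx : ¬ 3 ∣ (Subgroup.closure {a, b, c, s}).index) : Nat.card σ.ker ≠ 3 := by
  intro hK
  have hc : σ.ker ≤ Subgroup.center Γ := hσ.2.1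
  have hcube : ∀ k ∈ σ.ker, k ^ 3 = 1 := fun k hk => by
    rw [← hK]; exact congrArg Subtype.val (pow_card_eq_one' (x := (⟨k, hk⟩ : σ.ker)))
  have hcen : ∀ k ∈ σ.ker, ∀ g : Γ, g * k * g⁻¹ = k := fun k hk g => by
    rw [Subgroup.mem_center_iff.1 (hc hk) g, mul_inv_cancel_right]
  obtain ⟨A, hA⟩ := hσ.1 a
  obtain ⟨S, hS⟩ := hσ.1 s
  obtain ⟨T, hT⟩ := hσ.1 t
  obtain ⟨B, hB⟩ : ∃ B, B = S * A * S⁻¹ := ⟨_, rfl⟩
  obtain ⟨C, hC⟩ : ∃ C, C = S * B * S⁻¹ := ⟨_, rfl⟩
  have hσB : σ B = b := by rw [hB, map_mul, map_mul, map_inv, hS, hA, hsa]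
  have hσC : σ C = c := by rw [hC, map_mul, map_mul, map_inv, hS, hσB, hsb]
  have hS3 : ∀ g : Γ, S * (S * (S * g * S⁻¹) * S⁻¹) * S⁻¹ = g := fun g => by
    have h3 : S * S * S ∈ Subgroup.center Γ :=
      hc (by rw [MonoidHom.mem_ker, map_mul, map_mul, hS, hs])
    rw [show S * (S * (S * g * S⁻¹) * S⁻¹) * S⁻¹ = S * S * S * g * (S * S * S)⁻¹ by group,
      ← Subgroup.mem_center_iff.1 h3 g, mul_inv_cancel_right]
  have hCA : S * C * S⁻¹ = A := by rw [hC, hB, hS3]
  -- the lifts commute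
  have hAB : ⁅A, B⁆ = 1 := by
    have hk : ⁅A, B⁆ ∈ σ.ker := by
      rw [MonoidHom.mem_ker, map_commutatorElement, hA, hσB, commutatorElement_eq_one_iff_commute]
      exact hab
    have h1 : ⁅A, B⁆ = ⁅A⁻¹, B⁆ := by
      have e := Multiplier.conj_commutator T A B
      rw [hcen _ hk] at e
      rw [e]
      exact commutator_congr hc (by rw [map_mul, map_mul, map_inv, hT, hA, hta, map_inv, hA])
        (by rw [map_mul, map_mul, map_inv, hT, hσB, htb])
    have h2 : ⁅A⁻¹, B⁆ = ⁅A, B⁆⁻¹ := by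
      rw [show ⁅A⁻¹, B⁆ = A⁻¹ * ⁅A, B⁆⁻¹ * A⁻¹⁻¹ by simp only [commutatorElement_def]; group,
        hcen _ (inv_mem hk)]
    exact eq_one_of_three (h1.trans h2) (hcube _ hk)
  have hAB' : Commute A B := commutatorElement_eq_one_iff_commute.1 hAB
  have hBC' : Commute B C := by
    have := hAB'.map (MulAut.conj S).toMonoidHom
    simpa [← hB, ← hC] using this
  have hCA' : Commute C A := by
    have := hBC'.map (MulAut.conj S).toMonoidHom
    simpa [← hC, hCA] using this
  -- the cube of the lift of `a`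
  have hA3 : A ^ 3 = 1 := by
    have hk : A ^ 3 ∈ σ.ker := by rw [MonoidHom.mem_ker, map_pow, hA, pow_three', ha]
    obtain ⟨k, hkdef⟩ : ∃ k, k = A * (T * A * T⁻¹) := ⟨_, rfl⟩
    have hkk : k ∈ σ.ker := by
      rw [hkdef, MonoidHom.mem_ker, map_mul, map_mul, map_mul, map_inv, hT, hA, hta, mul_inv_cancel]
    have hconj : T * A * T⁻¹ = A⁻¹ * k := by rw [hkdef]; group
    have h1 : (A⁻¹ * k) ^ 3 = A ^ 3 := by rw [← hconj, conj_pow, hcen _ hk]
    rw [(show Commute A⁻¹ k from Subgroup.mem_center_iff.1 (hc hkk) _).mul_pow, hcube k hkk, mul_one,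
      inv_pow] at h1
    exact eq_one_of_three h1.symm (hcube _ hk)
  have hB3 : B ^ 3 = 1 := by rw [hB, conj_pow, hA3, mul_one, mul_inv_cancel]
  have hC3 : C ^ 3 = 1 := by rw [hC, conj_pow, hB3, mul_one, mul_inv_cancel]
  -- the subgroup holding the derived group
  obtain ⟨M, hM⟩ : ∃ M, M = Subgroup.closure ({A, B, C} : Set Γ) := ⟨_, rfl⟩
  have hgenM : ∀ x ∈ ({A, B, C} : Set Γ), x ∈ M := fun x hx => hM ▸ Subgroup.subset_closure hx
  have hform : ∀ x ∈ M, ∃ i j k : ℕ, x = A ^ i * B ^ j * C ^ k := by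
    intro x hx
    rw [hM, ← Subgroup.mem_toSubmonoid, Subgroup.closure_toSubmonoid_of_finite] at hx
    induction hx using Submonoid.closure_induction_right with
    | one => exact ⟨0, 0, 0, by simp⟩
    | mul_right y _ z hz ih =>
      obtain ⟨i, j, k, rfl⟩ := ih
      rcases hz with hz | hz | hz <;> (try rw [Set.mem_singleton_iff] at hz) <;> rw [hz]
      · exact ⟨i + 1, j, k, by
          rw [mul_assoc _ (C ^ k) A, (hCA'.pow_left k).eq, ← mul_assoc, mul_assoc (A ^ i),
            ((hAB'.symm.pow_left j)).eq, ← mul_assoc, ← pow_succ]⟩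
      · exact ⟨i, j + 1, k, by
          rw [mul_assoc _ (C ^ k) B, (hBC'.symm.pow_left k).eq, ← mul_assoc, mul_assoc (A ^ i), ← pow_succ]⟩
      · exact ⟨i, j, k + 1, by rw [mul_assoc, ← pow_succ]⟩
  have hconjS : ∀ x ∈ M, S * x * S⁻¹ ∈ M := by
    intro x hx
    rw [hM] at hx
    induction hx using Subgroup.closure_induction with
    | mem y hy =>
      rcases hy with hy | hy | hy <;> (try rw [Set.mem_singleton_iff] at hy) <;> rw [hy]
      · rw [← hB]; exact hgenM _ (by simp)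
      · rw [← hC]; exact hgenM _ (by simp)
      · rw [hCA]; exact hgenM _ (by simp)
    | one => simp
    | mul y z _ _ hy hz => simpa [mul_assoc] using M.mul_mem hy hz
    | inv y _ hy => simpa [mul_assoc] using M.inv_mem hy
  have hcomm : ∀ x ∈ ({A, B, C} : Set Γ), ∀ y ∈ ({A, B, C} : Set Γ), Commute x y := by
    intro x hx y hy
    rcases hx with hx | hx | hx <;> rcases hy with hy | hy | hy <;>
      (try rw [Set.mem_singleton_iff] at hx) <;> (try rw [Set.mem_singleton_iff] at hy) <;> rw [hx, hy]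
    exacts [hAB', hCA'.symm, hAB'.symm, hBC', hCA', hBC'.symm]
  have hle := ker_le_commutator_closure hσ Nat.prime_three hK (({A, B, C} : Set Γ) ∪ {S} ∪ (σ.ker : Set Γ))
    Set.subset_union_right (Subgroup.closure {a, b, c, s}) (by
      rw [Subgroup.closure_le]
      rintro _ (rfl | rfl | rfl | rfl)
      exacts [⟨A, Subgroup.subset_closure (Or.inl (Or.inl (by simp))), hA⟩,
        ⟨B, Subgroup.subset_closure (Or.inl (Or.inl (by simp))), hσB⟩,
        ⟨C, Subgroup.subset_closure (Or.inl (Or.inl (by simp))), hσC⟩,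
        ⟨S, Subgroup.subset_closure (Or.inl (Or.inr rfl)), hS⟩]) hidx
  have hker : σ.ker ≤ M := hle.trans (commutator_closure_le _ M (fun x hx y hy => by
    have one_of : ∀ {p q : Γ}, Commute p q → ⁅p, q⁆ ∈ M := fun h => by
      rw [commutatorElement_eq_one_iff_commute.2 h]; exact one_mem M
    have hSx : ∀ z ∈ ({A, B, C} : Set Γ), ⁅S, z⁆ ∈ M := fun z hz => by
      rw [commutatorElement_def]; exact M.mul_mem (hconjS z (hgenM z hz)) (M.inv_mem (hgenM z hz))
    rcases hx with (hx | hx) | hx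
    · rcases hy with (hy | hy) | hy
      · exact one_of (hcomm x hx y hy)
      · rw [Set.mem_singleton_iff.1 hy, ← commutatorElement_inv]; exact M.inv_mem (hSx x hx)
      · exact one_of (Subgroup.mem_center_iff.1 (hc hy) x)
    · rcases hy with (hy | hy) | hy
      · rw [Set.mem_singleton_iff.1 hx]; exact hSx y hy
      · rw [Set.mem_singleton_iff.1 hx, Set.mem_singleton_iff.1 hy]; exact one_of (Commute.refl _)
      · exact one_of (Subgroup.mem_center_iff.1 (hc hy) x)
    · exact one_of (Subgroup.mem_center_iff.1 (hc hx) y).symm) (fun x hx m hm => by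
    rcases hx with (hx | hx) | hx
    · exact M.mul_mem (M.mul_mem (hgenM x hx) hm) (M.inv_mem (hgenM x hx))
    · rw [Set.mem_singleton_iff.1 hx]; exact hconjS m hm
    · rw [← Subgroup.mem_center_iff.1 (hc hx) m, mul_inv_cancel_right]; exact hm))
  have hbot : σ.ker = ⊥ := by
    rw [Subgroup.eq_bot_iff_forall]
    intro z hz
    obtain ⟨i, j, k, rfl⟩ := hform z (hker hz)
    rw [pow_eq_pow_mod i hA3, pow_eq_pow_mod j hB3, pow_eq_pow_mod k hC3] at hz ⊢
    have h1 := MonoidHom.mem_ker.1 hz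
    rw [map_mul, map_mul, map_pow, map_pow, map_pow, hA, hσB, hσC] at h1
    obtain ⟨hi, hj, hk⟩ := hindep _ _ _ (Nat.mod_lt _ (by norm_num)) (Nat.mod_lt _ (by norm_num))
      (Nat.mod_lt _ (by norm_num)) h1
    rw [hi, hj, hk]; simp
  rw [hbot, Subgroup.card_bot] at hK
  norm_num at hK

end Cfsg.Agent.Multiplier
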