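import Cfsg.Agent.Lib.Multiplier.Sp6Checks
import Cfsg.Agent.Lib.Multiplier.WreathThree
import Cfsg.Agent.Lib.Multiplier.PrimeQuotient

/-!
# The Schur multiplier of Sp6(2) has order at most 2

* `natCard_closure_of_groupOK`: the order of a subgroup given by a list of codes.
* `not_commute_lifts`: in a stem extension with kernel of prime order the lifts of the chosen
  commuting pair do not commute.
-/

set_option autoImplicit false
set_option maxRecDepth 20000

namespace Cfsg.Agent.Multiplier.Sp6

open Sp6Data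

theorem natCard_closure_of_groupOK {gens : List ℕ} {words : List (List ℕ)} {elems : List ℕ} {nx : ℕ → ℕ → ℕ}
    (h : groupOK gens words elems nx = true) :
    Nat.card (Subgroup.closure {x : G0 | ∃ g ∈ gens, el g = x}) = words.length := by
  classical
  simp only [groupOK, Bool.and_eq_true, List.all_eq_true, List.contains_iff_mem, List.mem_range,
    decide_eq_true_eq, beq_iff_eq, bne_iff_ne] at h
  obtain ⟨⟨⟨⟨⟨helems', hok⟩, hsub⟩, hone⟩, hclosed⟩, hnodup⟩ := h
  have helems : elems = words.map wordC := helems'.symm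
  have hlen : elems.length = words.length := by rw [helems, List.length_map]
  have hokw : ∀ l ∈ words, ∀ d ∈ l, ok d = true := fun l hl d hd => hok d (hsub l hl d hd)
  have hoke : ∀ e ∈ elems, ok e = true := by
    intro e he
    rw [helems, List.mem_map] at he
    obtain ⟨l, hl, rfl⟩ := he
    exact ok_wordC (hokw l hl)
  obtain ⟨P, hP⟩ : ∃ P, P = Subgroup.closure {x : G0 | ∃ g ∈ gens, el g = x} := ⟨_, rfl⟩
  have hmemP : ∀ e ∈ elems, el e ∈ P := by
    intro e he
    rw [helems, List.mem_map] at he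
    obtain ⟨l, hl, rfl⟩ := he
    rw [el_wordC (hokw l hl)]
    refine Subgroup.list_prod_mem P fun x hx => ?_
    obtain ⟨d, hd, rfl⟩ := List.mem_map.1 hx
    exact hP ▸ Subgroup.subset_closure ⟨d, hsub l hl d hd, rfl⟩
  let f : Fin elems.length → P := fun i => ⟨el (elems.get i), hmemP _ (List.get_mem _ _)⟩
  have hinj : Function.Injective f := by
    intro i j hij
    by_contra hne
    have hij' : elems.get i = elems.get j :=
      (el_injOn (hoke _ (List.get_mem _ _)) (hoke _ (List.get_mem _ _))).1 (congrArg Subtype.val hij)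
    have key : ∀ i j : Fin elems.length, j < i → elems.get i ≠ elems.get j := by
      intro i j hlt he
      refine hnodup i.val (hlen ▸ i.isLt) j.val hlt ?_
      simpa [List.getD_eq_getElem?_getD] using he
    rcases lt_or_gt_of_ne hne with h | h
    · exact key j i h hij'.symm
    · exact key i j h hij'
  have hsurj : Function.Surjective f := by
    rintro ⟨x, hx⟩
    suffices H : ∃ e ∈ elems, el e = x by
      obtain ⟨e, he, rfl⟩ := H
      obtain ⟨i, hi⟩ := List.get_of_mem he
      exact ⟨i, Subtype.ext (by simp [f, ← hi])⟩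
    rw [hP, ← Subgroup.mem_toSubmonoid, Subgroup.closure_toSubmonoid_of_finite] at hx
    induction hx using Submonoid.closure_induction_right with
    | one => exact ⟨oneC, hone, el_oneC⟩
    | mul_right x _ y hy ih =>
      obtain ⟨e, he, rfl⟩ := ih
      obtain ⟨g, hg, rfl⟩ := hy
      obtain ⟨i, hi, hie⟩ := List.mem_iff_getElem.1 he
      obtain ⟨k, hk, hkg⟩ := List.mem_iff_getElem.1 hg
      obtain ⟨hj, hje⟩ := hclosed i (hlen ▸ hi) k hk
      rw [List.getD_eq_getElem?_getD, List.getElem?_eq_getElem (hlen ▸ hj), Option.getD_some,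
        List.getD_eq_getElem?_getD, List.getElem?_eq_getElem hi, Option.getD_some,
        List.getD_eq_getElem?_getD, List.getElem?_eq_getElem hk, Option.getD_some, hie, hkg] at hje
      exact ⟨mulC e g, hje ▸ List.getElem_mem _, el_mul (hoke e he) (hok g hg)⟩
  rw [← hP, ← Nat.card_congr (Equiv.ofBijective f ⟨hinj, hsurj⟩), Nat.card_fin, hlen]

theorem code_ok {i : ℕ} (hi : i < 9) : ok (code i) = true := by
  have h : (List.range 9).all (fun i => ok (code i)) = true := by decide +kernel
  exact List.all_eq_true.1 h i (List.mem_range.2 hi)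

theorem ok_map {l : List ℕ} (h : ∀ i ∈ l, i < 9) : ∀ d ∈ l.map code, ok d = true := by
  intro d hd
  obtain ⟨i, hi, rfl⟩ := List.mem_map.1 hd
  exact code_ok (h i hi)

/-- A letter as an element of the group. -/
noncomputable def gen (i : ℕ) : G0 := el (code i)

theorem pw_gen (l : List ℕ) : TailCert.pw gen l = ((l.map code).map el).prod := by
  rw [List.map_map]; rfl

theorem rep_lt (a b : ℕ) (ha : a < 9) (hb : b ≤ a) : ∀ i ∈ TailCert.rep 9 rhs a b, i < 9 := by
  intro i hi
  rw [TailCert.rep] at hi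
  split at hi
  · exact List.mem_range.1 (List.mem_filter.1 hi).1
  · rcases List.mem_cons.1 hi with rfl | hi
    · omega
    rcases List.mem_cons.1 hi with rfl | hi
    · exact ha
    · exact List.mem_range.1 (List.mem_filter.1 hi).1

theorem rep_init : TailCert.rep 9 rhs 2 0 = [0, 2, 4] ∧ TailCert.rep 9 rhs 2 1 = [1, 2, 5] ∧
    TailCert.rep 9 rhs 3 0 = [0, 3, 6] ∧ TailCert.rep 9 rhs 4 1 = [1, 4, 7] ∧
    TailCert.rep 9 rhs 7 2 = [2, 7, 8] := by decide +kernel

theorem gen_rel {c d : ℕ} (hc : c < 9) (hd : d ≤ c) :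
    gen c * gen d = TailCert.pw gen (TailCert.rep 9 rhs c d) := by
  have h := check_side
  simp only [sideOK, Bool.and_eq_true, List.all_eq_true, List.mem_range] at h
  have h1 := prod_eq (l := [code c, code d]) (fun a ha => by
    simp only [List.mem_cons, List.not_mem_nil, or_false] at ha
    rcases ha with rfl | rfl
    · exact code_ok hc
    · exact code_ok (by omega)) (ok_map (rep_lt c d hc hd)) (h.1.1.1.1.2 c hc d (by omega))
  simpa [pw_gen, gen] using h1

/-- The first element of the pair. -/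
noncomputable def pairx : G0 := gen 0

/-- The second element of the pair. -/
noncomputable def pairy : G0 := gen 1

theorem pairx_sq : pairx * pairx = 1 := by
  have h := check_side
  simp only [sideOK, Bool.and_eq_true] at h
  have h1 := prod_eq (l := [code 0, code 0]) (r := []) (by simp [code_ok]) (by simp) h.1.1.2
  simpa [pairx, gen] using h1

theorem pairx_comm : pairx * pairy = pairy * pairx := by
  have h := check_side
  simp only [sideOK, Bool.and_eq_true] at h
  have h1 := prod_eq (l := [code 0, code 1]) (r := [code 1, code 0]) (by simp [code_ok]) (by simp [code_ok]) h.1.2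
  simpa [pairx, pairy, gen] using h1

universe u

/-- No triple stem extension. -/
theorem not_stem_three {Γ : Type u} [Group Γ] [Finite Γ] (σ : Γ →* G0) (hσ : Cfsg.IsStemExtension σ) :
    Nat.card σ.ker ≠ 3 := by
  have h := check_three
  simp only [check3, Bool.and_eq_true, List.all_eq_true, List.mem_range, Bool.or_eq_true] at h
  obtain ⟨⟨⟨⟨⟨⟨⟨⟨hok, ha⟩, hs⟩, hsa⟩, hsb⟩, hab⟩, hta⟩, htb⟩, hind⟩ := h
  have hoa := hok three.1 (by simp)
  have hob := hok three.2.1 (by simp)
  have hoc := hok three.2.2.1 (by simp)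
  have hos := hok three.2.2.2.1 (by simp)
  have hot := hok three.2.2.2.2 (by simp)
  obtain ⟨a, hadef⟩ : ∃ a, a = three.1 := ⟨_, rfl⟩
  obtain ⟨b, hbdef⟩ : ∃ b, b = three.2.1 := ⟨_, rfl⟩
  obtain ⟨c, hcdef⟩ : ∃ c, c = three.2.2.1 := ⟨_, rfl⟩
  obtain ⟨s, hsdef⟩ : ∃ s, s = three.2.2.2.1 := ⟨_, rfl⟩
  obtain ⟨t, htdef⟩ : ∃ t, t = three.2.2.2.2 := ⟨_, rfl⟩
  rw [← hadef] at hoa ha hsa hab hta hind
  rw [← hbdef] at hob hsa hsb hab htb hind
  rw [← hcdef] at hoc hsb hind
  rw [← hsdef] at hos hs hsa hsb
  rw [← htdef] at hot hta htb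
  have e1 := prod_eq (l := [a, a, a]) (r := []) (by simp [hoa]) (by simp) (by simpa [wordC] using ha)
  have e2 := prod_eq (l := [s, s, s]) (r := []) (by simp [hos]) (by simp) (by simpa [wordC] using hs)
  have e3 := prod_eq (l := [s, a]) (r := [b, s]) (by simp [hoa, hos]) (by simp [hob, hos]) hsa
  have e4 := prod_eq (l := [s, b]) (r := [c, s]) (by simp [hob, hos]) (by simp [hoc, hos]) hsb
  have e5 := prod_eq (l := [a, b]) (r := [b, a]) (by simp [hoa, hob]) (by simp [hoa, hob]) hab
  have e6 := prod_eq (l := [a, t, a]) (r := [t]) (by simp [hoa, hot]) (by simp [hot]) hta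
  have e7 := prod_eq (l := [t, b]) (r := [b, t]) (by simp [hob, hot]) (by simp [hob, hot]) htb
  simp only [List.map_cons, List.map_nil, List.prod_cons, List.prod_nil, mul_one] at e1 e2 e3 e4 e5 e6 e7
  refine not_stem_three_wreath hσ (a := el a) (b := el b) (c := el c) (s := el s) (t := el t)
    (by rw [mul_assoc]; exact e1) (by rw [mul_assoc]; exact e2) (mul_inv_eq_of_eq_mul e3)
    (mul_inv_eq_of_eq_mul e4) e5 ?_ (mul_inv_eq_of_eq_mul e7) ?_ ?_
  · rw [mul_inv_eq_iff_eq_mul, eq_inv_mul_iff_mul_eq]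
    exact e6
  · intro i j k hi hj hk he
    by_contra hne
    refine prod_ne (l := List.replicate i a ++ List.replicate j b ++ List.replicate k c) (r := []) ?_ (by simp)
      ?_ ?_
    · intro d hd
      simp only [List.mem_append, List.mem_replicate] at hd
      rcases hd with (⟨-, rfl⟩ | ⟨-, rfl⟩) | ⟨-, rfl⟩ <;> assumption
    · rcases hind i hi j hj k hk with h0 | h0
      · exact absurd (by rw [beq_iff_eq] at h0; omega) hne
      · simpa [wordC] using h0
    · simpa [List.map_replicate, List.prod_replicate, mul_assoc] using he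
  · have hcard := natCard_closure_of_groupOK check_group_three
    have hset : ({el a, el b, el c, el s} : Set G0) = {x | ∃ g ∈ threeGens, el g = x} := by
      ext x
      simp [threeGens, ← hadef, ← hbdef, ← hcdef, ← hsdef, eq_comm]
    rw [hset]
    intro hd
    have hmul := (Subgroup.closure {x : G0 | ∃ g ∈ threeGens, el g = x}).card_mul_index
    rw [hcard, natCard_sp6, show threeElems.length = 81 from rfl] at hmul
    omega

set_option maxHeartbeats 1000000 in
/-- The lifts of the pair do not commute in a stem extension with kernel of prime order. -/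
theorem not_commute_lifts (Γ : Type u) [Group Γ] [Finite Γ] (σ : Γ →* G0)
    (hσ : Cfsg.IsStemExtension σ) (hprime : (Nat.card σ.ker).Prime) (a b : Γ) (ha : σ a = pairx)
    (hb : σ b = pairy) : a * b ≠ b * a := by
  intro hab
  obtain ⟨p, hpdef⟩ : ∃ p, p = Nat.card σ.ker := ⟨_, rfl⟩
  by_cases h2 : p = 2
  · rw [hpdef] at h2
    obtain ⟨a0, ha0⟩ := hσ.1 (gen 0)
    obtain ⟨a1, ha1⟩ := hσ.1 (gen 1)
    obtain ⟨a2, ha2⟩ := hσ.1 (gen 2)
    obtain ⟨a3, ha3⟩ := hσ.1 (gen 3)
    obtain ⟨a4, ha4⟩ : ∃ x, x = (a0 * a2)⁻¹ * (a2 * a0) := ⟨_, rfl⟩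
    obtain ⟨a5, ha5⟩ : ∃ x, x = (a1 * a2)⁻¹ * (a2 * a1) := ⟨_, rfl⟩
    obtain ⟨a6, ha6⟩ : ∃ x, x = (a0 * a3)⁻¹ * (a3 * a0) := ⟨_, rfl⟩
    obtain ⟨a7, ha7⟩ : ∃ x, x = (a1 * a4)⁻¹ * (a4 * a1) := ⟨_, rfl⟩
    obtain ⟨a8, ha8⟩ : ∃ x, x = (a2 * a7)⁻¹ * (a7 * a2) := ⟨_, rfl⟩
    obtain ⟨A, hA⟩ : ∃ A : ℕ → Γ, A = fun i => [a0, a1, a2, a3, a4, a5, a6, a7, a8].getD i 1 := ⟨_, rfl⟩
    have hside := check_side
    simp only [sideOK, Bool.and_eq_true, List.all_eq_true, List.mem_range] at hside
    obtain ⟨⟨⟨⟨⟨hconjs, -⟩, hpow⟩, -⟩, -⟩, hinj⟩ := hside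
    have hdef : ∀ {x y z : Γ} {i j k : ℕ}, j < 9 → i ≤ j → TailCert.rep 9 rhs j i = [i, j, k] →
        σ x = gen i → σ y = gen j → z = (x * y)⁻¹ * (y * x) → σ z = gen k := by
      intro x y z i j k hj hi hrep hx hy hz
      rw [hz, map_mul, map_inv, map_mul, map_mul, hx, hy, gen_rel hj hi, hrep]
      simp [TailCert.pw, mul_assoc]
    have e4 : σ a4 = gen 4 := hdef (by omega) (by omega) rep_init.1 ha0 ha2 ha4
    have e5 : σ a5 = gen 5 := hdef (by omega) (by omega) rep_init.2.1 ha1 ha2 ha5
    have e6 : σ a6 = gen 6 := hdef (by omega) (by omega) rep_init.2.2.1 ha0 ha3 ha6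
    have e7 : σ a7 = gen 7 := hdef (by omega) (by omega) rep_init.2.2.2.1 ha1 e4 ha7
    have e8 : σ a8 = gen 8 := hdef (by omega) (by omega) rep_init.2.2.2.2 ha2 e7 ha8
    have hAg : ∀ i < 9, σ (A i) = gen i := by
      intro i hi
      rcases (show i = 0 ∨ i = 1 ∨ i = 2 ∨ i = 3 ∨ i = 4 ∨ i = 5 ∨ i = 6 ∨ i = 7 ∨ i = 8 by omega) with
        rfl | rfl | rfl | rfl | rfl | rfl | rfl | rfl | rfl <;> simp [hA, ha0, ha1, ha2, ha3, e4, e5, e6, e7, e8]
    have hpwA : ∀ l : List ℕ, (∀ i ∈ l, i < 9) → σ (TailCert.pw A l) = TailCert.pw gen l := by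
      intro l hl
      rw [TailCert.pw, TailCert.pw, map_list_prod, List.map_map]
      exact congrArg List.prod (List.map_congr_left fun i hi => hAg i (hl i hi))
    refine TailCert.not_stem_two_of_tails hσ h2 9 4 rhs pairX pairY init ders A ?_ ?_ ?_ ?_ ?_ ?_
      (by norm_num) check_tails
    · intro c d hc hd
      rw [map_mul, hAg c hc, hAg d (by omega), hpwA _ (rep_lt c d hc hd), gen_rel hc hd]
    · intro c d hc hd hbit
      have hcd : (c = 2 ∧ d = 0) ∨ (c = 2 ∧ d = 1) ∨ (c = 3 ∧ d = 0) ∨ (c = 4 ∧ d = 1) ∨ (c = 7 ∧ d = 2) := by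
        have hall : ((List.range 9).all fun c => (List.range (c + 1)).all fun d =>
            !init.testBit (TailCert.tidx c d) ||
              (c == 2 && d == 0 || c == 2 && d == 1 || c == 3 && d == 0 || c == 4 && d == 1 ||
                c == 7 && d == 2)) = true := by decide +kernel
        simp only [List.all_eq_true, List.mem_range, Bool.or_eq_true, Bool.not_eq_true',
          Bool.and_eq_true, beq_iff_eq] at hall
        have := hall c hc d (by omega)
        rw [hbit] at this
        tauto
      rcases hcd with ⟨rfl, rfl⟩ | ⟨rfl, rfl⟩ | ⟨rfl, rfl⟩ | ⟨rfl, rfl⟩ | ⟨rfl, rfl⟩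
      · simp [rep_init.1, TailCert.pw, hA, ha4, mul_assoc]
      · simp [rep_init.2.1, TailCert.pw, hA, ha5, mul_assoc]
      · simp [rep_init.2.2.1, TailCert.pw, hA, ha6, mul_assoc]
      · simp [rep_init.2.2.2.1, TailCert.pw, hA, ha7, mul_assoc]
      · simp [rep_init.2.2.2.2, TailCert.pw, hA, ha8, mul_assoc]
    · intro d hd f hf x x' h c he
      subst he
      have := hpow d hd _ hf
      simp only [Bool.and_eq_true, decide_eq_true_eq] at this
      obtain ⟨⟨⟨hx, hx'⟩, hc⟩, heq⟩ := this
      have hcok : ok (conjs.getD c 0) = true := by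
        rw [List.getD_eq_getElem?_getD, List.getElem?_eq_getElem hc, Option.getD_some]
        exact hconjs _ (List.getElem_mem hc)
      obtain ⟨g, hg⟩ := hσ.1 (el (conjs.getD c 0))
      refine ⟨g, ?_⟩
      rw [map_mul, map_mul, map_inv, hg, hpwA x hx, hpwA x' hx', pw_gen, pw_gen, mul_inv_eq_iff_eq_mul]
      have h1 := prod_eq (l := conjs.getD c 0 :: x.map code) (r := x'.map code ++ [conjs.getD c 0]) (fun e he => by
          rcases List.mem_cons.1 he with rfl | he
          · exact hcok
          · exact ok_map hx e he) (fun e he => by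
          rcases List.mem_append.1 he with he | he
          · exact ok_map hx' e he
          · exact List.mem_singleton.1 he ▸ hcok) heq
      simpa using h1
    · intro e he h1
      have hl : ∀ i ∈ TailCert.letters 9 e, i < 9 := fun i hi => List.mem_range.1 (List.mem_filter.1 hi).1
      by_contra hne
      rw [hpwA _ hl, pw_gen] at h1
      refine prod_ne (ok_map hl) (r := []) (by simp) ?_ (by simpa using h1)
      have h2 := hinj e (by simpa using he)
      have hcodes : twoCodes.getD e 0 = wordC ((TailCert.letters 9 e).map code) := by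
        have hg := check_group_two
        simp only [groupOK, Bool.and_eq_true, beq_iff_eq] at hg
        rw [← hg.1.1.1.1.1, twoWords, List.map_map, List.getD_eq_getElem?_getD,
          List.getElem?_eq_getElem (by simpa using he), Option.getD_some, List.getElem_map, List.getElem_range]
        rfl
      rw [hcodes] at h2
      simpa [hne, wordC] using h2
    · have hcard := natCard_closure_of_groupOK check_group_two
      have hset : Set.range (fun i : Fin 9 => σ (A i)) = {x | ∃ g ∈ pcGens, el g = x} := by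
        ext x
        constructor
        · rintro ⟨i, rfl⟩
          refine ⟨code i, ?_, ?_⟩
          · have : ∀ i : Fin 9, code i ∈ pcGens := by decide +kernel
            exact this i
          · show el (code i) = σ (A i)
            rw [hAg i i.2, gen]
        · rintro ⟨g, hg, rfl⟩
          have : ∀ g ∈ pcGens, ∃ i : Fin 9, code i = g := by decide +kernel
          obtain ⟨i, rfl⟩ := this g hg
          exact ⟨i, hAg i i.2⟩
      rw [hset]
      intro hd
      have hmul := (Subgroup.closure {x : G0 | ∃ g ∈ pcGens, el g = x}).card_mul_index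
      rw [hcard, natCard_sp6, show twoWords.length = 512 from rfl] at hmul
      omega
    · have hX : σ a = σ (TailCert.pw A pairX) := by rw [ha, hpwA _ (by decide)]; simp [pairx, pairX, TailCert.pw]
      have hY : σ b = σ (TailCert.pw A pairY) := by rw [hb, hpwA _ (by decide)]; simp [pairy, pairY, TailCert.pw]
      rw [← commutatorElement_eq_one_iff_mul_comm, ← commutator_congr hσ.2.1 hX hY,
        commutatorElement_eq_one_iff_mul_comm]
      exact hab
  by_cases h3 : p = 3
  · exact not_stem_three σ hσ (hpdef.symm.trans h3)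
  rw [← hpdef] at hprime
  refine Multiplier.not_stem_of_not_sq_dvd hσ hprime ?_ hpdef.symm
  rw [natCard_sp6]
  intro hd
  have hp : p ∣ 1451520 := (dvd_pow_self p two_ne_zero).trans hd
  rw [show 1451520 = 2 ^ 9 * (3 ^ 4 * (5 * 7)) by norm_num] at hp
  have hs : ∀ q k, q.Prime → p ∣ q ^ k → p = q := fun q k hq h =>
    (Nat.prime_dvd_prime_iff_eq hprime hq).1 (hprime.dvd_of_dvd_pow h)
  rcases hprime.dvd_mul.1 hp with h | h
  · exact h2 (hs 2 _ Nat.prime_two h)
  rcases hprime.dvd_mul.1 h with h | h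
  · exact h3 (hs 3 _ Nat.prime_three h)
  rcases hprime.dvd_mul.1 h with h | h
  · rw [(Nat.prime_dvd_prime_iff_eq hprime (by norm_num)).1 h] at hd; norm_num at hd
  · rw [(Nat.prime_dvd_prime_iff_eq hprime (by norm_num)).1 h] at hd; norm_num at hd

end Cfsg.Agent.Multiplier.Sp6
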