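import Cfsg.Agent.Lib.Multiplier.Sp6Data
import Cfsg.Agent.Lib.Multiplier.Sp6Mat

/-!
# Kernel checks for the multiplier of Sp6(2)
-/

set_option autoImplicit false

namespace Cfsg.Agent.Multiplier.Sp6

open Sp6Data

/-- The list `elems` of codes is closed under `gens` (`nx` gives the index of a product) and has no
repetition; `words` express the elements in `gens`. -/
def groupOK (gens : List ℕ) (words : List (List ℕ)) (elems : List ℕ) (nx : ℕ → ℕ → ℕ) : Bool :=
  (words.map wordC == elems) && gens.all ok && (words.all fun l => l.all gens.contains) && elems.contains oneC &&
  ((List.range words.length).all fun i => (List.range gens.length).all fun k =>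
    let e := elems.getD i 0
    let g := gens.getD k 0
    let j := nx i k
    decide (j < words.length) && elems.getD j 0 == mulC e g) &&
  (List.range words.length).all fun i => (List.range i).all fun j => elems.getD i 0 != elems.getD j 0

/-- The code of a polycyclic generator. -/
def code (i : ℕ) : ℕ := pcGens.getD i 0

/-- The words of the 512 elements of the Sylow 2-subgroup. -/
def twoWords : List (List ℕ) := (List.range 512).map fun e => (TailCert.letters 9 e).map code

/-- The index of a product in the Sylow 2-subgroup. -/
def twoNext (e i : ℕ) : ℕ :=
  (TailCert.nf 9 rhs (TailCert.letters 9 e ++ [i])).1.foldr (fun j m => m ||| (1 <<< j)) 0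

/-- The Sylow 3-generators. -/
def threeGens : List ℕ := [three.1, three.2.1, three.2.2.1, three.2.2.2.1]

/-- The elements of the Sylow 3-subgroup as words. -/
def threeElems : List (List ℕ) := threeWords.map fun l => l.map fun i => threeGens.getD i 0

/-- The index of a product in the Sylow 3-subgroup. -/
def threeNext (e k : ℕ) : ℕ :=
  threeCodes.idxOf (mulC (threeCodes.getD e 0) (threeGens.getD k 0))

theorem check_group_two : groupOK pcGens twoWords twoCodes twoNext = true := by decide +kernel
theorem check_group_three : groupOK threeGens threeElems threeCodes threeNext = true := by decide +kernel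
theorem check_tails : TailCert.check 9 4 rhs pairX pairY init ders = true := by decide +kernel

/-- The relations and conjugations used by the tail certificate. -/
def sideOK : Bool :=
  conjs.all ok &&
  ((List.range 9).all fun a => (List.range (a + 1)).all fun b =>
    wordC [code a, code b] == wordC ((TailCert.rep 9 rhs a b).map code)) &&
  (ders.all fun d => d.2.all fun f => match f with
    | .pow x x' _ c => decide (∀ i ∈ x, i < 9) && decide (∀ i ∈ x', i < 9) && decide (c < conjs.length) &&
        wordC (conjs.getD c 0 :: x.map code) == wordC (x'.map code ++ [conjs.getD c 0])
    | _ => true) &&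
  wordC [code 0, code 0] == wordC [] && wordC [code 0, code 1] == wordC [code 1, code 0] &&
  (List.range 512).all fun e => e == 0 || twoCodes.getD e 0 != oneC

theorem check_side : sideOK = true := by decide +kernel

/-- The checks for the 3-part. -/
def check3 : Bool :=
  let a := three.1
  let b := three.2.1
  let c := three.2.2.1
  let s := three.2.2.2.1
  let t := three.2.2.2.2
  [a, b, c, s, t].all ok && wordC [a, a, a] == oneC && wordC [s, s, s] == oneC &&
    wordC [s, a] == wordC [b, s] && wordC [s, b] == wordC [c, s] && wordC [a, b] == wordC [b, a] &&
    wordC [a, t, a] == wordC [t] && wordC [t, b] == wordC [b, t] &&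
    (List.range 3).all fun i => (List.range 3).all fun j => (List.range 3).all fun k =>
      (i + j + k == 0) || wordC (List.replicate i a ++ List.replicate j b ++ List.replicate k c) != oneC

theorem check_three : check3 = true := by decide +kernel

end Cfsg.Agent.Multiplier.Sp6
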