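import Cfsg.Agent.S0215
import Cfsg.Agent.Lib.Multiplier.Basic

/-!
# No double cover of a simple group with elementary abelian Sylow 2-subgroups of order 8

* `not_stem_two_eight` : the commutator pairing on such a Sylow subgroup would have a radical of
  order two, invariant under fusion, against the Z*-theorem.
-/

set_option autoImplicit false
set_option linter.style.haveILetI false

open scoped commutatorElement

namespace Cfsg.Agent.Multiplier

universe u v

variable {G : Type v} [Group G] {Γ : Type u} [Group Γ] [Finite Γ] {σ : Γ →* G}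

theorem not_stem_two_eight [Finite G] [IsSimpleGroup G] (hnc : ¬ IsMulCommutative G) (P : Sylow 2 G)
    (h8 : Nat.card P = 8) (hexp : ∀ x ∈ P, x * x = 1) (hσ : Cfsg.IsStemExtension σ) :
    Nat.card σ.ker ≠ 2 := by
  classical
  intro hK
  have hc := hσ.2.1
  choose L hL using hσ.1
  haveI := Fact.mk Nat.prime_two
  have hcen : ∀ {k : Γ}, k ∈ σ.ker → ∀ g, g * k = k * g := fun hk g => Subgroup.mem_center_iff.1 (hc hk) g
  have hkk : ∀ {z z' : Γ}, z ∈ σ.ker → z ≠ 1 → z' ∈ σ.ker → z' ≠ 1 → z = z' := by
    intro z z' hz hz1 hz' hz'1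
    haveI : Fintype σ.ker := Fintype.ofFinite _
    by_contra hne
    have h3 : ({1, ⟨z, hz⟩, ⟨z', hz'⟩} : Finset σ.ker).card = 3 := Finset.card_eq_three.2
      ⟨_, _, _, fun h => hz1 (congrArg Subtype.val h).symm, fun h => hz'1 (congrArg Subtype.val h).symm,
        fun h => hne (congrArg Subtype.val h), rfl⟩
    have := Finset.card_le_univ ({1, ⟨z, hz⟩, ⟨z', hz'⟩} : Finset σ.ker)
    rw [h3, ← Nat.card_eq_fintype_card, hK] at this
    omega
  have hsq : ∀ {z : Γ}, z ∈ σ.ker → z * z = 1 := by
    intro z hz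
    have h := congrArg Subtype.val (pow_card_eq_one' (x := (⟨z, hz⟩ : σ.ker)))
    rw [hK] at h
    simpa [pow_two] using h
  have hcomm : ∀ {x y : G}, x ∈ P → y ∈ P → Commute x y := by
    intro x y hx hy
    have hinv : ∀ {w : G}, w ∈ P → w⁻¹ = w := fun hw => inv_eq_of_mul_eq_one_left (hexp _ hw)
    calc x * y = (x * y)⁻¹ := (hinv (mul_mem hx hy)).symm
      _ = y * x := by rw [mul_inv_rev, hinv hx, hinv hy]
  let C : G → G → Γ := fun x y => ⁅L x, L y⁆
  have hCk : ∀ {x y : G}, Commute x y → C x y ∈ σ.ker := fun h => by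
    rw [MonoidHom.mem_ker, map_commutatorElement, hL, hL, commutatorElement_eq_one_iff_commute]
    exact h
  have hCmul : ∀ {x y w : G}, Commute y w → C (x * y) w = C y w * C x w := by
    intro x y w hyw
    show ⁅L (x * y), L w⁆ = _
    rw [commutator_congr hc (x' := L x * L y) (y' := L w) (by rw [map_mul, hL, hL, hL]) rfl]
    calc ⁅L x * L y, L w⁆ = L x * C y w * (L x)⁻¹ * C x w := by
          simp only [C, commutatorElement_def]; group
      _ = C y w * C x w := by rw [hcen (hCk hyw) (L x), mul_inv_cancel_right]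
  have hCsymm : ∀ x y, C y x = (C x y)⁻¹ := fun x y => (commutatorElement_inv _ _).symm
  have hCone : ∀ y, C 1 y = 1 := fun y => by
    show ⁅L 1, L y⁆ = 1
    rw [commutator_congr hc (x' := (1 : Γ)) (y' := L y) (by rw [hL, map_one]) rfl, commutatorElement_one_left]
  have hCself : ∀ x, C x x = 1 := fun x => commutatorElement_self _
  let rad : Subgroup G :=
    { carrier := {x | x ∈ P ∧ ∀ y ∈ P, C x y = 1}
      one_mem' := ⟨one_mem _, fun y _ => hCone y⟩
      mul_mem' := fun {a b} ha hb => ⟨mul_mem ha.1 hb.1, fun y hy => by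
        rw [hCmul (hcomm hb.1 hy), ha.2 y hy, hb.2 y hy, one_mul]⟩
      inv_mem' := fun {a} ha => ⟨inv_mem ha.1, fun y hy => by
        have h := hCmul (x := a⁻¹) (hcomm ha.1 hy)
        rwa [inv_mul_cancel, hCone, ha.2 y hy, one_mul, eq_comm] at h⟩ }
  -- a non-commuting pair of lifts
  obtain ⟨z, hzk, hz1⟩ : ∃ z ∈ σ.ker, z ≠ 1 := by
    by_contra h
    push Not at h
    rw [Subgroup.eq_bot_iff_forall _ |>.2 h, Subgroup.card_bot] at hK
    exact absurd hK (by norm_num)
  obtain ⟨a, haP, b, hbP, hab⟩ : ∃ a ∈ P, ∃ b ∈ P, C a b ≠ 1 := by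
    by_contra h
    push Not at h
    set H := (P : Subgroup G).comap σ
    have hidx : ¬ 2 ∣ H.index := by
      rw [Subgroup.index_comap_of_surjective _ hσ.1]; exact P.not_dvd_index
    have hzH : z ∈ H := by show σ z ∈ P; rw [MonoidHom.mem_ker.1 hzk]; exact one_mem _
    have h1 := Schur.mem_commutator_of_not_dvd_index Nat.prime_two H hidx hzH (hc hzk) (hσ.2.2 hzk)
      (k := 1) (by rw [pow_one, pow_two]; exact hsq hzk)
    have h2 := Subgroup.mem_map_of_mem H.subtype h1
    rw [Subgroup.map_subtype_commutator] at h2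
    have h3 : ⁅H, H⁆ ≤ ⊥ := by
      rw [Subgroup.commutator_le]
      intro x hx y hy
      rw [Subgroup.mem_bot, commutator_congr hc (x' := L (σ x)) (y' := L (σ y)) (hL _).symm (hL _).symm]
      exact h _ hx _ hy
    exact hz1 (Subgroup.mem_bot.1 (h3 h2))
  have hab1 : a ≠ 1 := by rintro rfl; exact hab (hCone b)
  have hb1 : b ≠ 1 := fun h => hab (by rw [h, hCsymm 1 a, hCone, inv_one])
  have habne : a ≠ b := by rintro rfl; exact hab (hCself a)
  have hgen : ∀ {x y w : G}, x ∈ P → y ∈ P → w ∈ P → x ≠ 1 → y ≠ 1 → x ≠ y →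
      w ∉ Subgroup.closure {x, y} → (P : Subgroup G) ≤ Subgroup.closure {x, y, w} := by
    intro x y w hx hy hw hx1 hy1 hxy hwn
    have hle : Subgroup.closure {x, y, w} ≤ (P : Subgroup G) := by
      rw [Subgroup.closure_le]; rintro _ (rfl | rfl | rfl) <;> assumption
    have h2le : Subgroup.closure {x, y} ≤ Subgroup.closure {x, y, w} :=
      Subgroup.closure_mono (by intro t ht; rcases ht with rfl | rfl <;> simp)
    have hlt : Nat.card (Subgroup.closure {x, y}) < Nat.card (Subgroup.closure {x, y, w}) := by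
      refine lt_of_le_of_ne (Subgroup.card_le_of_le h2le) fun e => hwn ?_
      rw [Subgroup.eq_of_le_of_card_ge h2le e.ge]
      exact Subgroup.subset_closure (by simp)
    have h3 : 3 ≤ Nat.card (Subgroup.closure {x, y}) := by
      haveI : Fintype (Subgroup.closure ({x, y} : Set G)) := Fintype.ofFinite _
      rw [Nat.card_eq_fintype_card]
      have h := Finset.card_le_univ ({⟨1, one_mem _⟩, ⟨x, Subgroup.subset_closure (by simp)⟩,
        ⟨y, Subgroup.subset_closure (by simp)⟩} : Finset (Subgroup.closure ({x, y} : Set G)))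
      rwa [Finset.card_eq_three.2 ⟨_, _, _, fun e => hx1 (congrArg Subtype.val e).symm,
        fun e => hy1 (congrArg Subtype.val e).symm, fun e => hxy (congrArg Subtype.val e), rfl⟩] at h
    have hd1 := Subgroup.card_dvd_of_le (h2le.trans hle)
    have hd2 := Subgroup.card_dvd_of_le hle
    rw [show Nat.card (P : Subgroup G) = 8 from h8] at hd1 hd2
    refine (Subgroup.eq_of_le_of_card_ge hle ?_).ge
    rw [show Nat.card (P : Subgroup G) = 8 from h8]
    have h8' : Nat.card (Subgroup.closure {x, y, w}) ≤ 8 := Nat.le_of_dvd (by norm_num) hd2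
    generalize Nat.card (Subgroup.closure {x, y}) = p at *
    generalize Nat.card (Subgroup.closure {x, y, w}) = r at *
    interval_cases r <;> interval_cases p <;> omega
  have hexists : ∀ {x y : G}, x ∈ P → y ∈ P → ∃ w ∈ P, w ∉ Subgroup.closure {x, y} := by
    intro x y hx hy
    by_contra h
    push Not at h
    have h1 : Nat.card (P : Subgroup G) ≤ Nat.card (Subgroup.closure {x, y}) := Subgroup.card_le_of_le h
    have h4 : Nat.card (Subgroup.closure {x, y}) ≤ 4 := by
      have hS : (Subgroup.closure ({x, y} : Set G) : Set G) ⊆ (({1, x, y, x * y} : Finset G) : Set G) := by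
        intro t ht
        induction ht using Subgroup.closure_induction with
        | mem t ht => rcases ht with rfl | rfl <;> simp
        | one => simp
        | mul s t hs ht ihs iht =>
          have hP : ∀ t ∈ (({1, x, y, x * y} : Finset G) : Set G), t ∈ P := by
            intro t ht; simp at ht
            rcases ht with rfl | rfl | rfl | rfl
            · exact one_mem _
            · exact hx
            · exact hy
            · exact mul_mem hx hy
          have hxx := hexp x hx
          have hyy := hexp y hy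
          have hyx : y * x = x * y := hcomm hy hx
          have e1 : x * y * x = y := by rw [mul_assoc, hyx, ← mul_assoc, hxx, one_mul]
          have e2 : x * y * y = x := by rw [mul_assoc, hyy, mul_one]
          have e3 : x * y * x * y = 1 := by rw [e1, hyy]
          simp only [Finset.coe_insert, Finset.coe_singleton, Set.mem_insert_iff, Set.mem_singleton_iff] at ihs iht ⊢
          rcases ihs with rfl | rfl | rfl | rfl <;> rcases iht with rfl | rfl | rfl | rfl <;>
            simp only [one_mul, mul_one, ← mul_assoc, hxx, hyy, hyx, e1, e2, e3, true_or, or_true]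
        | inv s hs ih =>
          have hsP : s ∈ P := (Subgroup.closure_le (K := (P : Subgroup G))).2
            (by rintro _ (rfl | rfl) <;> assumption) hs
          rw [inv_eq_of_mul_eq_one_left (hexp s hsP)]
          exact ih
      have := Nat.card_mono (Finset.finite_toSet ({1, x, y, x * y} : Finset G)) hS
      refine le_trans this ?_
      rw [Nat.card_coe_set_eq, Set.ncard_coe_finset]
      exact Finset.card_le_four
    rw [show Nat.card (P : Subgroup G) = 8 from h8] at h1
    omega
  -- the radical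
  obtain ⟨c₀, hc₀P, hc₀⟩ := hexists haP hbP
  have hCab : ∀ {x y : G}, Commute x y → C x y ≠ 1 → C x y = C a b := fun h h1 =>
    hkk (hCk h) h1 (hCk (hcomm haP hbP)) hab
  have hzz : C a b * C a b = 1 := hsq (hCk (hcomm haP hbP))
  have hCba : C b a = C a b := by
    rw [hCsymm a b, inv_eq_of_mul_eq_one_left hzz]
  obtain ⟨c₁, hc₁P, hc₁, hc₁a⟩ : ∃ c ∈ P, c ∉ Subgroup.closure {a, b} ∧ C c a = 1 := by
    by_cases h : C c₀ a = 1
    · exact ⟨c₀, hc₀P, hc₀, h⟩
    · refine ⟨c₀ * b, mul_mem hc₀P hbP, fun h' => hc₀ ?_, ?_⟩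
      · simpa using mul_mem h' (inv_mem (Subgroup.subset_closure (show b ∈ ({a, b} : Set G) by simp)))
      · rw [hCmul (hcomm hbP haP), hCab (hcomm hc₀P haP) h, hCba, hzz]
  obtain ⟨c, hcP, hcn, hca, hcb⟩ : ∃ c ∈ P, c ∉ Subgroup.closure {a, b} ∧ C c a = 1 ∧ C c b = 1 := by
    by_cases h : C c₁ b = 1
    · exact ⟨c₁, hc₁P, hc₁, hc₁a, h⟩
    · refine ⟨c₁ * a, mul_mem hc₁P haP, fun h' => hc₁ ?_, ?_, ?_⟩
      · simpa using mul_mem h' (inv_mem (Subgroup.subset_closure (show a ∈ ({a, b} : Set G) by simp)))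
      · rw [hCmul (hcomm haP haP), hc₁a, hCself, one_mul]
      · rw [hCmul (hcomm haP hbP), hCab (hcomm hc₁P hbP) h, hzz]
  have hleft : ∀ {x : G}, x ∈ P → ∀ {S : Set G}, S ⊆ P → (∀ s ∈ S, C s x = 1) →
      ∀ y ∈ Subgroup.closure S, C y x = 1 := by
    intro x hx S hS h y hy
    have : Subgroup.closure S ≤
        { carrier := {y | y ∈ P ∧ C y x = 1}
          one_mem' := ⟨one_mem _, hCone x⟩
          mul_mem' := fun {a b} ha hb => ⟨mul_mem ha.1 hb.1, by rw [hCmul (hcomm hb.1 hx), ha.2, hb.2, one_mul]⟩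
          inv_mem' := fun {a} ha => ⟨inv_mem ha.1, by
            have h := hCmul (x := a⁻¹) (hcomm ha.1 hx)
            rwa [inv_mul_cancel, hCone, ha.2, one_mul, eq_comm] at h⟩ : Subgroup G } :=
      (Subgroup.closure_le _).2 fun s hs => ⟨hS hs, h s hs⟩
    exact (this hy).2
  have hS : ({a, b, c} : Set G) ⊆ P := by rintro _ (rfl | rfl | rfl) <;> assumption
  have hcr : c ∈ rad := by
    refine ⟨hcP, fun y hy => ?_⟩
    have := hleft hcP hS (by
      rintro t (ht | ht | ht) <;> rw [ht]
      · rw [hCsymm c a, hca, inv_one]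
      · rw [hCsymm c b, hcb, inv_one]
      · exact hCself c) y (hgen haP hbP hcP hab1 hb1 habne hcn hy)
    rw [hCsymm y c, this, inv_one]
  have hc1 : c ≠ 1 := fun h => hcn (h ▸ one_mem _)
  have huniq : ∀ x ∈ rad, x ≠ 1 → x = c := by
    intro x hx hx1
    by_contra hne
    obtain ⟨w, hwP, hw⟩ := hexists hx.1 hcP
    have hS' : ({x, c, w} : Set G) ⊆ P := by
      rintro _ (rfl | rfl | rfl)
      · exact hx.1
      · exact hcP
      · exact hwP
    refine hab (hleft hbP hS' ?_ a (hgen hx.1 hcP hwP hx1 hc1 hne hw haP))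
    rintro s (rfl | rfl | rfl)
    · exact hx.2 b hbP
    · exact hcr.2 b hbP
    · rw [hCsymm b s, inv_eq_one]
      refine hleft hwP hS' ?_ b (hgen hx.1 hcP hwP hx1 hc1 hne hw hbP)
      rintro t (rfl | rfl | rfl)
      · exact hx.2 _ hwP
      · exact hcr.2 _ hwP
      · exact hCself _
  -- the radical is invariant under fusion
  have hiso : ∀ g : G, g * c * g⁻¹ ∈ P → g * c * g⁻¹ = c := by
    intro g hy
    set y := g * c * g⁻¹ with hyd
    have hy1 : y ≠ 1 := fun h => hc1 (by
      rw [hyd, mul_inv_eq_one] at h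
      exact mul_left_cancel (h.trans (mul_one g).symm))
    refine huniq y ⟨hy, fun x hx => ?_⟩ hy1
    let φ : ↥(Subgroup.centralizer ({y} : Set G)) →* ↥σ.ker :=
      { toFun := fun h => ⟨C h y, hCk (Subgroup.mem_centralizer_singleton_iff.1 h.2)⟩
        map_one' := Subtype.ext (hCone y)
        map_mul' := fun h h' => Subtype.ext (by
          show C ((h : G) * h') y = C h y * C h' y
          rw [hCmul (Subgroup.mem_centralizer_singleton_iff.1 h'.2)]
          exact (hcen (hCk (Subgroup.mem_centralizer_singleton_iff.1 h'.2)) _).symm) }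
    set Q := (P : Subgroup G).map (MulAut.conj g).toMonoidHom with hQd
    have hQ : ∀ q ∈ Q, Commute q y ∧ C q y = 1 := by
      rintro q ⟨p, hp, rfl⟩
      refine ⟨by simpa [hyd] using (hcomm hp hcP).map (MulAut.conj g).toMonoidHom, ?_⟩
      show ⁅L (g * p * g⁻¹), L y⁆ = 1
      rw [commutator_congr hc (x' := L g * L p * (L g)⁻¹) (y' := L g * L c * (L g)⁻¹)
        (by simp [hL]) (by simp [hL, hyd]), ← conj_commutator, show ⁅L p, L c⁆ = C p c from rfl,
        hCsymm c p, hcr.2 p hp, inv_one, mul_one, mul_inv_cancel]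
    have hQle : Q ≤ Subgroup.centralizer ({y} : Set G) := fun q hq =>
      Subgroup.mem_centralizer_singleton_iff.2 (hQ q hq).1
    have hker : Q.subgroupOf (Subgroup.centralizer ({y} : Set G)) ≤ φ.ker := fun q hq =>
      Subtype.ext (hQ _ hq).2
    have hQidx : ¬ 2 ∣ Q.index := by
      rw [hQd, show Q.index = (P : Subgroup G).index by
        rw [hQd]; exact Subgroup.index_map_of_bijective (MulAut.conj g).bijective _]
      exact P.not_dvd_index
    have htop : φ.ker = ⊤ := by
      rw [← Subgroup.index_eq_one]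
      have h2 : φ.ker.index ∣ 2 := by
        rw [Subgroup.index_ker, ← hK]; exact Subgroup.card_subgroup_dvd_card _
      have hodd : φ.ker.index ∣ Q.index :=
        (Subgroup.index_dvd_of_le hker).trans (Subgroup.relIndex_dvd_index_of_le hQle)
      rcases (Nat.dvd_prime Nat.prime_two).1 h2 with h | h
      · exact h
      · exact absurd (h ▸ hodd) hQidx
    have hxy : C x y = 1 := congrArg Subtype.val (show φ ⟨x, Subgroup.mem_centralizer_singleton_iff.2
      (hcomm hx hy)⟩ = 1 from MonoidHom.mem_ker.1 (htop ▸ Subgroup.mem_top _))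
    rw [hCsymm x y, hxy, inv_one]
  have hcord : orderOf c = 2 := orderOf_eq_prime (by rw [pow_two]; exact hexp c hcP) hc1
  obtain ⟨N, hN, hodd, hcN⟩ := Cfsg.Agent.S0215.result P c hcord hcP hiso
  rcases hN.eq_bot_or_eq_top with rfl | rfl
  · have hcc : c ∈ Subgroup.center G := Subgroup.mem_center_iff.2 fun g => by
      have := Subgroup.mem_bot.1 (hcN g)
      rw [mul_inv_eq_one, mul_inv_eq_iff_eq_mul] at this
      exact this.symm
    rcases (inferInstance : (Subgroup.center G).Normal).eq_bot_or_eq_top with h | h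
    · exact hc1 (Subgroup.mem_bot.1 (h ▸ hcc))
    · exact hnc ⟨⟨fun p q => ((Subgroup.mem_center_iff.1 (h ▸ Subgroup.mem_top p)) q).symm⟩⟩
  · rw [Subgroup.card_top] at hodd
    have h2 : 2 ∣ Nat.card G := dvd_trans (by rw [h8]; norm_num) (Subgroup.card_subgroup_dvd_card (P : Subgroup G))
    exact (Nat.not_even_iff_odd.2 hodd) (even_iff_two_dvd.2 h2)

end Cfsg.Agent.Multiplier
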