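import Cfsg.Agent.Lib.Multiplier.TailFull

/-!
# Tail certificates with stability equations

The tails of a double extension of a 2-group are bounded by consistency, by a commuting pair, by
adjusting the lifts of the generators and by transporting relations with even exponents along a
conjugation of the whole group.

* `relForm`, `relForm_sound`: a transported relation gives an equation on the tails.
* `not_stem_two_of_stable`: no double stem extension in which the pair commutes.
-/

set_option autoImplicit false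

open scoped commutatorElement

namespace Cfsg.Agent.Multiplier.TailCert

universe u v

/-- A word in the elements `xs` as a word in the letters. -/
def catW (xs : List (List ℕ)) (l : List ℕ) : List ℕ := l.flatMap fun i => xs.getD i []

/-- The parities of the exponents. -/
def parity : List ℕ → ℕ
  | [] => 0
  | i :: l => parity l ^^^ (1 <<< i)

/-- The xor of the forms `sel` over a word. -/
def selXor (sel : List ℕ) : List ℕ → ℕ
  | [] => 0
  | i :: l => sel.getD i 0 ^^^ selXor sel l

/-- A relation transported by a conjugation. -/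
structure Stab where
  /-- Index of the conjugating element. -/
  c : ℕ
  /-- The elements. -/
  xs : List (List ℕ)
  /-- Their conjugates. -/
  ys : List (List ℕ)
  /-- Left side. -/
  lw : List ℕ
  /-- Right side. -/
  rw : List ℕ

/-- The equation of a transported relation. -/
def relForm (n : ℕ) (w : List ℕ) (r : Stab) : Option ℕ :=
  let a := nf n w (catW r.xs r.lw)
  let b := nf n w (catW r.xs r.rw)
  let a' := nf n w (catW r.ys r.lw)
  let b' := nf n w (catW r.ys r.rw)
  if a.1 = b.1 ∧ a'.1 = b'.1 ∧ parity r.lw = parity r.rw ∧ r.lw.all (· < r.xs.length) ∧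
      r.rw.all (· < r.xs.length) then
    some (a.2 ^^^ b.2 ^^^ (a'.2 ^^^ b'.2)) else none

/-- The xor of the selected equations. -/
def combForms : List (Option ℕ) → ℕ → Option ℕ
  | [], _ => some 0
  | e :: l, s =>
    if s.testBit 0 then e.bind fun f => (combForms l (s / 2)).map fun g => f ^^^ g
    else combForms l (s / 2)

/-- All equations. -/
def stableForms (n : ℕ) (w X Y : List ℕ) (cons : List Fact) (stabs : List Stab) (fixed : List ℕ) :
    List (Option ℕ) :=
  cons.map (Fact.form n w X Y) ++ stabs.map (relForm n w) ++ fixed.map fun k => some (1 <<< k)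

/-- The lifts can be adjusted so that the tails in `fixed` vanish. -/
def shiftOK (n : ℕ) (w : List ℕ) (sel : List ℕ) (fixed : List ℕ) : Bool :=
  fixed.all fun k =>
    match (pairs n).getD k (0, 0) with
    | (a, b) => decide (a < n) && decide (b ≤ a) && (tidx a b == k) &&
        (selXor sel [a, b] ^^^ selXor sel (rep n w a b)) == 1 <<< k

/-- Every tail is a sum of equations. -/
def stableOK (n : ℕ) (w X Y : List ℕ) (cons : List Fact) (stabs : List Stab) (fixed : List ℕ)
    (ders : List ℕ) : Bool :=
  let fs := stableForms n w X Y cons stabs fixed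
  (cons.all fun a => match a with | .pow _ _ _ _ => false | _ => true) &&
  ((List.range (pairs n).length).all fun k => combForms fs (ders.getD k 0) == some (1 <<< k))

section

variable {Γ : Type u} [Group Γ] {G : Type v} [Group G] {σ : Γ →* G} {n N : ℕ} {w : List ℕ}
  {A T : ℕ → Γ}
  (hc : ∀ k x, x * T k = T k * x) (hsq : ∀ k, T k * T k = 1)
  (hrel : ∀ a b, a < n → b ≤ a → A a * A b = pw A (rep n w a b) * T (tidx a b))
  (hN : ∀ a b, a < n → b ≤ a → tidx a b < N)

include hc hsq hrel hN in
/-- A transported relation gives an equation. -/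
theorem relForm_sound (hker : σ.ker ≤ Subgroup.center Γ) (htwo : ∀ z ∈ σ.ker, z * z = 1)
    (r : Stab) (g : Γ)
    (hg : ∀ i, σ (g * pw A (r.xs.getD i []) * g⁻¹) = σ (pw A (r.ys.getD i [])))
    {f : ℕ} (hf : relForm n w r = some f) : fval T N f = 1 := by
  have hxor := fval_xor (T := T) hc hsq N
  obtain ⟨Z, hZ⟩ : ∃ Z : ℕ → Γ, ∀ i, Z i = (g * pw A (r.xs.getD i []) * g⁻¹)⁻¹ * pw A (r.ys.getD i []) :=
    ⟨_, fun _ => rfl⟩
  have hZk : ∀ i, Z i ∈ σ.ker := fun i => by
    rw [hZ, MonoidHom.mem_ker, map_mul, map_inv, hg, inv_mul_cancel]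
  have hZc : ∀ k x, x * Z k = Z k * x := fun k => Subgroup.mem_center_iff.1 (hker (hZk k))
  have hZs : ∀ k, Z k * Z k = 1 := fun k => htwo _ (hZk k)
  have key : ∀ l : List ℕ, (∀ i ∈ l, i < r.xs.length) →
      pw A (catW r.ys l) = g * pw A (catW r.xs l) * g⁻¹ * fval Z r.xs.length (parity l) := by
    intro l
    induction l with
    | nil => intro _; simp [catW, parity, pw, fval_zero]
    | cons i l ih =>
      intro hl
      have hy : pw A (r.ys.getD i []) = g * pw A (r.xs.getD i []) * g⁻¹ * Z i := by rw [hZ]; group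
      have e : ∀ xs : List (List ℕ), catW xs (i :: l) = xs.getD i [] ++ catW xs l := fun xs => rfl
      rw [e, e, pw_append, pw_append, hy, ih fun j hj => hl j (List.mem_cons_of_mem _ hj), parity,
        fval_xor hZc hZs, fval_bit (hl i List.mem_cons_self)]
      calc g * pw A (r.xs.getD i []) * g⁻¹ * Z i *
            (g * pw A (catW r.xs l) * g⁻¹ * fval Z r.xs.length (parity l))
          = g * pw A (r.xs.getD i []) * g⁻¹ *
            (Z i * (g * pw A (catW r.xs l) * g⁻¹ * fval Z r.xs.length (parity l))) := by group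
        _ = g * pw A (r.xs.getD i []) * g⁻¹ *
            (g * pw A (catW r.xs l) * g⁻¹ * fval Z r.xs.length (parity l) * Z i) := by rw [hZc i]
        _ = _ := by group
  simp only [relForm] at hf
  split at hf
  · next he =>
    obtain rfl := Option.some.inj hf
    obtain ⟨h1, h2, hp, hl, hr⟩ := he
    simp only [List.all_eq_true, decide_eq_true_eq] at hl hr
    have hnf := nf_sound (A := A) hc hsq hrel hN
    have el := hnf (catW r.xs r.lw)
    have er := hnf (catW r.xs r.rw)
    have el' := hnf (catW r.ys r.lw)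
    have er' := hnf (catW r.ys r.rw)
    rw [← h1] at er
    rw [← h2] at er'
    have d : pw A (catW r.xs r.lw) =
        pw A (catW r.xs r.rw) * fval T N ((nf n w (catW r.xs r.rw)).2 ^^^ (nf n w (catW r.xs r.lw)).2) := by
      rw [hxor, el, er, mul_assoc, ← mul_assoc (fval T N _), ← hxor, Nat.xor_self, fval_zero, one_mul]
    have k1 := key r.lw hl
    have k2 := key r.rw hr
    rw [d, hp, ← mul_assoc g] at k1
    have k3 : pw A (catW r.ys r.lw) = pw A (catW r.ys r.rw) *
        fval T N ((nf n w (catW r.xs r.rw)).2 ^^^ (nf n w (catW r.xs r.lw)).2) := by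
      rw [k1, k2, mul_assoc (g * _), ← fval_comm hc, ← mul_assoc (g * _),
        mul_assoc _ (fval T N _), ← fval_comm hc, ← mul_assoc]
    rw [el', er', mul_assoc, mul_left_cancel_iff, ← hxor] at k3
    have hone : ∀ p q, fval T N p = fval T N q → fval T N (p ^^^ q) = 1 := fun p q h => by
      rw [hxor, h, ← hxor, Nat.xor_self, fval_zero]
    have := hone _ _ k3
    rw [← this]
    congr 1
    apply Nat.eq_of_testBit_eq
    intro i
    simp only [Nat.testBit_xor]
    cases (nf n w (catW r.xs r.lw)).2.testBit i <;> cases (nf n w (catW r.xs r.rw)).2.testBit i <;>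
      cases (nf n w (catW r.ys r.lw)).2.testBit i <;> cases (nf n w (catW r.ys r.rw)).2.testBit i <;> rfl
  · simp at hf

include hc hsq in
theorem combForms_sound : ∀ (fs : List (Option ℕ)), (∀ e ∈ fs, ∀ f, e = some f → fval T N f = 1) →
    ∀ s f, combForms fs s = some f → fval T N f = 1
  | [], _, _, f, h => by
    obtain rfl : 0 = f := Option.some.inj h
    exact fval_zero N
  | e :: l, hfs, s, f, h => by
    rw [combForms] at h
    have ih := combForms_sound l (fun e he => hfs e (List.mem_cons_of_mem _ he)) (s / 2)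
    split at h
    · simp only [Option.bind_eq_some_iff, Option.map_eq_some_iff] at h
      obtain ⟨f₁, h₁, f₂, h₂, rfl⟩ := h
      rw [fval_xor hc hsq, hfs e List.mem_cons_self f₁ h₁, ih f₂ h₂, one_mul]
    · exact ih f h

include hc hsq in
theorem shift_pw (sel : List ℕ) :
    ∀ l, pw (fun i => A i * fval T N (sel.getD i 0)) l = pw A l * fval T N (selXor sel l)
  | [] => by simp [pw, selXor, fval_zero]
  | i :: l => by
    rw [pw_cons, pw_cons, shift_pw sel l, selXor, fval_xor hc hsq]
    calc A i * fval T N (sel.getD i 0) * (pw A l * fval T N (selXor sel l))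
        = A i * (fval T N (sel.getD i 0) * pw A l) * fval T N (selXor sel l) := by group
      _ = A i * (pw A l * fval T N (sel.getD i 0)) * fval T N (selXor sel l) := by
          rw [fval_comm hc N _ (pw A l)]
      _ = _ := by group

end

/-- No double stem extension in which the pair `X, Y` commutes, from stability equations. -/
theorem not_stem_two_of_stable {Γ : Type u} [Group Γ] [Finite Γ] {G : Type v} [Group G] {σ : Γ →* G}
    (hσ : Cfsg.IsStemExtension σ) (hK : Nat.card σ.ker = 2) (n : ℕ) (w X Y : List ℕ)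
    (cons : List Fact) (stabs : List Stab) (fixed sel ders : List ℕ) (g : ℕ → G) (cj : ℕ → G)
    (hrelG : ∀ a b, a < n → b ≤ a → g a * g b = pw g (rep n w a b))
    (hX : ∀ i ∈ X, i < n) (hY : ∀ i ∈ Y, i < n)
    (hstab : ∀ r ∈ stabs, (∀ i ∈ r.xs, ∀ j ∈ i, j < n) ∧ (∀ i ∈ r.ys, ∀ j ∈ i, j < n) ∧
      ∀ i, cj r.c * pw g (r.xs.getD i []) = pw g (r.ys.getD i []) * cj r.c)
    (hinj : ∀ l, l.Sublist (List.range n) → pw g l = 1 → l = [])
    (hidx : ¬ 2 ∣ (Subgroup.closure (Set.range fun i : Fin n => g i)).index)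
    (hXY : ∀ a b : Γ, σ a = pw g X → σ b = pw g Y → a * b = b * a)
    (hshift : shiftOK n w sel fixed = true)
    (hstable : stableOK n w X Y cons stabs fixed ders = true)
    (hall : allTails n w (2 ^ (pairs n).length - 1) [] = true) : False := by
  classical
  have htwo : ∀ z ∈ σ.ker, z * z = 1 := fun z hz => by
    have := congrArg Subtype.val (pow_card_eq_one' (x := (⟨z, hz⟩ : σ.ker)))
    rwa [hK, Subgroup.coe_pow, Subgroup.coe_one, pow_two] at this
  have hker : σ.ker ≤ Subgroup.center Γ := hσ.2.1
  have hrepmem : ∀ a b, a < n → b ≤ a → ∀ i ∈ rep n w a b, i < n := fun a b ha hb i hi => by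
    rw [rep] at hi
    split at hi
    · exact List.mem_range.1 (List.mem_filter.1 hi).1
    · rcases List.mem_cons.1 hi with rfl | hi
      · omega
      rcases List.mem_cons.1 hi with rfl | hi
      · exact ha
      · exact List.mem_range.1 (List.mem_filter.1 hi).1
  have hgood : ∀ a b, a < n → b ≤ a →
      (pairs n).getD (tidx a b) (0, 0) = (a, b) ∧ tidx a b < (pairs n).length := by
    intro a b ha hb
    have h := hall
    simp only [allTails, derived, Bool.and_eq_true, List.all_eq_true, List.mem_range,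
      decide_eq_true_eq, beq_iff_eq] at h
    exact ⟨(h a ha b (by omega)).1.1.1, (h a ha b (by omega)).1.1.2⟩
  choose A0 hA0 using fun i => hσ.1 (g i)
  have hpw0 : ∀ (A : ℕ → Γ), (∀ i, σ (A i) = g i) → ∀ l, σ (pw A l) = pw g l := fun A hA l => by
    rw [pw, pw, map_list_prod, List.map_map]
    exact congrArg List.prod (List.map_congr_left fun i _ => hA i)
  let Tof : (ℕ → Γ) → ℕ → Γ := fun A k =>
    let q := (pairs n).getD k (0, 0)
    if q.1 < n ∧ q.2 ≤ q.1 then (pw A (rep n w q.1 q.2))⁻¹ * (A q.1 * A q.2) else 1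
  have hTk : ∀ A, (∀ i, σ (A i) = g i) → ∀ k, σ (Tof A k) = 1 := fun A hA k => by
    simp only [Tof]
    split
    · next hq =>
      rw [map_mul, map_inv, hpw0 A hA, map_mul, hA, hA, hrelG _ _ hq.1 hq.2, inv_mul_cancel]
    · exact map_one σ
  have hTab : ∀ A a b, a < n → b ≤ a → A a * A b = pw A (rep n w a b) * Tof A (tidx a b) := by
    intro A a b ha hb
    simp only [Tof, (hgood a b ha hb).1]
    rw [if_pos ⟨ha, hb⟩, mul_inv_cancel_left]
  have hcof : ∀ A, (∀ i, σ (A i) = g i) → ∀ k x, x * Tof A k = Tof A k * x := fun A hA k =>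
    Subgroup.mem_center_iff.1 (hker (hTk A hA k))
  have hsof : ∀ A, (∀ i, σ (A i) = g i) → ∀ k, Tof A k * Tof A k = 1 := fun A hA k =>
    htwo _ (hTk A hA k)
  obtain ⟨N, hN⟩ : ∃ N, N = (pairs n).length := ⟨_, rfl⟩
  have hNb : ∀ a b, a < n → b ≤ a → tidx a b < N := fun a b ha hb => hN ▸ (hgood a b ha hb).2
  have hc0 := hcof A0 hA0
  have hs0 := hsof A0 hA0
  obtain ⟨A, hA⟩ : ∃ A : ℕ → Γ, A = fun i => A0 i * fval (Tof A0) N (sel.getD i 0) := ⟨_, rfl⟩
  have hF : ∀ f, σ (fval (Tof A0) N f) = 1 := fun f => by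
    clear hA hNb hN
    induction N with
    | zero => exact map_one σ
    | succ N ih =>
      rw [fval, map_mul, ih, one_mul]
      split
      · exact hTk A0 hA0 N
      · exact map_one σ
  have hAσ : ∀ i, σ (A i) = g i := fun i => by rw [hA, map_mul, hF, mul_one, hA0]
  have hc := hcof A hAσ
  have hs := hsof A hAσ
  have hfix : ∀ k ∈ fixed, Tof A k = 1 := by
    intro k hk
    simp only [shiftOK, List.all_eq_true] at hshift
    have h := hshift k hk
    obtain ⟨a, b, hab⟩ : ∃ a b, (pairs n).getD k (0, 0) = (a, b) := ⟨_, _, rfl⟩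
    rw [hab] at h
    simp only [Bool.and_eq_true, decide_eq_true_eq, beq_iff_eq] at h
    obtain ⟨⟨⟨ha, hb⟩, rfl⟩, hf⟩ := h
    have e := hTab A a b ha hb
    have e1 : pw A [a, b] = A a * A b := by simp [pw]
    rw [← e1, hA, shift_pw hc0 hs0, shift_pw hc0 hs0,
      show pw A0 [a, b] = pw A0 (rep n w a b) * Tof A0 (tidx a b) by
        rw [show pw A0 [a, b] = A0 a * A0 b by simp [pw]]; exact hTab A0 a b ha hb,
      mul_assoc, mul_assoc, mul_left_cancel_iff, ← fval_bit (T := Tof A0) (hNb a b ha hb), ← fval_xor hc0 hs0,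
      ← hA, ← hf] at e
    rw [show selXor sel [a, b] ^^^ selXor sel (rep n w a b) ^^^ selXor sel [a, b] =
      selXor sel (rep n w a b) by
        rw [Nat.xor_comm (selXor sel [a, b]), Nat.xor_assoc, Nat.xor_self, Nat.xor_zero]] at e
    exact mul_eq_left.1 e.symm
  have hlift : pw A X * pw A Y = pw A Y * pw A X := hXY _ _ (hpw0 A hAσ X) (hpw0 A hAσ Y)
  simp only [stableOK, Bool.and_eq_true, List.all_eq_true, List.mem_range, beq_iff_eq] at hstable
  obtain ⟨hnp, hders⟩ := hstable
  have hforms : ∀ e ∈ stableForms n w X Y cons stabs fixed, ∀ f, e = some f → fval (Tof A) N f = 1 := by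
    intro e he f hef
    subst hef
    simp only [stableForms, List.mem_append, List.mem_map] at he
    rcases he with (⟨a, ha, hf⟩ | ⟨r, hr, hf⟩) | ⟨k, hk, hf⟩
    · refine fval_of_fact hc hs (hTab A) hNb hker htwo hlift a ?_ (hTk A hAσ) hf
      intro x x' h c e
      subst e
      exact absurd (hnp _ ha) (by simp)
    · obtain ⟨gl, hgl⟩ := hσ.1 (cj r.c)
      refine relForm_sound hc hs (hTab A) hNb hker htwo r gl (fun i => ?_) hf
      rw [map_mul, map_mul, map_inv, hgl, hpw0 A hAσ, hpw0 A hAσ, mul_inv_eq_iff_eq_mul]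
      exact (hstab r hr).2.2 i
    · obtain rfl := Option.some.inj hf
      simp only [shiftOK, List.all_eq_true] at hshift
      have h := hshift k hk
      obtain ⟨a, b, hab⟩ : ∃ a b, (pairs n).getD k (0, 0) = (a, b) := ⟨_, _, rfl⟩
      rw [hab] at h
      simp only [Bool.and_eq_true, decide_eq_true_eq, beq_iff_eq] at h
      obtain ⟨⟨⟨ha, hb⟩, he'⟩, -⟩ := h
      rw [fval_bit (he' ▸ hNb a b ha hb), hfix k hk]
  have hTone : ∀ k, k < N → Tof A k = 1 := fun k hk => by
    rw [← fval_bit (T := Tof A) hk]
    exact combForms_sound hc hs _ hforms _ _ (hders k (hN ▸ hk))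
  refine not_stem_two_of_all_tails hσ hK n w (2 ^ (pairs n).length - 1) [] A ?_ ?_ ?_ ?_ ?_ hall
  · intro a b ha hb
    rw [map_mul, hAσ, hAσ, hpw0 A hAσ, hrelG a b ha hb]
  · intro a b ha hb _
    rw [hTab A a b ha hb, hTone _ (hNb a b ha hb), mul_one]
  · simp
  · intro l hl h
    exact hinj l hl (by rwa [hpw0 A hAσ] at h)
  · simpa only [hAσ] using hidx

end Cfsg.Agent.Multiplier.TailCert
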